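/-
Symmetric bilinear forms in odd characteristic: reflections, connectedness of the anisotropic vectors,
and the few facts on alternating forms needed for tensor products of symplectic and orthogonal spaces.
-/
import Cfsg.Agent.Lib.MaxSub.TensorSymp.Forms
import Cfsg.Agent.Lib.FiniteForms.Witt
import Cfsg.Agent.Lib.WittExtension

set_option autoImplicit false
set_option linter.unusedSectionVars false

namespace CfsgLib.MaxSub.TensorSympOrth

open Module
open CfsgLib.MaxSub.TensorSymp (AForm)

variable {F : Type*} [Field F]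

/-- A non-degenerate symmetric form in odd characteristic. -/
structure SForm {U : Type*} [AddCommGroup U] [Module F U] (f : U → U → F) : Prop where
  add_left : ∀ x y z, f (x + y) z = f x z + f y z
  smul_left : ∀ (a : F) x z, f (a • x) z = a * f x z
  symm : ∀ x y, f y x = f x y
  nondeg : ∀ x, (∀ y, f x y = 0) → x = 0
  two : (2 : F) ≠ 0

namespace SForm

variable {U : Type*} [AddCommGroup U] [Module F U] {f : U → U → F} (H : SForm f)
include H

/-- The functional of a vector. -/
def lin (z : U) : U →ₗ[F] F where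
  toFun x := f x z
  map_add' x y := H.add_left x y z
  map_smul' a x := H.smul_left a x z

theorem lin_apply (x z : U) : H.lin z x = f x z := rfl

theorem zero_left (z : U) : f 0 z = 0 := map_zero (H.lin z)

theorem neg_left (x z : U) : f (-x) z = -f x z := map_neg (H.lin z) x

theorem sub_left (x y z : U) : f (x - y) z = f x z - f y z := map_sub (H.lin z) x y

theorem sum_left {α : Type*} (s : Finset α) (g : α → U) (z : U) :
    f (∑ i ∈ s, g i) z = ∑ i ∈ s, f (g i) z := map_sum (H.lin z) g s

theorem add_right (x y z : U) : f x (y + z) = f x y + f x z := by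
  rw [H.symm, H.add_left, H.symm x y, H.symm x z]

theorem smul_right (a : F) (x z : U) : f x (a • z) = a * f x z := by
  rw [H.symm, H.smul_left, H.symm x z]

theorem zero_right (x : U) : f x 0 = 0 := by rw [H.symm, H.zero_left]

theorem neg_right (x z : U) : f x (-z) = -f x z := by rw [H.symm, H.neg_left, H.symm x z]

theorem sub_right (x y z : U) : f x (y - z) = f x y - f x z := by
  rw [sub_eq_add_neg, H.add_right, H.neg_right, sub_eq_add_neg]

theorem sum_right {α : Type*} (s : Finset α) (g : α → U) (z : U) :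
    f z (∑ i ∈ s, g i) = ∑ i ∈ s, f z (g i) := by
  rw [H.symm, H.sum_left]
  exact Finset.sum_congr rfl fun i _ => H.symm _ _

theorem symm0 {x y : U} (h : f x y = 0) : f y x = 0 := by rw [H.symm, h]

theorem ext_left {x y : U} (h : ∀ z, f x z = f y z) : x = y :=
  sub_eq_zero.1 (H.nondeg _ fun z => by rw [H.sub_left, h, sub_self])

theorem exists_left {x : U} (hx : x ≠ 0) : ∃ y, f y x = 1 := by
  by_contra hc
  refine hx (H.nondeg x fun y => ?_)
  by_contra hy
  refine hc ⟨(f y x)⁻¹ • y, ?_⟩
  rw [H.smul_left, inv_mul_cancel₀ fun e => hy (H.symm0 e)]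

theorem ne_zero {x : U} (h : f x x ≠ 0) : x ≠ 0 := fun e => h (by rw [e, H.zero_left])

/-- A totally isotropic subset is perpendicular to itself. -/
theorem polar_zero {P : Submodule F U} (h : ∀ x ∈ P, f x x = 0) {x y : U} (hx : x ∈ P) (hy : y ∈ P) :
    f x y = 0 := by
  have e := h _ (P.add_mem hx hy)
  rw [H.add_left, H.add_right, H.add_right, h x hx, h y hy, H.symm x y] at e
  exact (mul_eq_zero.1 (show (2 : F) * f x y = 0 by linear_combination e)).resolve_left H.two

theorem exists_aniso {x : U} (hx : x ≠ 0) : ∃ a, f a a ≠ 0 := by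
  by_contra hc
  push Not at hc
  exact hx (H.nondeg x fun y =>
    H.polar_zero (P := ⊤) (fun z _ => hc z) (Submodule.mem_top) (Submodule.mem_top))

/-- Anisotropic vectors span. -/
theorem ext_aniso {W : Type*} [AddCommGroup W] [Module F W] {φ ψ : U →ₗ[F] W}
    (h : ∀ a, f a a ≠ 0 → φ a = ψ a) (x : U) : φ x = ψ x := by
  rcases eq_or_ne x 0 with rfl | hx
  · rw [map_zero, map_zero]
  obtain ⟨a, ha⟩ := H.exists_aniso hx
  by_cases h1 : f (x + a) (x + a) = 0
  · by_cases h2 : f (x - a) (x - a) = 0
    · refine h x fun h0 => ha ?_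
      simp only [H.add_left, H.add_right, H.sub_left, H.sub_right, h0] at h1 h2
      exact (mul_eq_zero.1 (show (2 : F) * f a a = 0 by linear_combination h1 + h2)).resolve_left H.two
    · have := h _ h2
      rwa [map_sub, map_sub, h a ha, sub_left_inj] at this
  · have := h _ h1
    rwa [map_add, map_add, h a ha, add_left_inj] at this

/-- The reflection in a vector. -/
def refl (w : U) : U →ₗ[F] U := LinearMap.id - ((2 / f w w) • H.lin w).smulRight w

theorem refl_apply (w c : U) : H.refl w c = c - (2 / f w w * f c w) • w := rfl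

theorem refl_isom {w : U} (hw : f w w ≠ 0) (c d : U) : f (H.refl w c) (H.refl w d) = f c d := by
  simp only [H.refl_apply, H.sub_left, H.sub_right, H.smul_left, H.smul_right, H.symm d w]
  field_simp
  ring

theorem refl_perp {w c : U} (h : f c w = 0) : H.refl w c = c := by
  rw [H.refl_apply, h, mul_zero, zero_smul, sub_zero]

theorem refl_self {w : U} (hw : f w w ≠ 0) : H.refl w w = -w := by
  rw [H.refl_apply, div_mul_cancel₀ _ hw, two_smul]
  abel

theorem refl_refl {w : U} (hw : f w w ≠ 0) (c : U) : H.refl w (H.refl w c) = c := by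
  rw [H.refl_apply w (H.refl w c), H.refl_apply, H.sub_left, H.smul_left]
  match_scalars <;> field_simp <;> ring

/-- A vector fixed by the reflection in a vector, up to sign, spans the same line. -/
theorem prop_of_refl {w x : U} (hw : f w w ≠ 0) (h : H.refl w x = -x) :
    x = (f x w / f w w) • w := by
  rw [H.refl_apply] at h
  refine smul_right_injective U H.two ?_
  show (2 : F) • x = (2 : F) • _
  rw [smul_smul, show (2 : F) * (f x w / f w w) = 2 / f w w * f x w by ring, two_smul]
  exact eq_of_sub_eq_zero (by rw [← sub_eq_zero.2 h]; abel)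

variable [FiniteDimensional F U]

theorem finrank_perp_le {m : ℕ} (g : Fin m → U) :
    ∃ P : Submodule F U, (∀ x, x ∈ P ↔ ∀ i, f x (g i) = 0) ∧ finrank F U ≤ finrank F P + m := by
  refine ⟨LinearMap.ker (LinearMap.pi fun i => H.lin (g i)), fun x => ?_, ?_⟩
  · rw [LinearMap.mem_ker, funext_iff]
    exact Iff.rfl
  · have h1 := LinearMap.finrank_range_add_finrank_ker (LinearMap.pi fun i => H.lin (g i))
    have h2 := Submodule.finrank_le (LinearMap.range (LinearMap.pi fun i => H.lin (g i)))
    rw [Module.finrank_fin_fun] at h2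
    omega

/-- The perpendicular of a subspace. -/
theorem exists_perp_sub (W : Submodule F U) :
    ∃ P : Submodule F U, (∀ x, x ∈ P ↔ ∀ w ∈ W, f x w = 0) ∧ finrank F U ≤ finrank F P + finrank F W := by
  let B := Module.finBasis F W
  obtain ⟨P, hP, hdim⟩ := H.finrank_perp_le fun i => (B i : U)
  refine ⟨P, fun x => ⟨fun hx w hw => ?_, fun h => (hP x).2 fun i => h _ (B i).2⟩, hdim⟩
  have e := congrArg Subtype.val (B.sum_repr ⟨w, hw⟩)
  simp only [AddSubmonoidClass.coe_finsetSum, Submodule.coe_smul] at e
  rw [← e, H.sum_right]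
  exact Finset.sum_eq_zero fun i _ => by rw [H.smul_right, (hP x).1 hx i, mul_zero]

/-- The dimension of a perpendicular. -/
theorem finrank_perp {W P : Submodule F U} (hP : ∀ x, x ∈ P ↔ ∀ w ∈ W, f x w = 0) :
    finrank F P + finrank F W = finrank F U := by
  obtain ⟨P', hP', hdim⟩ := H.exists_perp_sub W
  obtain rfl : P' = P := Submodule.ext fun x => (hP' x).trans (hP x).symm
  obtain ⟨C, hC⟩ := Submodule.exists_isCompl P'
  let ψ : W →ₗ[F] Module.Dual F C :=
    { toFun := fun w =>
        { toFun := fun c => f (w : U) (c : U)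
          map_add' := fun a b => H.add_right _ _ _
          map_smul' := fun t a => H.smul_right _ _ _ }
      map_add' := fun a b => LinearMap.ext fun c => H.add_left _ _ _
      map_smul' := fun t a => LinearMap.ext fun c => H.smul_left _ _ _ }
  have hinj : Function.Injective ψ := (injective_iff_map_eq_zero ψ).2 fun w hw => Subtype.ext
    (H.nondeg _ fun y => by
      obtain ⟨a, ha, c, hc, rfl⟩ := Submodule.mem_sup.1
        (show y ∈ P' ⊔ C by rw [hC.sup_eq_top]; trivial)
      rw [H.add_right, H.symm0 ((hP a).1 ha _ w.2),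
        show f (w : U) c = 0 from LinearMap.congr_fun hw ⟨c, hc⟩, add_zero])
  have h1 := LinearMap.finrank_le_finrank_of_injective hinj
  rw [Subspace.dual_finrank_eq] at h1
  have h2 := Submodule.finrank_add_eq_of_isCompl hC
  omega

/-- An anisotropic vector perpendicular to two perpendicular anisotropic ones. -/
theorem exists_aniso_perp (hd : 3 ≤ finrank F U) {n m : U} (hn : f n n ≠ 0) (hm : f m m ≠ 0)
    (hnm : f n m = 0) : ∃ k, f k k ≠ 0 ∧ f k n = 0 ∧ f k m = 0 := by
  obtain ⟨P, hP, hdim⟩ := H.finrank_perp_le ![n, m]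
  by_contra hc
  push Not at hc
  have hmem : ∀ x ∈ P, f x n = 0 ∧ f x m = 0 := fun x hx => ⟨(hP x).1 hx 0, (hP x).1 hx 1⟩
  have hTI : ∀ x ∈ P, f x x = 0 := fun x hx => by
    by_contra hxx
    exact hc x hxx (hmem x hx).1 (hmem x hx).2
  obtain ⟨x, hx, hx0⟩ := (Submodule.ne_bot_iff P).1 fun e => by
    rw [e, finrank_bot] at hdim
    omega
  refine hx0 (H.nondeg x fun y => ?_)
  have hy : y - (f y n / f n n) • n - (f y m / f m m) • m ∈ P := (hP _).2 fun i => by
    fin_cases i
    · show f _ n = 0
      rw [H.sub_left, H.sub_left, H.smul_left, H.smul_left, div_mul_cancel₀ _ hn, H.symm0 hnm]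
      ring
    · show f _ m = 0
      rw [H.sub_left, H.sub_left, H.smul_left, H.smul_left, div_mul_cancel₀ _ hm, hnm]
      ring
  have := H.polar_zero hTI hx hy
  rwa [H.sub_right, H.sub_right, H.smul_right, H.smul_right, (hmem x hx).1, (hmem x hx).2, mul_zero,
    mul_zero, sub_zero, sub_zero] at this

/-- A property of anisotropic vectors spreading along non-perpendicular pairs spreads to all. -/
theorem aniso_induct (hd : 3 ≤ finrank F U) {P : U → Prop}
    (step : ∀ n m, f n n ≠ 0 → f m m ≠ 0 → f n m ≠ 0 → P n → P m) {n m : U} (hn : f n n ≠ 0)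
    (hm : f m m ≠ 0) (h : P n) : P m := by
  by_cases hnm : f n m = 0
  · obtain ⟨k, hk, hkn, hkm⟩ := H.exists_aniso_perp hd hn hm hnm
    by_cases hs : f n n + f m m = 0
    · have e : f (n + m + k) (n + m + k) = f k k := by
        simp only [H.add_left, H.add_right, hnm, H.symm0 hnm, hkn, H.symm0 hkn, hkm, H.symm0 hkm]
        linear_combination hs
      exact step (n + m + k) m (by rw [e]; exact hk) hm
        (by simpa [H.add_left, hnm, hkm] using hm)
        (step n (n + m + k) hn (by rw [e]; exact hk)
          (by simpa [H.add_right, hnm, H.symm0 hkn] using hn) h)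
    · have e : f (n + m) (n + m) = f n n + f m m := by
        simp [H.add_left, H.add_right, hnm, H.symm0 hnm]
      exact step (n + m) m (by rw [e]; exact hs) hm (by simpa [H.add_left, hnm] using hm)
        (step n (n + m) hn (by rw [e]; exact hs) (by simpa [H.add_right, hnm] using hn) h)
  · exact step n m hn hm hnm h

/-- An endomorphism commuting with all reflections is scalar. -/
theorem eigen_scalar (hd : 3 ≤ finrank F U) (T : U →ₗ[F] U)
    (h : ∀ w, f w w ≠ 0 → ∀ c, T (H.refl w c) = H.refl w (T c)) : ∃ ρ : F, ∀ c, T c = ρ • c := by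
  obtain ⟨x, hx⟩ : ∃ x : U, x ≠ 0 := by
    haveI : Nontrivial U := Module.nontrivial_of_finrank_pos (R := F) (by omega)
    exact exists_ne 0
  obtain ⟨a, ha⟩ := H.exists_aniso hx
  let ev : U → F := fun w => f (T w) w / f w w
  have hev : ∀ w, f w w ≠ 0 → T w = ev w • w := fun w hw => H.prop_of_refl hw (by
    rw [← h w hw, H.refl_self hw, map_neg])
  refine ⟨ev a, fun c => H.ext_aniso (φ := T) (ψ := ev a • LinearMap.id) (fun b hb => ?_) c⟩
  suffices ev b = ev a by rw [LinearMap.smul_apply, LinearMap.id_apply, hev b hb, this]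
  refine H.aniso_induct hd (P := fun w => ev w = ev a) (fun n m hn hm hnm e => ?_) ha hb rfl
  have h1 := h n hn m
  rw [H.refl_apply, H.refl_apply, map_sub, map_smul, hev m hm, hev n hn, H.smul_left] at h1
  have hc : 2 / f n n * f m n * (ev m - ev n) = 0 := by
    have h2 := congrArg (fun z => f z n) h1
    simp only [H.sub_left, H.smul_left] at h2
    field_simp at h2 ⊢
    linear_combination h2
  have hne : 2 / f n n * f m n ≠ 0 :=
    mul_ne_zero (div_ne_zero H.two hn) fun e => hnm (H.symm0 e)
  rw [← e]
  exact sub_eq_zero.1 ((mul_eq_zero.1 hc).resolve_left hne)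

/-- A functional is the form of a vector. -/
theorem exists_repr (φ : U →ₗ[F] F) : ∃ w, ∀ x, φ x = f x w := by
  let b := Module.finBasis F U
  let Φ : U →ₗ[F] (Fin (finrank F U) → F) := LinearMap.pi fun i => H.lin (b i)
  have hΦ : Function.Injective Φ := (injective_iff_map_eq_zero Φ).2 fun x hx => H.nondeg x fun y => by
    rw [← b.sum_repr y, H.sum_right]
    exact Finset.sum_eq_zero fun i _ => by
      rw [H.smul_right, show f x (b i) = 0 from congrFun hx i, mul_zero]
  let e := LinearEquiv.ofInjectiveOfFinrankEq Φ hΦ (by rw [Module.finrank_fin_fun])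
  refine ⟨∑ i, φ (e.symm (Pi.single i 1)) • b i, fun x => ?_⟩
  conv_lhs => rw [← e.symm_apply_apply x, pi_eq_sum_univ' (e x), map_sum, map_sum]
  rw [H.sum_right]
  refine Finset.sum_congr rfl fun i _ => ?_
  rw [H.smul_right, map_smul, map_smul, smul_eq_mul, mul_comm]
  rfl

/-- Restriction to a non-degenerate subspace. -/
theorem restrict {P : Submodule F U} (h : ∀ x ∈ P, (∀ y ∈ P, f x y = 0) → x = 0) :
    SForm (fun x y : P => f (x : U) (y : U)) where
  add_left x y z := H.add_left _ _ _
  smul_left a x z := H.smul_left _ _ _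
  symm x y := H.symm _ _
  nondeg x hx := Subtype.ext (h _ x.2 fun y hy => hx ⟨y, hy⟩)
  two := H.two

/-- The quadratic form. -/
noncomputable def quad : QuadraticForm F U :=
  LinearMap.BilinMap.toQuadraticMap (LinearMap.mk₂ F f H.add_left (fun a x z => H.smul_left a x z)
    H.add_right (fun a x z => H.smul_right a x z))

theorem quad_apply (x : U) : H.quad x = f x x := rfl

theorem quad_polar (x y : U) : QuadraticMap.polar H.quad x y = 2 * f x y := by
  rw [QuadraticMap.polar, H.quad_apply, H.quad_apply, H.quad_apply, H.add_left, H.add_right,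
    H.add_right, H.symm x y]
  ring

theorem exists_iso [Finite F] (hd : 3 ≤ finrank F U) : ∃ u, u ≠ 0 ∧ f u u = 0 :=
  CfsgLib.FiniteForms.exists_singular H.quad hd

/-- Singular vectors are conjugate. -/
theorem exists_move {x y : U} (hx : x ≠ 0) (hy : y ≠ 0) (h : f x x = f y y) :
    ∃ L : U →ₗ[F] U, (∀ c d, f (L c) (L d) = f c d) ∧ L x = y := by
  have hnd : (QuadraticMap.polarBilin H.quad).Nondegenerate := by
    refine ⟨fun u hu => H.nondeg u fun z => ?_, fun u hu => H.nondeg u fun z => ?_⟩
    · have e : QuadraticMap.polar H.quad u z = 0 := hu z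
      rw [H.quad_polar] at e
      exact (mul_eq_zero.1 e).resolve_left H.two
    · have e : QuadraticMap.polar H.quad z u = 0 := hu z
      rw [H.quad_polar, H.symm] at e
      exact (mul_eq_zero.1 e).resolve_left H.two
  obtain ⟨g, hg, -, hgx⟩ := CfsgLib.WittExtension.quad_move H.quad hnd ⊥
    (by simpa using hx) (by simpa using hy) h
    (fun z hz => by
      rw [(Submodule.mem_bot F).1 hz, QuadraticMap.polar_zero_left, QuadraticMap.polar_zero_left])
  refine ⟨g.toLinearMap, fun c d => ?_, hgx⟩
  have e := H.quad_polar (g c) (g d)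
  rw [QuadraticMap.polar, ← map_add] at e
  rw [show H.quad (g (c + d)) = H.quad (c + d) from hg _, show H.quad (g c) = H.quad c from hg _,
    show H.quad (g d) = H.quad d from hg _] at e
  exact (mul_left_cancel₀ H.two (e.symm.trans (H.quad_polar c d)))

/-- The projection on a non-degenerate subspace. -/
theorem exists_proj {R : Submodule F U} (h : ∀ x ∈ R, (∀ y ∈ R, f x y = 0) → x = 0) :
    ∃ P : U →ₗ[F] U, (∀ c, P c ∈ R) ∧ (∀ c, ∀ e ∈ R, f (c - P c) e = 0) ∧
      (∀ c, (∀ e ∈ R, f c e = 0) → P c = 0) ∧ ∀ e ∈ R, P e = e := by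
  obtain ⟨S, hS, hdim⟩ := H.exists_perp_sub R
  have hinf : R ⊓ S = ⊥ := (Submodule.eq_bot_iff _).2 fun x hx => h x hx.1 ((hS x).1 hx.2)
  have hsup : R ⊔ S = ⊤ := by
    refine Submodule.eq_top_of_finrank_eq (le_antisymm (Submodule.finrank_le _) ?_)
    have h1 := Submodule.finrank_sup_add_finrank_inf_eq R S
    rw [hinf, finrank_bot] at h1
    omega
  have hc : IsCompl R S := ⟨disjoint_iff.2 hinf, codisjoint_iff.2 hsup⟩
  let E := Submodule.prodEquivOfIsCompl R S hc
  have hE : ∀ c, c = ((E.symm c).1 : U) + ((E.symm c).2 : U) := fun c => (E.apply_symm_apply c).symm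
  refine ⟨R.subtype ∘ₗ LinearMap.fst F R S ∘ₗ E.symm.toLinearMap, fun c => (E.symm c).1.2,
    fun c e he => ?_, fun c hc' => ?_, fun e he => ?_⟩
  · show f (c - ((E.symm c).1 : U)) e = 0
    nth_rw 1 [hE c]
    rw [add_sub_cancel_left]
    exact (hS _).1 (E.symm c).2.2 e he
  · show ((E.symm c).1 : U) = 0
    have : E.symm c = (0, ⟨c, (hS c).2 hc'⟩) := E.symm_apply_eq.2 (by simp [E])
    rw [this]
    rfl
  · show ((E.symm e).1 : U) = e
    have : E.symm e = (⟨e, he⟩, 0) := E.symm_apply_eq.2 (by simp [E])
    rw [this]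

end SForm

/-- A totally isotropic subspace of a symplectic space has at most half the dimension. -/
theorem two_mul_le {U : Type*} [AddCommGroup U] [Module F U] [FiniteDimensional F U] {f : U → U → F}
    (H : AForm f) (W : Submodule F U) (h : ∀ x ∈ W, ∀ y ∈ W, f x y = 0) :
    2 * finrank F W ≤ finrank F U := by
  obtain ⟨C, hC⟩ := Submodule.exists_isCompl W
  let ψ : W →ₗ[F] Module.Dual F C :=
    { toFun := fun w =>
        { toFun := fun c => f (w : U) (c : U)
          map_add' := fun a b => H.add_right _ _ _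
          map_smul' := fun t a => H.smul_right _ _ _ }
      map_add' := fun a b => LinearMap.ext fun c => H.add_left _ _ _
      map_smul' := fun t a => LinearMap.ext fun c => H.smul_left _ _ _ }
  have hinj : Function.Injective ψ := (injective_iff_map_eq_zero ψ).2 fun w hw => Subtype.ext
    (H.nondeg _ fun y => by
      obtain ⟨a, ha, c, hc, rfl⟩ := Submodule.mem_sup.1
        (show y ∈ W ⊔ C by rw [hC.sup_eq_top]; trivial)
      rw [H.add_right, h _ w.2 a ha, show f (w : U) c = 0 from LinearMap.congr_fun hw ⟨c, hc⟩,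
        add_zero])
  have h1 := LinearMap.finrank_le_finrank_of_injective hinj
  rw [Subspace.dual_finrank_eq] at h1
  have h2 := Submodule.finrank_add_eq_of_isCompl hC
  omega

/-- A vector perpendicular to neither of two given ones. -/
theorem avoid_two {U : Type*} [AddCommGroup U] [Module F U] {f : U → U → F} (H : AForm f) {x y : U}
    (hx : x ≠ 0) (hy : y ≠ 0) : ∃ z, f z x ≠ 0 ∧ f z y ≠ 0 := by
  obtain ⟨a, ha⟩ := H.exists_left hx
  obtain ⟨b, hb⟩ := H.exists_left hy
  by_cases h1 : f a y = 0
  · by_cases h2 : f b x = 0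
    · exact ⟨a + b, by rw [H.add_left, ha, h2, add_zero]; exact one_ne_zero,
        by rw [H.add_left, h1, hb, zero_add]; exact one_ne_zero⟩
    · exact ⟨b, h2, by rw [hb]; exact one_ne_zero⟩
  · exact ⟨a, by rw [ha]; exact one_ne_zero, h1⟩

end CfsgLib.MaxSub.TensorSympOrth
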