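/-
Overgroups of a tensor product of an orthogonal and a symplectic group in a symplectic group: basic notions. The
space is the space of matrices, a pure tensor being `vecMulVec c w`; members are the images of the
spaces of pure tensors with a given second factor.
-/
import Cfsg.Agent.Lib.MaxSub.TensorSympOrth.Forms
import Cfsg.Agent.Lib.MaxSub.TensorLin.Basic

set_option autoImplicit false
set_option linter.unusedSectionVars false

namespace CfsgLib.MaxSub.TensorSympOrth

open Matrix Module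
open CfsgLib.MaxSub.TensorSymp (AForm)
open CfsgLib.MaxSub.TensorLin (Col colMap colMap_apply mem_col finrank_col colMap_injective vmv_eq_zero
  vmv_zero NP map_map_inv)

variable {F : Type*} [Field F] {ι κ : Type*} [Fintype ι] [Fintype κ] [DecidableEq ι] [DecidableEq κ]

local notation "MV" => Matrix ι κ F

/-- No plane is totally isotropic. -/
def NoPlane (f1 : (ι → F) → (ι → F) → F) : Prop :=
  ∀ U : Submodule F (ι → F), (∀ x ∈ U, ∀ y ∈ U, f1 x y = 0) → finrank F U ≤ 1

/-- An overgroup of the tensor product of an orthogonal and a symplectic group, preserving the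
alternating form. -/
structure SO (f1 : (ι → F) → (ι → F) → F) (f2 : (κ → F) → (κ → F) → F)
    (f : Matrix ι κ F → Matrix ι κ F → F) (G : Subgroup (Matrix ι κ F ≃ₗ[F] Matrix ι κ F)) : Prop where
  h1 : SForm f1
  h2 : AForm f2
  h : AForm f
  f_pure : ∀ c d v w, f (vecMulVec c v) (vecMulVec d w) = f1 c d * f2 v w
  isom : ∀ g ∈ G, ∀ X Y, f (g X) (g Y) = f X Y
  left : ∀ L : (ι → F) →ₗ[F] (ι → F), (∀ c d, f1 (L c) (L d) = f1 c d) →
    ∃ g ∈ G, ∀ c x, g (vecMulVec c x) = vecMulVec (L c) x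
  right : ∀ v l, ∃ g ∈ G, ∀ c x, g (vecMulVec c x) = vecMulVec c (x + (l * f2 x v) • v)
  b3 : 3 ≤ Fintype.card ι
  a2 : 2 ≤ Fintype.card κ
  dims : (Fintype.card κ = 2 ∧ (Fintype.card ι = 3 ∨ 5 ≤ Fintype.card ι ∨ (Fintype.card ι = 4 ∧ NoPlane f1))) ∨
    3 ≤ Fintype.card κ
  small : 4 ≤ Fintype.card ι ∨ 5 ≤ Nat.card F

/-- A member. -/
def Mem (G : Subgroup (Matrix ι κ F ≃ₗ[F] Matrix ι κ F)) (M : Submodule F (Matrix ι κ F)) : Prop :=
  ∃ g ∈ G, ∃ w : κ → F, w ≠ 0 ∧ M = (Col w).map g.toLinearMap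

/-- A map respecting the decomposition, trivial on the first factor. -/
def Pure (g : Matrix ι κ F ≃ₗ[F] Matrix ι κ F) : Prop :=
  ∃ L : (κ → F) → (κ → F), ∀ c x, g (vecMulVec c x) = vecMulVec c (L x)

/-- Linear maps agreeing on pure tensors are equal. -/
theorem ext_pure {W : Type*} [AddCommGroup W] [Module F W] {A B : MV →ₗ[F] W}
    (h : ∀ c x, A (vecMulVec c x) = B (vecMulVec c x)) (X : MV) : A X = B X := by
  have e : X = ∑ i, vecMulVec (Pi.single i (1 : F)) (X i) := by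
    ext i j
    simp [Matrix.sum_apply, vecMulVec_apply, Pi.single_apply]
  rw [e, map_sum, map_sum]
  exact Finset.sum_congr rfl fun i _ => h _ _

theorem sub_vmv (c d : ι → F) (x : κ → F) : vecMulVec (c - d) x = vecMulVec c x - vecMulVec d x :=
  (colMap x).map_sub c d

theorem vmv_sub (c : ι → F) (x y : κ → F) : vecMulVec c (x - y) = vecMulVec c x - vecMulVec c y := by
  ext i j
  simp [vecMulVec_apply, mul_sub]

theorem vmv_smul (c : ι → F) (t : F) (x : κ → F) : vecMulVec c (t • x) = t • vecMulVec c x := by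
  ext i j
  simp [vecMulVec_apply, mul_left_comm]

theorem vmv_neg (c : ι → F) (x : κ → F) : vecMulVec c (-x) = -vecMulVec c x := by
  ext i j
  simp [vecMulVec_apply]

theorem neg_vmv (c : ι → F) (x : κ → F) : vecMulVec (-c) x = -vecMulVec c x := (colMap x).map_neg c

theorem vmv_ne_zero {c : ι → F} {x : κ → F} (hc : c ≠ 0) (hx : x ≠ 0) : vecMulVec c x ≠ 0 := fun e =>
  (vmv_eq_zero.1 e).elim hc hx

/-- Subspaces of pure tensors with proportional second factors coincide. -/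
theorem col_eq_of_span {v w : κ → F} (hw : w ≠ 0) (h : w ∈ F ∙ v) : Col (ι := ι) w = Col v := by
  obtain ⟨t, rfl⟩ := Submodule.mem_span_singleton.1 h
  refine Submodule.eq_of_le_of_finrank_eq (fun Y hY => ?_) ?_
  · obtain ⟨d, rfl⟩ := mem_col.1 hY
    exact mem_col.2 ⟨t • d, by rw [smul_vecMulVec, vmv_smul]⟩
  · rw [finrank_col hw, finrank_col fun e => hw (by rw [e, smul_zero])]

/-- The transvection type map of a member. -/
structure Tr (f : Matrix ι κ F → Matrix ι κ F → F) (G : Subgroup (Matrix ι κ F ≃ₗ[F] Matrix ι κ F))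
    (M : Submodule F (Matrix ι κ F)) (A : Matrix ι κ F →ₗ[F] Matrix ι κ F) : Prop where
  elem : ∃ y ∈ G, ∀ X, y X = X + A X
  mem : ∀ X, A X ∈ M
  onto : ∀ m ∈ M, ∃ X, A X = m
  ker : ∀ X, (∀ m ∈ M, f X m = 0) → A X = 0
  sq : ∀ X, A (A X) = 0
  skew : ∀ X Y, f (A X) Y = -f X (A Y)

variable {f1 : (ι → F) → (ι → F) → F} {f2 : (κ → F) → (κ → F) → F} {f : Matrix ι κ F → Matrix ι κ F → F} {G : Subgroup (Matrix ι κ F ≃ₗ[F] Matrix ι κ F)}

section

variable (O : SO f1 f2 f G)
include O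

theorem isom_symm {g : MV ≃ₗ[F] MV} (hg : g ∈ G) (X Y : MV) : f (g.symm X) Y = f X (g Y) := by
  rw [← O.isom g hg, g.apply_symm_apply]

/-- The contraction with a vector of the second factor. -/
def cv (v : κ → F) : Matrix ι κ F →ₗ[F] (ι → F) where
  toFun X i := f2 (X i) v
  map_add' X Y := funext fun i => O.h2.add_left (X i) (Y i) v
  map_smul' t X := funext fun i => O.h2.smul_left t (X i) v

theorem cv_pure (v : κ → F) (c : ι → F) (x : κ → F) : cv O v (vecMulVec c x) = f2 x v • c := by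
  funext i
  show f2 (vecMulVec c x i) v = _
  rw [show vecMulVec c x i = c i • x from rfl, O.h2.smul_left, Pi.smul_apply, smul_eq_mul, mul_comm]

theorem f_cv (X : MV) (d : ι → F) (v : κ → F) : f X (vecMulVec d v) = f1 (cv O v X) d :=
  ext_pure (A := O.h.lin (vecMulVec d v)) (B := (O.h1.lin d).comp (cv O v)) (fun c x => by
    rw [AForm.lin_apply, O.f_pure, LinearMap.comp_apply, SForm.lin_apply, cv_pure, O.h1.smul_left,
      mul_comm]) X

theorem f_cv' (X : MV) (d : ι → F) (v : κ → F) : f (vecMulVec d v) X = -f1 (cv O v X) d := by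
  rw [O.h.swap, f_cv O]

/-- The contraction with a vector of the first factor. -/
def cw (w : ι → F) : Matrix ι κ F →ₗ[F] (κ → F) where
  toFun X j := f1 (fun i => X i j) w
  map_add' X Y := funext fun j => O.h1.add_left (fun i => X i j) (fun i => Y i j) w
  map_smul' t X := funext fun j => O.h1.smul_left t (fun i => X i j) w

theorem cw_pure (w : ι → F) (c : ι → F) (x : κ → F) : cw O w (vecMulVec c x) = f1 c w • x := by
  funext j
  show f1 (fun i => c i * x j) w = _
  rw [show (fun i => c i * x j) = x j • c from funext fun i => mul_comm _ _, O.h1.smul_left,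
    Pi.smul_apply, smul_eq_mul, mul_comm]

theorem f_cw (X : MV) (w : ι → F) (x : κ → F) : f X (vecMulVec w x) = f2 (cw O w X) x :=
  ext_pure (A := O.h.lin (vecMulVec w x)) (B := (O.h2.lin x).comp (cw O w)) (fun c y => by
    rw [AForm.lin_apply, O.f_pure, LinearMap.comp_apply, AForm.lin_apply, cw_pure, O.h2.smul_left]) X

theorem f_cw' (X : MV) (w : ι → F) (x : κ → F) : f (vecMulVec w x) X = f2 x (cw O w X) := by
  rw [O.h.swap, f_cw O, ← O.h2.swap]

theorem cw_cv (w : ι → F) (v : κ → F) (X : MV) : f2 (cw O w X) v = f1 (cv O v X) w :=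
  (f_cw O X w v).symm.trans (f_cv O X w v)

theorem cv_smul_vec (t : F) (v : κ → F) (X : MV) : cv O (t • v) X = t • cv O v X :=
  funext fun i => O.h2.smul_right t (X i) v

theorem cv_add_vec (v w : κ → F) (X : MV) : cv O (v + w) X = cv O v X + cv O w X :=
  funext fun i => O.h2.add_right (X i) v w

theorem cv_sub_vec (v w : κ → F) (X : MV) : cv O (v - w) X = cv O v X - cv O w X :=
  funext fun i => O.h2.sub_right (X i) v w

theorem cv_zero_vec (X : MV) : cv O 0 X = 0 := funext fun i => O.h2.zero_right (X i)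

theorem cv_neg_vec (v : κ → F) (X : MV) : cv O (-v) X = -cv O v X :=
  funext fun i => O.h2.neg_right (X i) v

theorem cv_col {v x : κ → F} (h : f2 v x = 0) {X : MV} (hX : X ∈ Col v) : cv O x X = 0 := by
  obtain ⟨c, rfl⟩ := mem_col.1 hX
  rw [cv_pure, h, zero_smul]

theorem cv_eq_zero {v : κ → F} {X : MV} (h : ∀ d, f X (vecMulVec d v) = 0) : cv O v X = 0 :=
  O.h1.nondeg _ fun d => (f_cv O X d v).symm.trans (h d)

theorem perp_col {v : κ → F} {X : MV} (h : cv O v X = 0) {Y : MV} (hY : Y ∈ Col v) : f X Y = 0 := by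
  obtain ⟨d, rfl⟩ := mem_col.1 hY
  rw [f_cv O, h, O.h1.zero_left]

/-- The double perpendicular of a space of pure tensors. -/
theorem col_of_cv {v : κ → F} (hv : v ≠ 0) {X : MV} (h : ∀ x, f2 x v = 0 → cv O x X = 0) :
    X ∈ Col v := by
  choose c hc using fun i => Submodule.mem_span_singleton.1
    (O.h2.perp_perp (x := X i) hv fun z hz => congrFun (h z hz) i)
  refine mem_col.2 ⟨c, ?_⟩
  ext i j
  rw [vecMulVec_apply, ← hc i]
  rfl

/-- The displacement of a Siegel element. -/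
def dl (v w : κ → F) (μ : F) : Matrix ι κ F →ₗ[F] Matrix ι κ F :=
  colMap w ∘ₗ cv O v + colMap v ∘ₗ cv O w + μ • (colMap v ∘ₗ cv O v)

theorem dl_apply (v w : κ → F) (μ : F) (X : MV) : dl O v w μ X =
    vecMulVec (cv O v X) w + vecMulVec (cv O w X) v + μ • vecMulVec (cv O v X) v := rfl

theorem dl_pure (v w : κ → F) (μ : F) (c : ι → F) (x : κ → F) : dl O v w μ (vecMulVec c x) =
    vecMulVec c (f2 x v • w + f2 x w • v + (μ * f2 x v) • v) := by
  rw [dl_apply, cv_pure, cv_pure, vecMulVec_add, vecMulVec_add, vmv_smul, vmv_smul, vmv_smul,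
    smul_vecMulVec, smul_vecMulVec, smul_vecMulVec, smul_smul]

/-- Transvections. -/
theorem tv (v : κ → F) (l : F) :
    ∃ g ∈ G, (∀ X, g X = X + l • vecMulVec (cv O v X) v) ∧ Pure g := by
  obtain ⟨g, hg, hgX⟩ := O.right v l
  refine ⟨g, hg, fun X => ?_, ⟨_, hgX⟩⟩
  refine ext_pure (A := g.toLinearMap) (B := LinearMap.id + l • (colMap v ∘ₗ cv O v)) (fun c x => ?_) X
  show g _ = _ + l • vecMulVec (cv O v _) v
  rw [hgX, cv_pure, LinearMap.id_apply, vecMulVec_add, vmv_smul, smul_vecMulVec, smul_smul]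

/-- Elements from isometries of the first factor. -/
theorem lf {L : (ι → F) →ₗ[F] (ι → F)} (hL : ∀ c d, f1 (L c) (L d) = f1 c d) :
    ∃ g ∈ G, (∀ c x, g (vecMulVec c x) = vecMulVec (L c) x) ∧ ∀ v X, cv O v (g X) = L (cv O v X) := by
  obtain ⟨g, hg, hgX⟩ := O.left L hL
  refine ⟨g, hg, hgX, fun v => ext_pure (A := cv O v ∘ₗ g.toLinearMap) (B := L ∘ₗ cv O v) fun c x => ?_⟩
  show cv O v (g (vecMulVec c x)) = L (cv O v (vecMulVec c x))
  rw [hgX, cv_pure, cv_pure, map_smul]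

/-- Reflections. -/
theorem rf {w : ι → F} (hw : f1 w w ≠ 0) :
    ∃ g ∈ G, (∀ c x, g (vecMulVec c x) = vecMulVec (O.h1.refl w c) x) ∧
      (∀ X, g X = X - (2 / f1 w w) • vecMulVec w (cw O w X)) ∧ ∀ X, g (g X) = X := by
  obtain ⟨g, hg, hgX, -⟩ := lf O (O.h1.refl_isom hw)
  refine ⟨g, hg, hgX, fun X => ?_, fun X => ?_⟩
  · let R : (κ → F) →ₗ[F] Matrix ι κ F :=
      { toFun := fun x => vecMulVec w x
        map_add' := fun x y => vecMulVec_add w x y
        map_smul' := fun t x => vmv_smul w t x }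
    refine ext_pure (A := g.toLinearMap) (B := LinearMap.id - (2 / f1 w w) • (R ∘ₗ cw O w))
      (fun c x => ?_) X
    show g _ = _ - (2 / f1 w w) • vecMulVec w (cw O w _)
    rw [hgX, O.h1.refl_apply, LinearMap.id_apply, cw_pure, sub_vmv, vmv_smul, smul_vecMulVec,
      smul_smul]
  · refine ext_pure (A := g.toLinearMap ∘ₗ g.toLinearMap) (B := LinearMap.id) (fun c x => ?_) X
    show g (g _) = _
    rw [hgX, hgX, O.h1.refl_refl hw]
    rfl

theorem pure_mul {g g' : MV ≃ₗ[F] MV} (h : Pure g) (h' : Pure g') : Pure (g * g') := by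
  obtain ⟨L, hL⟩ := h
  obtain ⟨L', hL'⟩ := h'
  exact ⟨L ∘ L', fun c x => by rw [LinearEquiv.mul_apply, hL', hL]; rfl⟩

/-- Siegel elements. -/
theorem eich {v w : κ → F} (μ : F) (hw : f2 w v = 0) :
    ∃ g ∈ G, (∀ X, g X = X + dl O v w μ X) ∧ Pure g := by
  obtain ⟨g₁, hg₁, h1, p1⟩ := tv O (v + w) 1
  obtain ⟨g₂, hg₂, h2, p2⟩ := tv O v (μ - 1)
  obtain ⟨g₃, hg₃, h3, p3⟩ := tv O w (-1)
  refine ⟨g₁ * g₂ * g₃, mul_mem (mul_mem hg₁ hg₂) hg₃, fun X => ?_, pure_mul O (pure_mul O p1 p2) p3⟩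
  have hvw := O.h2.symm0 hw
  rw [LinearEquiv.mul_apply, LinearEquiv.mul_apply, h3, h2, h1, dl_apply]
  simp only [map_add, map_smul, cv_add_vec, cv_pure, O.h2.add_right, O.h2.self, hw, hvw,
    zero_smul, smul_zero, add_zero, add_vecMulVec, vecMulVec_add]
  module

theorem mem_finrank {M : Submodule F MV} (h : Mem G M) : finrank F M = Fintype.card ι := by
  obtain ⟨g, -, w, hw, rfl⟩ := h
  rw [LinearEquiv.finrank_map_eq, finrank_col hw]

theorem mem_map {M : Submodule F MV} (h : Mem G M) {g : MV ≃ₗ[F] MV} (hg : g ∈ G) :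
    Mem G (M.map g.toLinearMap) := by
  obtain ⟨g', hg', w, hw, rfl⟩ := h
  refine ⟨g * g', mul_mem hg hg', w, hw, ?_⟩
  rw [← Submodule.map_comp]
  rfl

theorem mem_col_self {w : κ → F} (hw : w ≠ 0) : Mem G (Col (ι := ι) w) :=
  ⟨1, one_mem G, w, hw, (Submodule.map_id _).symm⟩

theorem col_singular (w : κ → F) {X Y : MV} (hX : X ∈ Col w) (hY : Y ∈ Col w) :
    f X Y = 0 := perp_col O (cv_col O (O.h2.self w) hX) hY

theorem mem_singular {M : Submodule F MV} (h : Mem G M) {X Y : MV} (hX : X ∈ M) (hY : Y ∈ M) :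
    f X Y = 0 := by
  obtain ⟨g, hg, w, -, rfl⟩ := h
  obtain ⟨X, hX, rfl⟩ := hX
  obtain ⟨Y, hY, rfl⟩ := hY
  exact (O.isom g hg X Y).trans (col_singular O w hX hY)

theorem eq_of_le {M N : Submodule F MV} (hM : Mem G M) (hN : Mem G N) (h : M ≤ N) : M = N :=
  Submodule.eq_of_le_of_finrank_eq h (by rw [mem_finrank O hM, mem_finrank O hN])

/-- A member meeting a pure one is that one or is not pure. -/
theorem np_of_meet {M : Submodule F MV} {w : κ → F} (hne : M ≠ Col w) {X : MV} (hX : X ≠ 0)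
    (h1 : X ∈ M) (h2 : X ∈ Col w) : NP M := by
  rintro v rfl
  obtain ⟨c, rfl⟩ := mem_col.1 h1
  obtain ⟨d, hd⟩ := mem_col.1 h2
  have hc : c ≠ 0 := fun e => hX (by rw [e, zero_vecMulVec])
  have hv : v ≠ 0 := fun e => hX (by rw [e, vmv_zero])
  refine hne (col_eq_of_span hv ?_)
  obtain ⟨i, hi⟩ := Function.ne_iff.1 hc
  refine Submodule.mem_span_singleton.2 ⟨d i / c i, funext fun j => ?_⟩
  have := congrFun (congrFun hd i) j
  rw [vecMulVec_apply, vecMulVec_apply] at this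
  rw [Pi.smul_apply, smul_eq_mul, div_mul_eq_mul_div, this, mul_div_cancel_left₀ _ hi]

/-- The rank of the pairing of a member with a pure one. -/
noncomputable def rank (M : Submodule F (Matrix ι κ F)) (v : κ → F) : ℕ := finrank F (M.map (cv O v))

theorem rank_add_ker {M : Submodule F MV} (hM : Mem G M) (v : κ → F) :
    rank O M v + finrank F (M ⊓ LinearMap.ker (cv O v) : Submodule F MV) = Fintype.card ι := by
  have h1 := LinearMap.finrank_range_add_finrank_ker ((cv O v).domRestrict M)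
  rw [mem_finrank O hM] at h1
  have h2 : LinearMap.range ((cv O v).domRestrict M) = M.map (cv O v) := by
    ext x
    simp [Submodule.mem_map]
  have h3 : (LinearMap.ker ((cv O v).domRestrict M)).map M.subtype = M ⊓ LinearMap.ker (cv O v) := by
    ext x
    simp [Submodule.mem_map, and_comm]
  rw [h2, ← Submodule.finrank_map_subtype_eq M (LinearMap.ker ((cv O v).domRestrict M)), h3] at h1
  exact h1

theorem rank_eq_zero {M : Submodule F MV} {v : κ → F} :
    rank O M v = 0 ↔ ∀ X ∈ M, cv O v X = 0 := by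
  rw [rank, Submodule.finrank_eq_zero, ← le_bot_iff, Submodule.map_le_iff_le_comap, Submodule.comap_bot]
  exact ⟨fun h X hX => LinearMap.mem_ker.1 (h hX), fun h X hX => LinearMap.mem_ker.2 (h X hX)⟩

/-- The part of a space of pure tensors perpendicular to a member. -/
theorem exists_perp_part (M : Submodule F MV) {v : κ → F} (hv : v ≠ 0) :
    ∃ N : Submodule F MV, N ≤ Col v ∧ (∀ X ∈ M, ∀ n ∈ N, f X n = 0) ∧
      Fintype.card ι ≤ finrank F N + rank O M v := by
  obtain ⟨P, hP, hdim⟩ := O.h1.exists_perp_sub (M.map (cv O v))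
  refine ⟨P.map (colMap v), LinearMap.map_le_range, fun X hX n hn => ?_, ?_⟩
  · obtain ⟨d, hd, rfl⟩ := hn
    rw [colMap_apply, f_cv O]
    exact O.h1.symm0 ((hP d).1 hd _ (Submodule.mem_map_of_mem hX))
  · rw [Module.finrank_fintype_fun_eq_card] at hdim
    rw [← (Submodule.equivMapOfInjective _ (colMap_injective hv) P).finrank_eq]
    exact hdim

/-- A complement of a line in its perpendicular. -/
theorem exists_compl {v : κ → F} (hv : v ≠ 0) :
    ∃ Z : Submodule F (κ → F), (∀ z ∈ Z, f2 z v = 0) ∧ (∀ z ∈ Z, z ∈ F ∙ v → z = 0) ∧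
      Fintype.card κ ≤ finrank F Z + 2 := by
  obtain ⟨y, hvy⟩ := O.h2.exists_right hv
  obtain ⟨P, hP, hdim⟩ := O.h2.finrank_perp_le ![v, y]
  rw [Module.finrank_fintype_fun_eq_card] at hdim
  refine ⟨P, fun z hz => (hP z).1 hz 0, fun z hz h => ?_, hdim⟩
  obtain ⟨t, rfl⟩ := Submodule.mem_span_singleton.1 h
  have : f2 (t • v) y = 0 := (hP _).1 hz 1
  rw [O.h2.smul_left, hvy, mul_one] at this
  rw [this, zero_smul]

/-- An element fixing a space of pure tensors and moving its perpendicular into it only. -/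
theorem qlin {g : MV ≃ₗ[F] MV} (hg : g ∈ G) {v : κ → F} (hv : v ≠ 0)
    (hfix : ∀ c, g (vecMulVec c v) = vecMulVec c v)
    (hQ : ∀ c x, f2 x v = 0 → g (vecMulVec c x) - vecMulVec c x ∈ Col v) :
    (∀ X, cv O v (g X - X) = 0) ∧ ∀ X, cv O v X = 0 → g X - X ∈ Col v := by
  have h1 : ∀ X d, f (g X) (vecMulVec d v) = f X (vecMulVec d v) := fun X d => by
    conv_lhs => rw [← hfix d]
    rw [O.isom g hg]
  refine ⟨fun X => cv_eq_zero O fun d => by rw [O.h.sub_left, h1, sub_self], fun X hX => ?_⟩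
  refine col_of_cv O hv fun x hx => cv_eq_zero O fun d => ?_
  obtain ⟨e, he⟩ := mem_col.1 (hQ d x hx)
  have h2 : ∀ Y, cv O v Y = 0 → f Y (vecMulVec e v) = 0 := fun Y hY => by rw [f_cv O, hY, O.h1.zero_left]
  have hd : g (vecMulVec d x) = vecMulVec d x + vecMulVec e v := by rw [he, add_sub_cancel]
  have h3 : f (g X) (vecMulVec e v) = 0 := by rw [h1]; exact h2 X hX
  have h4 := O.isom g hg X (vecMulVec d x)
  rw [hd, O.h.add_right, h3, add_zero] at h4
  rw [O.h.sub_left, h4, sub_self]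

end

theorem Tr.perp (O : SO f1 f2 f G) {M : Submodule F MV} {A : MV →ₗ[F] MV} (hA : Tr f G M A) {X : MV}
    (h : A X = 0) {m : MV} (hm : m ∈ M) : f X m = 0 := by
  obtain ⟨Y, rfl⟩ := hA.onto m hm
  have := hA.skew X Y
  rw [h, O.h.zero_left] at this
  exact neg_eq_zero.1 this.symm

theorem Tr.inv {M : Submodule F MV} {A : MV →ₗ[F] MV} (hA : Tr f G M A)
    {y : MV ≃ₗ[F] MV} (hy : ∀ X, y X = X + A X) (X : MV) : y.symm X = X - A X :=
  y.injective (by rw [y.apply_symm_apply, hy, map_sub, hA.sq, sub_zero, sub_add_cancel])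

section

variable (O : SO f1 f2 f G)
include O

/-- The map attached to the image of a pure member. -/
theorem tr_of {g : MV ≃ₗ[F] MV} (hg : g ∈ G) {w : κ → F} (hw : w ≠ 0) {l : F} (hl0 : l ≠ 0) :
    Tr f G ((Col w).map g.toLinearMap)
      (l • (g.toLinearMap ∘ₗ colMap w ∘ₗ cv O w ∘ₗ g.symm.toLinearMap)) := by
  have hA : ∀ X, (l • (g.toLinearMap ∘ₗ colMap w ∘ₗ cv O w ∘ₗ g.symm.toLinearMap) :
      MV →ₗ[F] MV) X = l • g (vecMulVec (cv O w (g.symm X)) w) := fun X => rfl
  refine ⟨?_, fun X => ?_, ?_, fun X hX => ?_, fun X => ?_, fun X Y => ?_⟩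
  · obtain ⟨t, ht, htX, -⟩ := tv O w l
    refine ⟨g * t * g⁻¹, mul_mem (mul_mem hg ht) (inv_mem hg), fun X => ?_⟩
    show g (t (g.symm X)) = _
    rw [htX, map_add, map_smul, g.apply_symm_apply, hA]
  · rw [hA]
    exact Submodule.smul_mem _ _ ⟨_, mem_col.2 ⟨_, rfl⟩, rfl⟩
  · rintro _ ⟨Y, hY, rfl⟩
    obtain ⟨c, rfl⟩ := mem_col.1 hY
    obtain ⟨z, hz⟩ := O.h2.exists_left hw
    refine ⟨g (vecMulVec (l⁻¹ • c) z), ?_⟩
    rw [hA, g.symm_apply_apply, cv_pure, hz, one_smul, smul_vecMulVec, map_smul, smul_smul,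
      mul_inv_cancel₀ hl0, one_smul]
    rfl
  · have h0 : cv O w (g.symm X) = 0 := cv_eq_zero O fun d => by
      rw [isom_symm O hg]
      exact hX _ ⟨_, mem_col.2 ⟨d, rfl⟩, rfl⟩
    rw [hA, h0, zero_vecMulVec, map_zero, smul_zero]
  · rw [hA, hA, map_smul g.symm, g.symm_apply_apply, map_smul, cv_pure, O.h2.self, zero_smul, smul_zero,
      zero_vecMulVec, map_zero, smul_zero]
  · have e1 : ∀ d, f (g (vecMulVec d w)) Y = -f1 (cv O w (g.symm Y)) d := fun d => by
      rw [O.h.swap, ← isom_symm O hg, f_cv O]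
    have e2 : ∀ d, f X (g (vecMulVec d w)) = f1 (cv O w (g.symm X)) d := fun d => by
      rw [← isom_symm O hg, f_cv O]
    rw [hA, hA, O.h.smul_left, O.h.smul_right, e1, e2, O.h1.symm (cv O w (g.symm X))]
    ring

theorem exists_tr {M : Submodule F MV} (hM : Mem G M) :
    ∃ A, ∀ t : F, t ≠ 0 → Tr f G M (t • A) := by
  obtain ⟨g, hg, w, hw, rfl⟩ := hM
  exact ⟨g.toLinearMap ∘ₗ colMap w ∘ₗ cv O w ∘ₗ g.symm.toLinearMap, fun t ht => tr_of O hg hw ht⟩

theorem exists_tr_one {M : Submodule F MV} (hM : Mem G M) : ∃ A, Tr f G M A := by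
  obtain ⟨A, hA⟩ := exists_tr O hM
  exact ⟨_, hA 1 one_ne_zero⟩

end

end CfsgLib.MaxSub.TensorSympOrth
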