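/-
An involution in the group generated by two opposite transvections over a finite commutative algebra.
-/
import Cfsg.Agent.Lib.Dickson.Main

set_option autoImplicit false
set_option linter.unusedSectionVars false

namespace CfsgLib.MaxSub.TensorSympOrth

open Matrix
open CfsgLib.Dickson (up lo ext_entries mul_entry det_eq)

variable {F : Type*} [Field F] [Fintype F] {R : Type*} [CommRing R] [Algebra F R] [Finite R]

/-- The upper generator. -/
def upR (t : R) : Matrix.SpecialLinearGroup (Fin 2) R := ⟨!![1, t; 0, 1], by simp [Matrix.det_fin_two]⟩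

/-- The lower generator. -/
def loR (t : R) : Matrix.SpecialLinearGroup (Fin 2) R := ⟨!![1, 0; t, 1], by simp [Matrix.det_fin_two]⟩

/-- The group generated by two opposite transvections. -/
def pairGrp (φ : R) : Subgroup (Matrix.SpecialLinearGroup (Fin 2) R) :=
  Subgroup.closure {upR 1, loR φ}

/-- A predicate closed under products holds on the group. -/
theorem pairGrp_induction {φ : R} {P : Matrix.SpecialLinearGroup (Fin 2) R → Prop} (h1 : P 1)
    (hmul : ∀ x y, P x → P y → P (x * y)) (hu : P (upR 1)) (hl : P (loR φ))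
    {m : Matrix.SpecialLinearGroup (Fin 2) R} (hm : m ∈ pairGrp φ) : P m := by
  have hm' : m ∈ (pairGrp φ).toSubmonoid := hm
  rw [pairGrp, Subgroup.closure_toSubmonoid_of_finite] at hm'
  clear hm
  induction hm' using Submonoid.closure_induction with
  | mem x hx => rcases hx with rfl | rfl <;> assumption
  | one => exact h1
  | mul x y _ _ hx hy => exact hmul x y hx hy

/-- An involution of the group. -/
theorem exists_involution [Nontrivial R] (h2 : (2 : F) ≠ 0) {φ : R} (hφ : IsUnit φ) :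
    ∃ m ∈ pairGrp φ, ∃ α : R, α * α = 1 ∧ α ≠ 1 ∧ m.1 = !![α, 0; 0, α] ∧ m * m = 1 := by
  classical
  obtain ⟨I, hI⟩ := Ideal.exists_maximal R
  let : Field (R ⧸ I) := Ideal.Quotient.field I
  have : Finite (R ⧸ I) := Finite.of_surjective _ (Ideal.Quotient.mk_surjective (I := I))
  obtain ⟨p, hp⟩ := CharP.exists F
  have : Fact p.Prime := ⟨CharP.char_is_prime F p⟩
  have : CharP (R ⧸ I) p :=
    charP_of_injective_algebraMap (algebraMap F (R ⧸ I)).injective p
  have hp2 : p ≠ 2 := fun e => h2 (by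
    subst e
    exact_mod_cast CharP.cast_eq_zero F 2)
  let π := Ideal.Quotient.mk I
  let Pm : Matrix.SpecialLinearGroup (Fin 2) R →* Matrix.SpecialLinearGroup (Fin 2) (R ⧸ I) :=
    Matrix.SpecialLinearGroup.map π
  have hPmu : Pm (upR 1) = up 1 := ext_entries (map_one π) (map_one π) (map_zero π) (map_one π)
  have hPml : Pm (loR φ) = lo (π φ) := ext_entries (map_one π) (map_zero π) rfl (map_one π)
  have hφ0 : π φ ≠ 0 := (hφ.map π).ne_zero
  set H := (pairGrp φ).map Pm with hH
  have hu : up (1 : R ⧸ I) ∈ H := ⟨_, Subgroup.subset_closure (Set.mem_insert _ _), hPmu⟩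
  have hl : lo (π φ) ∈ H :=
    ⟨_, Subgroup.subset_closure (Set.mem_insert_of_mem _ rfl), hPml⟩
  obtain ⟨H', hH', ⟨e⟩⟩ := CfsgLib.Dickson.dickson p hp2 H
    ⟨_, hu, _, hl, by simp [Matrix.trace_fin_two, one_add_one_eq_two],
      by simp [Matrix.trace_fin_two, one_add_one_eq_two], fun h => by
      have := congrArg (fun g : Matrix.SpecialLinearGroup (Fin 2) (R ⧸ I) => g.1 0 0) h
      simp [mul_entry, hφ0] at this⟩
  have hneg : orderOf (-1 : Matrix.SpecialLinearGroup (Fin 2) (ZMod p)) = 2 := by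
    refine orderOf_eq_prime (by rw [sq, neg_mul_neg, one_mul]) fun h => ?_
    have h' := congrArg (fun g : Matrix.SpecialLinearGroup (Fin 2) (ZMod p) => g.1 0 0) h
    simp only [Matrix.SpecialLinearGroup.coe_neg, Matrix.SpecialLinearGroup.coe_one, Matrix.neg_apply,
      Matrix.one_apply_eq] at h'
    haveI : Fact (2 < p) := ⟨lt_of_le_of_ne (Fact.out : p.Prime).two_le hp2.symm⟩
    exact ZMod.neg_one_ne_one h'
  have heven : 2 ∣ Nat.card (pairGrp φ) := by
    refine dvd_trans ?_ (Subgroup.card_map_dvd (pairGrp φ) Pm)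
    refine dvd_trans ?_ (Subgroup.card_dvd_of_le hH')
    rw [Nat.card_congr e.toEquiv]
    have h := orderOf_dvd_natCard (-1 : Matrix.SpecialLinearGroup (Fin 2) (ZMod p))
    rw [hneg] at h
    exact h
  haveI : Fact (Nat.Prime 2) := ⟨Nat.prime_two⟩
  obtain ⟨⟨m, hm⟩, hord⟩ := exists_prime_orderOf_dvd_card' 2 heven
  rw [Subgroup.orderOf_mk, orderOf_eq_iff two_pos] at hord
  have hmm : m * m = 1 := by rw [← sq]; exact hord.1
  have hne : m ≠ 1 := by simpa using hord.2 1 one_lt_two one_pos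
  obtain ⟨two', htwo⟩ : ∃ two' : R, 2 * two' = 1 := ⟨algebraMap F R 2⁻¹, by
    rw [show (2 : R) = algebraMap F R 2 from (map_ofNat _ 2).symm, ← map_mul, mul_inv_cancel₀ h2, map_one]⟩
  have e00 := congrArg (fun g : Matrix.SpecialLinearGroup (Fin 2) R => g.1 0 0) hmm
  have e01 := congrArg (fun g : Matrix.SpecialLinearGroup (Fin 2) R => g.1 0 1) hmm
  have e10 := congrArg (fun g : Matrix.SpecialLinearGroup (Fin 2) R => g.1 1 0) hmm
  have hd : m.1 0 0 * m.1 1 1 - m.1 0 1 * m.1 1 0 = 1 := by rw [← Matrix.det_fin_two]; exact m.2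
  simp only [Matrix.SpecialLinearGroup.coe_mul, Matrix.SpecialLinearGroup.coe_one, Matrix.mul_apply,
    Fin.sum_univ_two, Matrix.one_apply_eq, Matrix.one_apply_ne (show (0 : Fin 2) ≠ 1 by decide),
    Matrix.one_apply_ne (show (1 : Fin 2) ≠ 0 by decide)] at e00 e01 e10
  set s := m.1 0 0 + m.1 1 1
  have hs : (m.1 0 0 * two') * s = 1 := by
    linear_combination two' * e00 + two' * hd + htwo
  have hβ : m.1 0 1 = 0 := by linear_combination m.1 0 0 * two' * e01 - m.1 0 1 * hs
  have hγ : m.1 1 0 = 0 := by linear_combination m.1 0 0 * two' * e10 - m.1 1 0 * hs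
  have hαα : m.1 0 0 * m.1 0 0 = 1 := by linear_combination e00 - m.1 1 0 * hβ
  have hδ : m.1 1 1 = m.1 0 0 := by
    linear_combination m.1 0 0 * hd + m.1 1 0 * m.1 0 0 * hβ - m.1 1 1 * hαα
  refine ⟨m, hm, m.1 0 0, hαα, fun h1 => hne ?_, ?_, hmm⟩
  · refine Subtype.ext (Matrix.ext fun i j => ?_)
    fin_cases i <;> fin_cases j <;> simp [hβ, hγ, hδ, h1]
  · ext i j
    fin_cases i <;> fin_cases j <;> simp [hβ, hγ, hδ]

end CfsgLib.MaxSub.TensorSympOrth
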