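/-
Elements of the radical of a parabolic give a non-scalar endomorphism or are pure.
-/
import Cfsg.Agent.Lib.MaxSub.TensorSympOrth.Basic

set_option autoImplicit false
set_option maxHeartbeats 400000
set_option linter.unusedSectionVars false

namespace CfsgLib.MaxSub.TensorSympOrth

open Matrix Module
open CfsgLib.MaxSub.TensorSymp (AForm)
open CfsgLib.MaxSub.TensorLin (Col colMap colMap_apply mem_col finrank_col colMap_injective vmv_eq_zero
  vmv_zero NP map_map_inv)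

variable {F : Type*} [Field F] {ι κ : Type*} [Fintype ι] [Fintype κ] [DecidableEq ι] [DecidableEq κ]
variable {f1 : (ι → F) → (ι → F) → F} {f2 : (κ → F) → (κ → F) → F}
  {f : Matrix ι κ F → Matrix ι κ F → F} {G : Subgroup (Matrix ι κ F ≃ₗ[F] Matrix ι κ F)}

local notation "MV" => Matrix ι κ F

/-- An element of the radical with its components. -/
def Rad (_O : SO f1 f2 f G) (v : κ → F) (D : MV ≃ₗ[F] MV) (Γ : (κ → F) → (ι → F) → (ι → F)) : Prop :=
  D ∈ G ∧ (∀ c, D (vecMulVec c v) = vecMulVec c v) ∧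
    ∀ c x, f2 x v = 0 → D (vecMulVec c x) = vecMulVec c x + vecMulVec (Γ x c) v

section

variable (O : SO f1 f2 f G)
include O

theorem finrank_ι : finrank F (ι → F) = Fintype.card ι := Module.finrank_fintype_fun_eq_card F

theorem hd3 : 3 ≤ finrank F (ι → F) := by
  rw [finrank_ι O]
  exact O.b3

/-- An element attached to a vector and an endomorphism. -/
def InG (v : κ → F) (T : (ι → F) →ₗ[F] (ι → F)) : Prop :=
  ∃ g ∈ G, ∀ X, g X = X + vecMulVec (T (cv O v X)) v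

/-- A non-scalar endomorphism at some vector. -/
def Ex : Prop :=
  ∃ v : κ → F, v ≠ 0 ∧ ∃ T : (ι → F) →ₗ[F] (ι → F), (∀ s : F, ∃ c, T c ≠ s • c) ∧ InG O v T

theorem scalar_of_not_ex (hex : ¬ Ex O) {v : κ → F} (hv : v ≠ 0) {T : (ι → F) →ₗ[F] (ι → F)}
    (h : InG O v T) : ∃ s : F, ∀ c, T c = s • c := by
  by_contra hc
  push Not at hc
  exact hex ⟨v, hv, T, hc, h⟩

/-- A map into a space of pure tensors killing its perpendicular. -/
theorem exists_rT {v z y : κ → F} (hz : f2 v z = 1) (hy : f2 y v = 1) (D : MV →ₗ[F] MV)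
    (hk : ∀ c x, f2 x v = 0 → D (vecMulVec c x) = 0) (hi : ∀ X, D X ∈ Col v) (X : MV) :
    D X = vecMulVec (cv O z (D (vecMulVec (cv O v X) y))) v := by
  have hback : ∀ Y ∈ Col (ι := ι) v, Y = vecMulVec (cv O z Y) v := fun Y hY => by
    obtain ⟨d, rfl⟩ := mem_col.1 hY
    rw [cv_pure, hz, one_smul]
  refine ext_pure (A := D) (B := colMap v ∘ₗ cv O z ∘ₗ D ∘ₗ colMap y ∘ₗ cv O v) (fun c x => ?_) X
  show _ = vecMulVec (cv O z (D (vecMulVec (cv O v (vecMulVec c x)) y))) v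
  rw [← hback _ (hi _), cv_pure]
  have e : vecMulVec c x = vecMulVec c (x - f2 x v • y) + vecMulVec (f2 x v • c) y := by
    rw [vmv_sub, vmv_smul, smul_vecMulVec, sub_add_cancel]
  conv_lhs => rw [e]
  rw [map_add, hk c _ (by rw [O.h2.sub_left, O.h2.smul_left, hy, mul_one, sub_self]), zero_add]

/-- An element unipotent on a space of pure tensors is there the identity plus a skew map. -/
theorem unip (hex : ¬ Ex O) {D : MV ≃ₗ[F] MV} (hD : D ∈ G) {v : κ → F} (hv : v ≠ 0)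
    {τ : (ι → F) →ₗ[F] (ι → F)} (hττ : ∀ c, τ (τ c) = 0)
    (hτ : ∀ d, D (vecMulVec d v) = vecMulVec (d + τ d) v) :
    (∀ c d, f1 (τ c) (τ d) = 0) ∧ ∀ c d, f1 (τ c) d + f1 c (τ d) = 0 := by
  obtain ⟨y, hy⟩ := O.h2.exists_left hv
  obtain ⟨t, ht, htX, -⟩ := tv O v 1
  let X₀ : (ι → F) →ₗ[F] (ι → F) := LinearMap.id + τ
  let X₁ : (ι → F) →ₗ[F] (ι → F) := cv O v ∘ₗ D.symm.toLinearMap ∘ₗ colMap y
  have hX0 : ∀ d, D (vecMulVec d v) = vecMulVec (X₀ d) v := hτ
  have hadj : ∀ c d, f1 (X₁ c) d = f1 c (X₀ d) := fun c d => by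
    show f1 (cv O v (D.symm (vecMulVec c y))) d = _
    rw [← f_cv O, isom_symm O hD, hX0, O.f_pure, hy, mul_one]
  have hin : InG O v (X₀ ∘ₗ X₁) := by
    refine ⟨D * t * D⁻¹, mul_mem (mul_mem hD ht) (inv_mem hD), fun Y => ?_⟩
    show D (t (D.symm Y)) = _
    have h1 : cv O v (D.symm Y) = X₁ (cv O v Y) := O.h1.ext_left fun d => by
      rw [← f_cv O, isom_symm O hD, hX0, f_cv O, hadj]
    rw [htX, one_smul, map_add, D.apply_symm_apply, hX0, h1]
    rfl
  obtain ⟨s, hs⟩ := scalar_of_not_ex O hex hv hin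
  have hinj : ∀ c, X₀ c = 0 → c = 0 := fun c hc => by
    have h1 : c + τ c = 0 := hc
    have h2 : τ c = 0 := by
      have := congrArg τ h1
      rwa [map_add, hττ, add_zero, map_zero] at this
    rwa [h2, add_zero] at h1
  have hs' : ∀ c d, f1 (X₀ c) (X₀ d) = s * f1 c d := fun c d => by
    have h1 : X₁ (X₀ c) = s • c := sub_eq_zero.1 (hinj _ (by
      rw [map_sub, map_smul, show X₀ (X₁ (X₀ c)) = s • X₀ c from hs (X₀ c), sub_self]))
    rw [← hadj, h1, O.h1.smul_left]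
  have hexp : ∀ c d, f1 c d + f1 c (τ d) + f1 (τ c) d + f1 (τ c) (τ d) = s * f1 c d := fun c d => by
    rw [← hs' c d]
    show _ = f1 (c + τ c) (d + τ d)
    rw [O.h1.add_left, O.h1.add_right, O.h1.add_right]
    ring
  by_cases hτ0 : τ = 0
  · subst hτ0
    exact ⟨fun c d => by simp [O.h1.zero_left], fun c d => by simp [O.h1.zero_left, O.h1.zero_right]⟩
  have hs1 : s = 1 := by
    by_contra hs1
    refine hτ0 (LinearMap.ext fun c => O.h1.nondeg _ fun d => ?_)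
    have h1 : ∀ e, f1 (τ c) (τ e) = 0 := fun e => by
      have := hexp (τ c) (τ e)
      rw [hττ, hττ, O.h1.zero_left, O.h1.zero_left, O.h1.zero_right] at this
      exact (mul_eq_zero.1 (show (1 - s) * f1 (τ c) (τ e) = 0 by linear_combination this)).resolve_left
        (sub_ne_zero.2 (Ne.symm hs1))
    have := hexp (τ c) d
    rw [hττ, O.h1.zero_left, O.h1.zero_left, h1] at this
    exact (mul_eq_zero.1 (show (1 - s) * f1 (τ c) d = 0 by linear_combination this)).resolve_left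
      (sub_ne_zero.2 (Ne.symm hs1))
  have h1 : ∀ c d, f1 (τ c) (τ d) = 0 := fun c d => by
    have := hexp (τ c) d
    rw [hττ, O.h1.zero_left, O.h1.zero_left, hs1] at this
    linear_combination this
  refine ⟨h1, fun c d => ?_⟩
  have := hexp c d
  rw [h1, hs1] at this
  linear_combination this

theorem rad_mul {v : κ → F} {D D' : MV ≃ₗ[F] MV} {Γ Γ' : (κ → F) → (ι → F) → (ι → F)}
    (h : Rad O v D Γ) (h' : Rad O v D' Γ') : Rad O v (D * D') fun x c => Γ x c + Γ' x c := by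
  refine ⟨mul_mem h.1 h'.1, fun c => ?_, fun c x hx => ?_⟩
  · rw [LinearEquiv.mul_apply, h'.2.1, h.2.1]
  · rw [LinearEquiv.mul_apply, h'.2.2 c x hx, map_add, h.2.2 c x hx, h.2.1, add_vecMulVec]
    abel

theorem rad_inv {v : κ → F} {D : MV ≃ₗ[F] MV} {Γ : (κ → F) → (ι → F) → (ι → F)} (h : Rad O v D Γ) :
    Rad O v D⁻¹ fun x c => -Γ x c := by
  refine ⟨inv_mem h.1, fun c => ?_, fun c x hx => ?_⟩
  · exact D.symm_apply_eq.2 (h.2.1 c).symm
  · refine D.symm_apply_eq.2 ?_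
    rw [neg_vmv, map_add, map_neg, h.2.2 c x hx, h.2.1]
    abel

/-- The commutator with Siegel elements. -/
theorem rad_sum (hex : ¬ Ex O) {v : κ → F} {D : MV ≃ₗ[F] MV} {Γ : (κ → F) → (ι → F) → (ι → F)}
    (hv : v ≠ 0) (h : Rad O v D Γ) {y w : κ → F} (hy : f2 y v = 1) (hw : f2 w v = 0) :
    (∀ c d, f1 (cv O w (D (vecMulVec c y) - vecMulVec c y)) d = -f1 c (Γ w d)) ∧
      ∃ r : F, ∀ c d, f1 (Γ w c) d + f1 c (Γ w d) = r * f1 c d := by
  obtain ⟨hD, hfix, hΓ⟩ := h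
  have hQ : ∀ c x, f2 x v = 0 → D (vecMulVec c x) - vecMulVec c x ∈ Col v := fun c x hx => by
    rw [hΓ c x hx, add_sub_cancel_left]
    exact mem_col.2 ⟨_, rfl⟩
  obtain ⟨hperp, hin⟩ := qlin O hD hv hfix hQ
  obtain ⟨z, hz⟩ := O.h2.exists_right hv
  have hwv : f2 v w = 0 := O.h2.symm0 hw
  have h1 : ∀ c d, f1 (cv O w (D (vecMulVec c y) - vecMulVec c y)) d = -f1 c (Γ w d) := fun c d => by
    have e := O.isom D hD (vecMulVec c y) (vecMulVec d w)
    rw [hΓ d w hw, O.h.add_right] at e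
    have e2 : f (D (vecMulVec c y)) (vecMulVec (Γ w d) v) = f1 c (Γ w d) := by
      have := O.isom D hD (vecMulVec c y) (vecMulVec (Γ w d) v)
      rwa [hfix, O.f_pure c (Γ w d), hy, mul_one] at this
    rw [e2] at e
    rw [← f_cv O, O.h.sub_left]
    linear_combination e
  refine ⟨h1, ?_⟩
  obtain ⟨E, hE, hEX, -⟩ := eich O (v := v) (w := w) 0 hw
  let Δ : MV →ₗ[F] MV := D.toLinearMap - LinearMap.id
  have hΔ : ∀ X, Δ X = D X - X := fun X => rfl
  have hD' : ∀ X, D X = X + Δ X := fun X => by rw [hΔ, add_sub_cancel]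
  have hΔN : ∀ Y ∈ Col (ι := ι) v, Δ Y = 0 := fun Y hY => by
    obtain ⟨c, rfl⟩ := mem_col.1 hY
    rw [hΔ, hfix, sub_self]
  have hδN : ∀ Y ∈ Col (ι := ι) v, dl O v w 0 Y = 0 := fun Y hY => by
    rw [dl_apply, cv_col O (O.h2.self v) hY, cv_col O hwv hY, zero_vecMulVec, zero_vecMulVec,
      smul_zero, add_zero, add_zero]
  have hδc : ∀ X, cv O v (dl O v w 0 X) = 0 := fun X => by
    simp [dl_apply, cv_pure, hw, O.h2.self]
  have hδq : ∀ Y, cv O v Y = 0 → dl O v w 0 Y = vecMulVec (cv O w Y) v := fun Y hY => by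
    rw [dl_apply, hY, zero_vecMulVec, zero_vecMulVec, smul_zero, zero_add, add_zero]
  let C : MV →ₗ[F] MV := Δ ∘ₗ dl O v w 0 - dl O v w 0 ∘ₗ Δ
  have hC : ∀ X, C X = Δ (dl O v w 0 X) - dl O v w 0 (Δ X) := fun X => rfl
  have hCi : ∀ X, C X ∈ Col v := fun X => by
    rw [hC]
    refine (Col v).sub_mem (hin _ (hδc X)) ?_
    rw [hδq (Δ X) (hperp X)]
    exact mem_col.2 ⟨_, rfl⟩
  have hCk : ∀ c x, f2 x v = 0 → C (vecMulVec c x) = 0 := fun c x hx => by
    have h1 : dl O v w 0 (vecMulVec c x) ∈ Col v := by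
      rw [hδq _ (by rw [cv_pure, hx, zero_smul])]
      exact mem_col.2 ⟨_, rfl⟩
    rw [hC, hΔN _ h1, hδN (Δ (vecMulVec c x)) (hQ c x hx), sub_zero]
  have hCX := exists_rT O hz hy C hCk hCi
  let T : (ι → F) →ₗ[F] (ι → F) := cv O z ∘ₗ C ∘ₗ colMap y
  have hT : InG O v T := by
    refine ⟨(E * D)⁻¹ * (D * E), mul_mem (inv_mem (mul_mem hE hD)) (mul_mem hD hE), fun X => ?_⟩
    refine (E * D).injective ?_
    rw [← LinearEquiv.mul_apply, mul_inv_cancel_left]
    show D (E X) = E (D (X + vecMulVec (cv O z (C (vecMulVec (cv O v X) y))) v))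
    rw [← hCX, map_add D, hEX X, map_add D, hD' (C X), hΔN _ (hCi X), add_zero, hD' X,
      hD' (dl O v w 0 X), hEX, map_add (dl O v w 0), map_add (dl O v w 0), hδN _ (hCi X), add_zero, hC]
    abel
  obtain ⟨r, hr⟩ := scalar_of_not_ex O hex hv hT
  refine ⟨r, fun c d => ?_⟩
  have e : T c = Γ w c - cv O w (D (vecMulVec c y) - vecMulVec c y) := by
    show cv O z (C (vecMulVec c y)) = _
    have h3 : Δ (dl O v w 0 (vecMulVec c y)) = vecMulVec (Γ w c) v := by
      rw [dl_pure, hy, one_smul, zero_mul, zero_smul, add_zero, vecMulVec_add, map_add,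
        hΔN (vecMulVec c (f2 y w • v)) (mem_col.2 ⟨f2 y w • c, by rw [smul_vecMulVec, vmv_smul]⟩),
        add_zero, hΔ, hΓ c w hw, add_sub_cancel_left]
    rw [hC, h3, hΔ (vecMulVec c y), hδq _ (hperp _), map_sub, cv_pure, cv_pure, hz, one_smul, one_smul]
  have e2 := congrArg (fun u => f1 u d) (hr c)
  simp only [e, O.h1.sub_left, h1, O.h1.smul_left] at e2
  linear_combination e2

/-- The components are scalar. -/
theorem rad_scalar (hex : ¬ Ex O) {v : κ → F} {D : MV ≃ₗ[F] MV} {Γ : (κ → F) → (ι → F) → (ι → F)}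
    (hv : v ≠ 0) (h : Rad O v D Γ) {z₀ : κ → F} (hz₀ : f2 z₀ v = 0) :
    ∃ ρ : F, ∀ c, Γ z₀ c = ρ • c := by
  obtain ⟨y, hy⟩ := O.h2.exists_left hv
  obtain ⟨z, hz⟩ := O.h2.exists_right hv
  have hΓz : ∀ {D : MV ≃ₗ[F] MV} {Γ : (κ → F) → (ι → F) → (ι → F)}, Rad O v D Γ →
      ∀ c x, f2 x v = 0 → Γ x c = cv O z (D (vecMulVec c x) - vecMulVec c x) := fun h c x hx => by
    rw [h.2.2 c x hx, add_sub_cancel_left, cv_pure, hz, one_smul]
  by_cases hmem : z₀ ∈ F ∙ v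
  · obtain ⟨t, rfl⟩ := Submodule.mem_span_singleton.1 hmem
    refine ⟨0, fun c => ?_⟩
    rw [hΓz h c _ hz₀, vmv_smul, map_smul, h.2.1, sub_self, map_zero, zero_smul]
  -- linearity in the second argument
  have hlin : ∀ x (t : F), f2 x v = 0 → ∀ c, Γ (x - t • z₀) c = Γ x c - t • Γ z₀ c := fun x t hx c => by
    rw [hΓz h c _ (by rw [O.h2.sub_left, O.h2.smul_left, hx, hz₀, mul_zero, sub_zero]), hΓz h c x hx,
      hΓz h c z₀ hz₀, vmv_sub, vmv_smul]
    simp only [map_sub, map_smul]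
    module
  let M : (ι → F) →ₗ[F] (ι → F) := cv O z ∘ₗ (D.toLinearMap - LinearMap.id) ∘ₗ colMap z₀
  have hM : ∀ c, M c = Γ z₀ c := fun c => (hΓz h c z₀ hz₀).symm
  obtain ⟨-, r₀, hr₀⟩ := rad_sum O hex hv h hy hz₀
  obtain ⟨z₂, hz₂, hz₂0⟩ : ∃ z₂, f2 z₂ v = 0 ∧ f2 z₂ z₀ = 1 := by
    obtain ⟨u, hu, hu0⟩ := O.h2.exists_perp_ne hv hmem
    have hu' : f2 u z₀ ≠ 0 := O.h2.symm_ne hu0
    exact ⟨(f2 u z₀)⁻¹ • u, by rw [O.h2.smul_left, hu, mul_zero],
      by rw [O.h2.smul_left, inv_mul_cancel₀ hu']⟩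
  -- the first derived element
  obtain ⟨P, hP, hPc⟩ := O.right z₀ 1
  have hv0 : f2 v z₀ = 0 := O.h2.symm0 hz₀
  have hPv : ∀ c, P (vecMulVec c v) = vecMulVec c v := fun c => by
    rw [hPc, hv0, mul_zero, zero_smul, add_zero]
  have hconj : Rad O v (P * D * P⁻¹) fun x c => Γ (x - f2 x z₀ • z₀) c := by
    refine ⟨mul_mem (mul_mem hP h.1) (inv_mem hP), fun c => ?_, fun c x hx => ?_⟩
    · show P (D (P.symm (vecMulVec c v))) = _
      rw [P.symm_apply_eq.2 (hPv c).symm, h.2.1, hPv]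
    · show P (D (P.symm (vecMulVec c x))) = _
      have e : P.symm (vecMulVec c x) = vecMulVec c (x - f2 x z₀ • z₀) := P.symm_apply_eq.2 (by
        rw [hPc, O.h2.sub_left, O.h2.smul_left, O.h2.self, mul_zero, sub_zero, one_mul, sub_add_cancel])
      rw [e, h.2.2 _ _ (by rw [O.h2.sub_left, O.h2.smul_left, hx, hz₀, mul_zero, sub_zero]), map_add,
        ← e, P.apply_symm_apply, hPv]
  have hD1 := rad_mul O h (rad_inv O hconj)
  refine O.h1.eigen_scalar (hd3 O) M (fun w hw c => ?_) |>.imp fun ρ hρ c => by rw [← hM]; exact hρ c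
  set β := 2 / f1 w w with hβ
  obtain ⟨R, hR, hRc, -, hRR⟩ := rf O hw
  set L : (ι → F) → (ι → F) := fun c => O.h1.refl w (M (O.h1.refl w c)) - M c with hLd
  have hD1' : Rad O v (D * (P * D * P⁻¹)⁻¹) fun x c => f2 x z₀ • M c := by
    refine ⟨hD1.1, hD1.2.1, fun c x hx => ?_⟩
    rw [hD1.2.2 c x hx]
    beta_reduce
    rw [hM, hlin x _ hx]
    congr 2
    abel
  set D₁ := D * (P * D * P⁻¹)⁻¹
  have hconj2 : Rad O v (R * D₁ * R⁻¹)
      fun x c => f2 x z₀ • O.h1.refl w (M (O.h1.refl w c)) := by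
    have hRi : ∀ X, R.symm X = R X := fun X => R.symm_apply_eq.2 (hRR X).symm
    refine ⟨mul_mem (mul_mem hR hD1'.1) (inv_mem hR), fun c => ?_, fun c x hx => ?_⟩
    · show R (D₁ (R.symm (vecMulVec c v))) = _
      rw [hRi, hRc, hD1'.2.1, hRc, O.h1.refl_refl hw]
    · show R (D₁ (R.symm (vecMulVec c x))) = _
      rw [hRi, hRc, hD1'.2.2 _ x hx, map_add, hRc, hRc, O.h1.refl_refl hw, map_smul]
  have hA : Rad O v (R * D₁ * R⁻¹ * D₁⁻¹) fun x c => f2 x z₀ • L c := by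
    obtain ⟨h1, h2, h3⟩ := rad_mul O hconj2 (rad_inv O hD1')
    refine ⟨h1, h2, fun c x hx => ?_⟩
    rw [h3 c x hx]
    beta_reduce
    rw [hLd]
    beta_reduce
    rw [smul_sub, sub_eq_add_neg]
  obtain ⟨A₁, hA⟩ : ∃ A₁, Rad O v A₁ fun x c => f2 x z₀ • L c := ⟨_, hA⟩
  -- the second derived element
  obtain ⟨Q, hQ, hQc⟩ := O.right (z₂ - z₀) (-1)
  have hu : f2 v (z₂ - z₀) = 0 := O.h2.symm0 (by rw [O.h2.sub_left, hz₂, hz₀, sub_zero])
  have hQv : ∀ c, Q (vecMulVec c v) = vecMulVec c v := fun c => by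
    rw [hQc, hu, mul_zero, zero_smul, add_zero]
  have hB : Rad O v (Q * A₁ * Q⁻¹) fun x c => f2 x z₂ • L c := by
    refine ⟨mul_mem (mul_mem hQ hA.1) (inv_mem hQ), fun c => ?_, fun c x hx => ?_⟩
    · show Q (A₁ (Q.symm (vecMulVec c v))) = _
      rw [Q.symm_apply_eq.2 (hQv c).symm, hA.2.1, hQv]
    · show Q (A₁ (Q.symm (vecMulVec c x))) = _
      have e : Q.symm (vecMulVec c x) = vecMulVec c (x + f2 x (z₂ - z₀) • (z₂ - z₀)) :=
        Q.symm_apply_eq.2 (by
          rw [hQc, O.h2.add_left, O.h2.smul_left, O.h2.self, mul_zero, add_zero, add_assoc, ← add_smul,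
            show f2 x (z₂ - z₀) + -1 * f2 x (z₂ - z₀) = 0 by ring, zero_smul, add_zero])
      rw [e, hA.2.2 _ _ (by
        rw [O.h2.add_left, O.h2.smul_left, hx, O.h2.sub_left, hz₂, hz₀, sub_zero, mul_zero, add_zero]),
        map_add, ← e, Q.apply_symm_apply, hQv]
      congr 3
      beta_reduce
      rw [O.h2.add_left, O.h2.smul_left, O.h2.sub_left, hz₂0, O.h2.self, sub_zero, mul_one,
        O.h2.sub_right, add_sub_cancel]
  obtain ⟨B₁, hB⟩ : ∃ B₁, Rad O v B₁ fun x c => f2 x z₂ • L c := ⟨_, hB⟩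
  -- skewness
  have hskew : ∀ c d, f1 (L c) d + f1 c (L d) = 0 := fun c d => by
    have e1 : ∀ a b, f1 (O.h1.refl w a) b = f1 a (O.h1.refl w b) := fun a b => by
      conv_lhs => rw [← O.h1.refl_refl hw b, O.h1.refl_isom hw]
    rw [hLd]
    simp only [O.h1.sub_left, O.h1.sub_right]
    rw [e1, ← e1 c, hM, hM, hM, hM]
    have := hr₀ (O.h1.refl w c) (O.h1.refl w d)
    rw [O.h1.refl_isom hw] at this
    linear_combination this - hr₀ c d
  have hy' : ∀ {D' : MV ≃ₗ[F] MV} {u : κ → F}, f2 u v = 0 → Rad O v D' (fun x c => f2 x u • L c) →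
      ∀ c, D' (vecMulVec c y) - vecMulVec c y + vecMulVec (L c) u ∈ Col v := fun {D' u} hu hD' c => by
    refine col_of_cv O hv fun x hx => O.h1.nondeg _ fun d => ?_
    rw [map_add, O.h1.add_left, (rad_sum O hex hv hD' hy hx).1, cv_pure, O.h1.smul_left,
      O.h1.smul_right, O.h2.swap x u]
    linear_combination (-(f2 x u)) * hskew c d
  -- the commutator
  have hqA := qlin O hA.1 hv hA.2.1 fun c x hx => by
    rw [hA.2.2 c x hx, add_sub_cancel_left]; exact mem_col.2 ⟨_, rfl⟩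
  have hqB := qlin O hB.1 hv hB.2.1 fun c x hx => by
    rw [hB.2.2 c x hx, add_sub_cancel_left]; exact mem_col.2 ⟨_, rfl⟩
  let C : MV →ₗ[F] MV := A₁.toLinearMap ∘ₗ B₁.toLinearMap - B₁.toLinearMap ∘ₗ A₁.toLinearMap
  have hC : ∀ X, C X = A₁ (B₁ X) - B₁ (A₁ X) := fun X => rfl
  have hfA : ∀ Y ∈ Col (ι := ι) v, A₁ Y = Y := fun Y hY => by
    obtain ⟨d, rfl⟩ := mem_col.1 hY; exact hA.2.1 d
  have hfB : ∀ Y ∈ Col (ι := ι) v, B₁ Y = Y := fun Y hY => by
    obtain ⟨d, rfl⟩ := mem_col.1 hY; exact hB.2.1 d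
  have hC' : ∀ X, C X = (A₁ (B₁ X - X) - (B₁ X - X)) - (B₁ (A₁ X - X) - (A₁ X - X)) := fun X => by
    rw [hC, map_sub, map_sub]; abel
  have hCi : ∀ X, C X ∈ Col v := fun X => by
    rw [hC']
    exact (Col v).sub_mem (hqA.2 _ (hqB.1 X)) (hqB.2 _ (hqA.1 X))
  have hCk : ∀ c x, f2 x v = 0 → C (vecMulVec c x) = 0 := fun c x hx => by
    have hb : B₁ (vecMulVec c x) - vecMulVec c x ∈ Col v := by
      rw [hB.2.2 c x hx, add_sub_cancel_left]; exact mem_col.2 ⟨_, rfl⟩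
    have ha : A₁ (vecMulVec c x) - vecMulVec c x ∈ Col v := by
      rw [hA.2.2 c x hx, add_sub_cancel_left]; exact mem_col.2 ⟨_, rfl⟩
    rw [hC', hfA _ hb, hfB _ ha, sub_self, sub_self, sub_zero]
  let T : (ι → F) →ₗ[F] (ι → F) := cv O z ∘ₗ C ∘ₗ colMap y
  have hT : InG O v T := by
    refine ⟨(B₁ * A₁)⁻¹ * (A₁ * B₁), mul_mem (inv_mem (mul_mem hB.1 hA.1)) (mul_mem hA.1 hB.1),
      fun X => (B₁ * A₁).injective ?_⟩
    rw [← LinearEquiv.mul_apply, mul_inv_cancel_left]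
    show A₁ (B₁ X) = B₁ (A₁ (X + vecMulVec (cv O z (C (vecMulVec (cv O v X) y))) v))
    rw [← exists_rT O hz hy C hCk hCi, map_add A₁, hfA _ (hCi X), map_add B₁, hfB _ (hCi X), hC,
      add_sub_cancel]
  obtain ⟨s, hs⟩ := scalar_of_not_ex O hex hv hT
  have hTL : ∀ c, (-2 : F) • L (L c) = s • c := fun c => by
    rw [← hs c]
    show _ = cv O z (C (vecMulVec c y))
    obtain ⟨γa, hγa⟩ := mem_col.1 (hy' hz₀ hA c)
    obtain ⟨γb, hγb⟩ := mem_col.1 (hy' hz₂ hB c)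
    rw [hC', show B₁ (vecMulVec c y) - vecMulVec c y = vecMulVec γb v - vecMulVec (L c) z₂ by
        rw [hγb, add_sub_cancel_right],
      show A₁ (vecMulVec c y) - vecMulVec c y = vecMulVec γa v - vecMulVec (L c) z₀ by
        rw [hγa, add_sub_cancel_right],
      map_sub A₁, map_sub B₁, hA.2.1, hB.2.1, hA.2.2 _ z₂ hz₂, hB.2.2 _ z₀ hz₀]
    beta_reduce
    rw [hz₂0, O.h2.swap z₂ z₀, hz₂0]
    simp only [map_sub, map_add, cv_pure, hz, one_smul]
    module
  set p := M w - (r₀ / 2) • w with hp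
  have h2 := O.h1.two
  have hMw : 2 * f1 (M w) w = r₀ * f1 w w := by
    have := hr₀ w w
    rw [← hM, O.h1.symm (M w) w] at this
    rw [O.h1.symm w (M w)] at this ⊢
    linear_combination this
  have hpw : f1 p w = 0 := by
    rw [hp, O.h1.sub_left, O.h1.smul_left]
    field_simp
    linear_combination hMw
  have hLf : ∀ c, L c = β • (f1 c p • w - f1 c w • p) := fun c => by
    have e1 : f1 (M c) w = r₀ * f1 c w - f1 c (M w) := by
      have := hr₀ c w
      rw [← hM, ← hM] at this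
      linear_combination this
    rw [hLd, hp]
    simp only [O.h1.refl_apply, map_sub, map_smul, O.h1.sub_left, O.h1.sub_right, O.h1.smul_left,
      O.h1.smul_right, e1, ← hβ]
    have e2 : β * f1 (M w) w = r₀ := by rw [hβ]; field_simp; linear_combination hMw
    match_scalars
    · ring
    · ring_nf
    · have e2' := e2
      field_simp
      linear_combination (β * f1 c w * 2) * e2'
  have hs0 : s = 0 := by
    obtain ⟨P', hP', hdim⟩ := O.h1.finrank_perp_le ![w, p]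
    obtain ⟨c₀, hc₀, hc₀0⟩ := (Submodule.ne_bot_iff P').1 fun e => by
      rw [e, finrank_bot] at hdim
      have := hd3 O
      omega
    have e : L c₀ = 0 := by
      rw [hLf, show f1 c₀ w = 0 from (hP' c₀).1 hc₀ 0, show f1 c₀ p = 0 from (hP' c₀).1 hc₀ 1,
        zero_smul, zero_smul, sub_zero, smul_zero]
    have := hTL c₀
    rw [e, hLf 0, O.h1.zero_left, O.h1.zero_left, zero_smul, zero_smul, sub_zero, smul_zero,
      smul_zero] at this
    exact (smul_eq_zero.1 this.symm).resolve_right hc₀0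
  have hLL : ∀ c, L (L c) = 0 := fun c => by
    have := hTL c
    rw [hs0, zero_smul] at this
    exact (smul_eq_zero.1 this).resolve_left (neg_ne_zero.2 h2)
  have hβ0 : β ≠ 0 := div_ne_zero h2 hw
  have hwp : f1 w p = 0 := O.h1.symm0 hpw
  have hpp : f1 p p = 0 := by
    have := congrArg (fun u => f1 u w) (hLL w)
    simp only [hLf, O.h1.smul_left, O.h1.sub_left, O.h1.zero_left, hwp, hpw] at this
    ring_nf at this
    simpa [hw, hβ0] using this
  have hp0 : p = 0 := O.h1.nondeg p fun c => by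
    rw [O.h1.symm]
    by_contra hcp
    have := congrArg (fun u => f1 u c) (hLL c)
    simp only [hLf, O.h1.smul_left, O.h1.sub_left, O.h1.zero_left, hwp, hpw, hpp, O.h1.symm c p] at this
    ring_nf at this
    simp [hw, hβ0, hcp] at this
  have hL0 : L c = 0 := by
    rw [hLf, hp0, O.h1.zero_right, zero_smul, smul_zero, sub_zero, smul_zero]
  have e : O.h1.refl w (M (O.h1.refl w c)) = M c := sub_eq_zero.1 hL0
  rw [← e, O.h1.refl_refl hw]

/-- An element of the radical: a non-scalar endomorphism, or pure. -/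
theorem qel {D : MV ≃ₗ[F] MV} (hD : D ∈ G) {v : κ → F} (hv : v ≠ 0)
    (hfix : ∀ c, D (vecMulVec c v) = vecMulVec c v)
    (hQ : ∀ c x, f2 x v = 0 → D (vecMulVec c x) - vecMulVec c x ∈ Col v) : Ex O ∨ Pure D := by
  refine or_iff_not_imp_left.2 fun hex => ?_
  obtain ⟨z, hz⟩ := O.h2.exists_right hv
  obtain ⟨y, hy⟩ := O.h2.exists_left hv
  let Γ : (κ → F) → (ι → F) → (ι → F) := fun x c => cv O z (D (vecMulVec c x) - vecMulVec c x)
  have hΓ : ∀ c x, f2 x v = 0 → D (vecMulVec c x) = vecMulVec c x + vecMulVec (Γ x c) v := fun c x hx => by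
    obtain ⟨d, hd⟩ := mem_col.1 (hQ c x hx)
    show _ = _ + vecMulVec (cv O z (D (vecMulVec c x) - vecMulVec c x)) v
    rw [← hd, cv_pure, hz, one_smul, hd, add_sub_cancel]
  obtain ⟨i⟩ : Nonempty ι := Fintype.card_pos_iff.1 (by have := O.b3; omega)
  let φ : (κ → F) →ₗ[F] F :=
    { toFun := fun x => Γ x (Pi.single i 1) i
      map_add' := fun x y => by
        show cv O z (_ - _) i = cv O z (_ - _) i + cv O z (_ - _) i
        rw [vecMulVec_add, map_add D, ← Pi.add_apply, ← map_add (cv O z), add_sub_add_comm]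
      map_smul' := fun t x => by
        show cv O z (_ - _) i = t • cv O z (_ - _) i
        rw [vmv_smul, map_smul, ← smul_sub, map_smul, Pi.smul_apply] }
  have hφ : ∀ w, f2 w v = 0 → ∀ c, Γ w c = φ w • c := fun w hw c => by
    obtain ⟨ρ, hρ⟩ := rad_scalar O hex hv ⟨hD, hfix, hΓ⟩ hw
    show _ = (Γ w (Pi.single i 1) i) • c
    rw [hρ, hρ, Pi.smul_apply, Pi.single_eq_same, smul_eq_mul, mul_one]
  obtain ⟨w₀, hw₀⟩ := O.h2.exists_repr φ
  have hw₀v : f2 w₀ v = 0 := O.h2.symm0 (by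
    rw [← hw₀]
    show cv O z (_ - _) i = 0
    rw [hfix, sub_self, map_zero, Pi.zero_apply])
  obtain ⟨E, hE, hEX, hEp⟩ := eich O (v := v) 0 hw₀v
  have hEx : ∀ c x, f2 x v = 0 → E (vecMulVec c x) = D (vecMulVec c x) := fun c x hx => by
    rw [hEX, hΓ c x hx, hφ x hx, hw₀, dl_pure, hx, zero_smul, mul_zero, zero_smul, add_zero, zero_add,
      vmv_smul, smul_vecMulVec]
  have hfix' : ∀ c x, f2 x v = 0 → (E⁻¹ * D) (vecMulVec c x) = vecMulVec c x := fun c x hx => by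
    show E.symm (D (vecMulVec c x)) = _
    rw [← hEx c x hx, E.symm_apply_apply]
  let Δ' : MV →ₗ[F] MV := (E⁻¹ * D).toLinearMap - LinearMap.id
  have hΔ' : ∀ X, Δ' X = (E⁻¹ * D) X - X := fun X => rfl
  have hgG : E⁻¹ * D ∈ G := mul_mem (inv_mem hE) hD
  have hΔ'i : ∀ X, Δ' X ∈ Col v := fun X => col_of_cv O hv fun x hx => cv_eq_zero O fun d => by
    rw [hΔ', O.h.sub_left]
    conv_lhs => rw [show f ((E⁻¹ * D) X) (vecMulVec d x) = f ((E⁻¹ * D) X) ((E⁻¹ * D) (vecMulVec d x)) by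
      rw [hfix' d x hx]]
    rw [O.isom _ hgG, sub_self]
  have hrT := exists_rT O hz hy Δ' (fun c x hx => by rw [hΔ', hfix' c x hx, sub_self]) hΔ'i
  obtain ⟨s, hs⟩ := scalar_of_not_ex O hex hv (T := cv O z ∘ₗ Δ' ∘ₗ colMap y) ⟨_, hgG, fun X => by
    show _ = _ + vecMulVec (cv O z (Δ' (vecMulVec (cv O v X) y))) v
    rw [← hrT, hΔ', add_sub_cancel]⟩
  rw [← mul_inv_cancel_left E D]
  refine pure_mul O hEp ⟨fun x => x + (s * f2 x v) • v, fun c x => ?_⟩
  have hs' : ∀ c, cv O z (Δ' (vecMulVec c y)) = s • c := hs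
  rw [vecMulVec_add, vmv_smul, ← sub_eq_iff_eq_add', ← hΔ', hrT, hs', cv_pure, smul_smul,
    smul_vecMulVec]

end

end CfsgLib.MaxSub.TensorSympOrth
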