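/-
An element stabilising a space of pure tensors and transvecting along a member that is not pure gives a
non-scalar endomorphism, save for a numerical exception.
-/
import Cfsg.Agent.Lib.MaxSub.TensorSympOrth.Qel

set_option autoImplicit false
set_option maxHeartbeats 400000
set_option linter.unusedSectionVars false

namespace CfsgLib.MaxSub.TensorSympOrth

open Matrix Module
open CfsgLib.MaxSub.TensorSymp (AForm)
open CfsgLib.MaxSub.TensorLin (Col colMap colMap_apply mem_col finrank_col colMap_injective vmv_eq_zero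
  vmv_zero NP map_map_inv exists_dot_one)

variable {F : Type*} [Field F] {ι κ : Type*} [Fintype ι] [Fintype κ] [DecidableEq ι] [DecidableEq κ]
variable {f1 : (ι → F) → (ι → F) → F} {f2 : (κ → F) → (κ → F) → F}
  {f : Matrix ι κ F → Matrix ι κ F → F} {G : Subgroup (Matrix ι κ F ≃ₗ[F] Matrix ι κ F)}

local notation "MV" => Matrix ι κ F

section

variable (O : SO f1 f2 f G)
include O

theorem mem_span_of_col {c : ι → F} (hc : c ≠ 0) {v u : κ → F} (hv : v ≠ 0)
    (h : vecMulVec c u ∈ Col v) : u ∈ F ∙ v :=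
  O.h2.perp_perp hv fun x hx => by
    have := cv_col O (O.h2.symm0 hx) h
    rw [cv_pure] at this
    exact (smul_eq_zero.1 this).resolve_right hc

/-- An element fixing a space of pure tensors acts on the perpendicular by scalars. -/
theorem fix_scalar (hex : ¬ Ex O) {v : κ → F} (hv : v ≠ 0) {g : MV ≃ₗ[F] MV} (hg : g ∈ G)
    (hfix : ∀ c, g (vecMulVec c v) = vecMulVec c v) {w x : κ → F} (hw : f2 w v = 0) (hx : f2 x v = 0) :
    ∃ s : F, ∀ c, cv O w (g (vecMulVec c x) - vecMulVec c x) = s • c := by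
  obtain ⟨E, hE, hEX, -⟩ := eich O (v := v) (w := w) 0 hw
  obtain ⟨z, hz⟩ := O.h2.exists_right hv
  have hwv : f2 v w = 0 := O.h2.symm0 hw
  have hEN : ∀ c, E (vecMulVec c v) = vecMulVec c v := fun c => by
    rw [hEX, dl_pure, O.h2.self, hwv]
    simp [vmv_zero]
  have hEq : ∀ Y, cv O v Y = 0 → E Y = Y + vecMulVec (cv O w Y) v := fun Y hY => by
    rw [hEX, dl_apply, hY, zero_vecMulVec, zero_vecMulVec, smul_zero, zero_add, add_zero]
  have hgv : ∀ c x, f2 x v = 0 → cv O v (g (vecMulVec c x)) = 0 := fun c x hx => cv_eq_zero O fun d => by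
    rw [← hfix d, O.isom g hg, O.f_pure, hx, mul_zero]
  have hDx : ∀ c x, f2 x v = 0 → (g⁻¹ * E * g * E⁻¹) (vecMulVec c x) =
      vecMulVec c x + vecMulVec (cv O w (g (vecMulVec c x)) - f2 x w • c) v := fun c x hx => by
    show g.symm (E (g (E.symm (vecMulVec c x)))) = _
    have e1 : E.symm (vecMulVec c x) = vecMulVec c x - vecMulVec (f2 x w • c) v := E.symm_apply_eq.2 (by
      rw [map_sub, hEN, hEq _ (by rw [cv_pure, hx, zero_smul]), cv_pure, add_sub_cancel_right])
    refine g.symm_apply_eq.2 ?_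
    rw [e1, map_sub g, map_sub E, hfix, hEN, hEq _ (hgv c x hx), map_add g, hfix, sub_vmv, add_sub_assoc]
  rcases qel O (mul_mem (mul_mem (mul_mem (inv_mem hg) hE) hg) (inv_mem hE)) hv
    (fun c => by
      show g.symm (E (g (E.symm (vecMulVec c v)))) = _
      rw [E.symm_apply_eq.2 (hEN c).symm, hfix, hEN, g.symm_apply_eq.2 (hfix c).symm])
    (fun c x hx => by rw [hDx c x hx, add_sub_cancel_left]; exact mem_col.2 ⟨_, rfl⟩) with h | ⟨L, hL⟩
  · exact absurd h hex
  · refine ⟨f2 (L x - x) z, fun c => ?_⟩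
    have e := hL c x
    rw [hDx c x hx] at e
    have := congrArg (cv O z) (eq_sub_of_add_eq' e)
    rw [← vmv_sub, cv_pure, cv_pure, hz, one_smul] at this
    rw [← this, map_sub, cv_pure]

/-- An element stabilising a space of pure tensors and transvecting along a member that is not pure
comes from the first factor. -/
theorem shape (hex : ¬ Ex O) {M : Submodule F MV} (hnp : NP M) (hM : Mem G M) {A : MV →ₗ[F] MV}
    (hA : Tr f G M A) {v : κ → F} (hv : v ≠ 0) (hN : ∀ c, A (vecMulVec c v) ∈ Col v) :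
    ∃ φ : (ι → F) →ₗ[F] (ι → F), (∀ c, φ (φ c) = 0) ∧ (∀ c d, f1 (φ c) d + f1 c (φ d) = 0) ∧
      ∀ c x, A (vecMulVec c x) = vecMulVec (φ c) x := by
  obtain ⟨y, hy, hyX⟩ := hA.elem
  obtain ⟨z, hz⟩ := O.h2.exists_right hv
  have hvv : f2 v v = 0 := O.h2.self v
  have hback : ∀ Y ∈ Col (ι := ι) v, Y = vecMulVec (cv O z Y) v := fun Y hY => by
    obtain ⟨d, rfl⟩ := mem_col.1 hY
    rw [cv_pure, hz, one_smul]
  let φ : (ι → F) →ₗ[F] (ι → F) := cv O z ∘ₗ A ∘ₗ colMap v
  have hφ : ∀ c, A (vecMulVec c v) = vecMulVec (φ c) v := fun c => hback _ (hN c)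
  have hφφ : ∀ c, φ (φ c) = 0 := fun c => by
    show cv O z (A (vecMulVec (φ c) v)) = 0
    rw [← hφ, hA.sq, map_zero]
  have hτ : ∀ d, y (vecMulVec d v) = vecMulVec (d + φ d) v := fun d => by
    rw [hyX, hφ, add_vecMulVec]
  by_cases hφ0 : φ = 0
  · exfalso
    have hAN : ∀ Y ∈ Col (ι := ι) v, A Y = 0 := fun Y hY => by
      obtain ⟨c, rfl⟩ := mem_col.1 hY
      rw [hφ, hφ0, LinearMap.zero_apply, zero_vecMulVec]
    have hMv : ∀ m ∈ M, cv O v m = 0 := fun m hm => cv_eq_zero O fun d => O.h.symm0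
      (hA.perp O (hAN _ (mem_col.2 ⟨d, rfl⟩)) hm)
    have key : ∀ w x, f2 w v = 0 → f2 x v = 0 → ∃ s : F, ∀ c,
        cv O w (A (vecMulVec c x)) = s • c := fun w x hw hx => by
      obtain ⟨s, hs⟩ := fix_scalar O hex hv hy
        (fun c => by rw [hτ, hφ0, LinearMap.zero_apply, add_zero]) hw hx
      exact ⟨s, fun c => by rw [← hs c, hyX, add_sub_cancel_left]⟩
    choose! s hs' using key
    have pureA : ∀ {g : MV ≃ₗ[F] MV}, Pure g → (∀ X, g X = X + A X) → False := fun {g} hg hgX => by
      obtain ⟨L, hL⟩ := hg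
      have hAp : ∀ c x, A (vecMulVec c x) = vecMulVec c (L x - x) := fun c x => by
        rw [vmv_sub, ← hL, hgX, add_sub_cancel_left]
      obtain ⟨x, hx⟩ : ∃ x, L x - x ≠ 0 := by
        by_contra hc
        push Not at hc
        have h0 : ∀ X, A X = 0 := ext_pure (B := (0 : MV →ₗ[F] MV)) fun c x => by
          rw [hAp, hc, vmv_zero, LinearMap.zero_apply]
        have := mem_finrank O hM
        rw [show M = ⊥ from (Submodule.eq_bot_iff M).2 fun m hm => by
          obtain ⟨X, rfl⟩ := hA.onto m hm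
          exact h0 X, finrank_bot] at this
        have := O.b3
        omega
      refine hnp (L x - x) (Submodule.eq_of_le_of_finrank_eq (fun Y hY => ?_) ?_).symm
      · obtain ⟨d, rfl⟩ := mem_col.1 hY
        exact hAp d x ▸ hA.mem _
      · rw [finrank_col hx, mem_finrank O hM]
    by_cases hall : ∀ w x, f2 w v = 0 → f2 x v = 0 → s w x = 0
    · rcases qel O hy hv (fun c => by rw [hyX, hAN _ (mem_col.2 ⟨c, rfl⟩), add_zero])
        (fun c x hx => by
          rw [hyX, add_sub_cancel_left]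
          exact col_of_cv O hv fun w hw => by rw [hs' w x hw hx, hall w x hw hx, zero_smul]) with h | h
      · exact hex h
      · exact pureA h hyX
    push Not at hall
    obtain ⟨w₁, x₁, hw₁, hx₁, hs1⟩ := hall
    let B : (ι → F) →ₗ[F] MV := A ∘ₗ colMap x₁
    have hB : ∀ w, f2 w v = 0 → ∀ c, cv O w (B c) = s w x₁ • c := fun w hw c => hs' w x₁ hw hx₁ c
    have hBinj : Function.Injective B := (injective_iff_map_eq_zero B).2 fun c hc => by
      have := hB w₁ hw₁ c
      rw [hc, map_zero] at this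
      exact (smul_eq_zero.1 this.symm).resolve_left hs1
    have hBonto : ∀ m ∈ M, ∃ c, B c = m := fun m hm => by
      have e : LinearMap.range B = M := Submodule.eq_of_le_of_finrank_eq
        (fun X ⟨c, hc⟩ => hc ▸ hA.mem _)
        (by rw [LinearMap.finrank_range_of_inj hBinj, mem_finrank O hM,
          Module.finrank_fintype_fun_eq_card])
      exact LinearMap.mem_range.1 (e ▸ hm)
    -- the second factor
    obtain ⟨c₀, hc₀⟩ : ∃ c : ι → F, c ≠ 0 := by
      have := O.b3
      obtain ⟨i⟩ : Nonempty ι := Fintype.card_pos_iff.1 (by omega)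
      exact ⟨Pi.single i 1, by simp⟩
    obtain ⟨η, hη⟩ := exists_dot_one hc₀
    set u : κ → F := η ᵥ* (B c₀) with hu
    have hu_apply : ∀ w, f2 u w = η ⬝ᵥ cv O w (B c₀) := fun w => by
      rw [hu, vecMul_eq_sum, O.h2.sum_left]
      exact Finset.sum_congr rfl fun i _ => O.h2.smul_left _ _ _
    have huv : f2 u v = 0 := by rw [hu_apply, hMv (B c₀) (hA.mem _), dotProduct_zero]
    have huw : ∀ w, f2 w v = 0 → f2 u w = s w x₁ := fun w hw => by
      rw [hu_apply, hB w hw, dotProduct_smul, dotProduct_comm, hη, smul_eq_mul, mul_one]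
    have hBu : ∀ c, B c - vecMulVec c u ∈ Col v := fun c => col_of_cv O hv fun w hw => by
      rw [map_sub, hB w hw, cv_pure, huw w hw, sub_self]
    have huu : f2 u u = 0 := O.h2.self u
    set r : (κ → F) → F := fun x => s w₁ x / s w₁ x₁ with hr
    have hAr : ∀ c x, f2 x v = 0 → A (vecMulVec c x) = r x • B c := fun c x hx => by
      obtain ⟨d, hd⟩ := hBonto _ (hA.mem (vecMulVec c x))
      have h1 := hs' w₁ x hw₁ hx c
      rw [← hd, hB w₁ hw₁] at h1
      rw [← hd, ← map_smul]
      congr 1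
      calc d = (s w₁ x₁)⁻¹ • (s w₁ x₁ • d) := by rw [smul_smul, inv_mul_cancel₀ hs1, one_smul]
        _ = r x • c := by rw [h1, smul_smul]; simp only [hr]; rw [div_eq_inv_mul]
    have hsk : ∀ x x', f2 x v = 0 → f2 x' v = 0 → r x * f2 u x' = r x' * f2 u x := by
      intro x x' hx hx'
      obtain ⟨d, hd⟩ := O.h1.exists_left hc₀
      have := hA.skew (vecMulVec d x) (vecMulVec c₀ x')
      rw [hAr d x hx, hAr c₀ x' hx', O.h.smul_left, O.h.smul_right, f_cv O, hB x' hx',
        f_cv' O, hB x hx, O.h1.smul_left, O.h1.smul_left, hd, ← huw x' hx', ← huw x hx,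
        O.h1.symm d c₀, hd] at this
      linear_combination this
    set l := -r w₁ / f2 u w₁ with hl
    have hu1 : f2 u w₁ ≠ 0 := by rwa [huw w₁ hw₁]
    have hrl : ∀ x, f2 x v = 0 → r x = l * f2 x u := fun x hx => by
      rw [hl, div_mul_eq_mul_div, eq_div_iff hu1, hsk x w₁ hx hw₁, O.h2.swap u x]
      ring
    obtain ⟨t, ht, htX, -⟩ := tv O u (-l)
    rcases qel O (mul_mem hy ht) hv (fun c => by
        show y (t _) = _
        rw [htX, cv_pure, O.h2.symm0 huv, zero_smul, zero_vecMulVec, smul_zero, add_zero, hyX,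
          hAN _ (mem_col.2 ⟨c, rfl⟩), add_zero])
      (fun c x hx => by
        show y (t _) - _ ∈ _
        rw [htX, map_add, map_smul, hyX, hyX, cv_pure, smul_vecMulVec, map_smul, hAr c x hx,
          hAr c u huv, hrl u huv, huu, mul_zero, zero_smul, smul_zero, add_zero, hrl x hx,
          show vecMulVec c x + (l * f2 x u) • B c + -l • f2 x u • vecMulVec c u - vecMulVec c x
            = (l * f2 x u) • (B c - vecMulVec c u) by module]
        exact (Col v).smul_mem _ (hBu c)) with h | h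
    · exact hex h
    · refine pureA ?_ hyX
      rw [← mul_inv_cancel_right y t]
      refine pure_mul O h ?_
      obtain ⟨t', ht', ht'X, ht'p⟩ := tv O u l
      convert ht'p
      refine (inv_eq_of_mul_eq_one_left (LinearEquiv.ext fun X => ?_))
      show t' (t X) = X
      rw [ht'X, htX, map_add, map_smul, cv_pure, huu, zero_smul, smul_zero, add_zero]
      module
  obtain ⟨hφi, hφs⟩ := unip O hex hy hv hφφ hτ
  let X₀ : (ι → F) →ₗ[F] (ι → F) := LinearMap.id + φ
  obtain ⟨h, hh, hhX, -⟩ := lf O (L := X₀) fun c d => by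
    show f1 (c + φ c) (d + φ d) = _
    rw [O.h1.add_left, O.h1.add_right, O.h1.add_right, hφi]
    linear_combination hφs c d
  set g := h⁻¹ * y with hgd
  have hgG : g ∈ G := mul_mem (inv_mem hh) hy
  have hyg : ∀ X, h (g X) = X + A X := fun X => by
    rw [← hyX, hgd]
    exact h.apply_symm_apply _
  have hgfix : ∀ c, g (vecMulVec c v) = vecMulVec c v := fun c => h.injective (by
    rw [hyg, hφ, hhX, ← add_vecMulVec]; rfl)
  obtain ⟨c₀, hc₀⟩ : ∃ c, φ c ≠ 0 := by
    by_contra hc
    push Not at hc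
    exact hφ0 (LinearMap.ext hc)
  set c₁ := φ c₀ with hc₁
  obtain ⟨η, hη⟩ := exists_dot_one hc₀
  let N : (κ → F) →ₗ[F] (κ → F) :=
    { toFun := fun x => η ᵥ* (g (vecMulVec c₁ x) - vecMulVec c₁ x)
      map_add' := fun a b => by
        rw [vecMulVec_add, map_add g, add_sub_add_comm, vecMul_add]
      map_smul' := fun t a => by
        rw [vmv_smul, map_smul g, ← smul_sub, vecMul_smul, RingHom.id_apply] }
  have hNw : ∀ w x, f2 (N x) w = η ⬝ᵥ cv O w (g (vecMulVec c₁ x) - vecMulVec c₁ x) := fun w x => by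
    show f2 (η ᵥ* (g (vecMulVec c₁ x) - vecMulVec c₁ x)) w = _
    rw [vecMul_eq_sum, O.h2.sum_left]
    exact Finset.sum_congr rfl fun i _ => O.h2.smul_left _ _ _
  have hgN : ∀ w x, f2 w v = 0 → f2 x v = 0 → ∀ c,
      cv O w (g (vecMulVec c x) - vecMulVec c x) = f2 (N x) w • c := fun w x hw hx c => by
    obtain ⟨s, hs⟩ := fix_scalar O hex hv hgG hgfix hw hx
    rw [hs, hNw, hs, dotProduct_smul, dotProduct_comm, hη, smul_eq_mul, mul_one]
  have hNv : ∀ x, f2 x v = 0 → f2 (N x) v = 0 := fun x hx => by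
    have h0 : cv O v (g (vecMulVec c₁ x) - vecMulVec c₁ x) = 0 := cv_eq_zero O fun d => by
      have h1 : f (g (vecMulVec c₁ x)) (vecMulVec d v) = f (vecMulVec c₁ x) (vecMulVec d v) := by
        conv_lhs => rw [← hgfix d]
        rw [O.isom g hgG]
      rw [O.h.sub_left, h1, sub_self]
    rw [hNw, h0, dotProduct_zero]
  have hmod : ∀ c x, f2 x v = 0 →
      A (vecMulVec c x) - (vecMulVec (φ c) (x + N x) + vecMulVec c (N x)) ∈ Col v := fun c x hx => by
    obtain ⟨k, hk⟩ := mem_col.1 (show g (vecMulVec c x) - vecMulVec c (x + N x) ∈ Col v from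
      col_of_cv O hv fun w hw => by
        rw [vecMulVec_add, ← sub_sub, map_sub, hgN w x hw hx, cv_pure, sub_self])
    refine mem_col.2 ⟨k + φ k, ?_⟩
    have e := hyg (vecMulVec c x)
    rw [show g (vecMulVec c x) = vecMulVec c (x + N x) + vecMulVec k v by rw [hk, add_sub_cancel],
      map_add, hhX, hhX] at e
    rw [show X₀ c = c + φ c from rfl, show X₀ k = k + φ k from rfl, add_vecMulVec c,
      vecMulVec_add c] at e
    rw [vecMulVec_add (φ c)] at e ⊢
    rw [eq_sub_iff_add_eq]
    linear_combination (norm := abel) e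
  have hAcol : ∀ Y ∈ Col (ι := ι) v, A Y ∈ Col v := fun Y hY => by
    obtain ⟨c, rfl⟩ := mem_col.1 hY
    exact hN c
  have hsq : ∀ c x, f2 x v = 0 →
      (2 : F) • vecMulVec (φ c) (N x + N (N x)) + vecMulVec c (N (N x)) ∈ Col v := fun c x hx => by
    have h1 := hAcol _ (hmod c x hx)
    rw [map_sub, hA.sq, zero_sub, Submodule.neg_mem_iff, map_add] at h1
    have hx' : f2 (x + N x) v = 0 := by rw [O.h2.add_left, hx, hNv x hx, add_zero]
    have h2 := (Col v).sub_mem ((Col v).sub_mem h1 (hmod (φ c) _ hx')) (hmod c _ (hNv x hx))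
    rw [hφφ, zero_vecMulVec, zero_add, map_add N] at h2
    convert h2 using 1
    module
  have hN0 : ∀ x, f2 x v = 0 → N x ∈ F ∙ v := fun x hx => by
    have h1 := hsq c₁ x hx
    rw [hc₁, hφφ, zero_vecMulVec, smul_zero, zero_add] at h1
    have h2 : N (N x) ∈ F ∙ v := mem_span_of_col O hc₀ hv h1
    obtain ⟨t, ht⟩ := Submodule.mem_span_singleton.1 h2
    have h3 : (2 : F) • vecMulVec (φ c₀) (N x + t • v) ∈ Col v := by
      have h := (Col v).sub_mem (hsq c₀ x hx) (mem_col.2 ⟨t • c₀, rfl⟩ :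
        vecMulVec (t • c₀) v ∈ Col v)
      rwa [← ht, smul_vecMulVec, ← vmv_smul c₀ t v, add_sub_cancel_right] at h
    rw [Submodule.smul_mem_iff _ O.h1.two] at h3
    have h4 := mem_span_of_col O hc₀ hv h3
    have := (F ∙ v).sub_mem h4 (Submodule.smul_mem _ t (Submodule.mem_span_singleton_self v))
    rwa [add_sub_cancel_right] at this
  rcases qel O hgG hv hgfix (fun c x hx => col_of_cv O hv fun w hw => by
    rw [hgN w x hw hx, O.h2.symm0 (by
      obtain ⟨t, ht⟩ := Submodule.mem_span_singleton.1 (hN0 x hx)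
      rw [← ht, O.h2.smul_right, hw, mul_zero]), zero_smul]) with hE | ⟨L, hL⟩
  · exact absurd hE hex
  have hAp : ∀ c x, A (vecMulVec c x) = vecMulVec c (L x - x) + vecMulVec (φ c) (L x) := fun c x => by
    have e := hyg (vecMulVec c x)
    rw [hL, hhX, show X₀ c = c + φ c from rfl, add_vecMulVec] at e
    rw [vmv_sub]
    linear_combination (norm := abel) -e
  have hinj : ∀ {a b : κ → F}, vecMulVec c₁ a = vecMulVec c₁ b → a = b := fun {a b} e => by
    rw [← sub_eq_zero, ← vmv_sub, vmv_eq_zero] at e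
    exact sub_eq_zero.1 (e.resolve_left hc₀)
  have hL0 : ∀ x, L x = x := fun x => by
    have hsum : ∀ c, (vecMulVec c (L (L x - x) - (L x - x)) + vecMulVec (φ c) (L (L x - x)))
        + vecMulVec (φ c) (L (L x) - L x) = 0 := fun c => by
      have := hA.sq (vecMulVec c x)
      rwa [hAp, map_add, hAp, hAp, hφφ, zero_vecMulVec, add_zero] at this
    have h1 := hsum c₁
    rw [hc₁, hφφ, zero_vecMulVec, zero_vecMulVec, add_zero, add_zero, vmv_eq_zero] at h1
    have h1' : L (L x - x) = L x - x := sub_eq_zero.1 (h1.resolve_left hc₀)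
    have h2 : L (L x - x) = L (L x) - L x := hinj (by
      rw [← hL, vmv_sub, map_sub, hL, hL, ← vmv_sub])
    have h3 := hsum c₀
    rw [← h2, h1', sub_self, vmv_zero, zero_add, ← two_smul F, smul_eq_zero] at h3
    exact sub_eq_zero.1 (((vmv_eq_zero.1 (h3.resolve_left O.h1.two))).resolve_left hc₀)
  have hA' : ∀ c x, A (vecMulVec c x) = vecMulVec (φ c) x := fun c x => by
    rw [hAp, hL0, sub_self, vmv_zero, zero_add]
  exact ⟨φ, hφφ, hφs, hA'⟩

/-- An element stabilising a space of pure tensors and transvecting along a member that is not pure. -/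
theorem stab (hex : ¬ Ex O) {M : Submodule F MV} (hnp : NP M) (hM : Mem G M) {A : MV →ₗ[F] MV}
    (hA : Tr f G M A) {v : κ → F} (hv : v ≠ 0) (hN : ∀ c, A (vecMulVec c v) ∈ Col v) :
    Fintype.card ι = Fintype.card κ * finrank F (LinearMap.range (A ∘ₗ colMap v)) := by
  obtain ⟨φ, -, -, hA'⟩ := shape O hex hnp hM hA hv hN
  have hφ : ∀ c, A (vecMulVec c v) = vecMulVec (φ c) v := fun c => hA' c v
  let Ψ : (κ → LinearMap.range φ) →ₗ[F] MV :=
    { toFun := fun u => Matrix.of fun i j => (u j : ι → F) i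
      map_add' := fun a b => rfl
      map_smul' := fun t a => rfl }
  have hΨinj : Function.Injective Ψ := fun a b e => funext fun j => Subtype.ext (funext fun i =>
    congrFun (congrFun e i) j)
  have hΨM : LinearMap.range Ψ = M := by
    refine le_antisymm ?_ fun m hm => ?_
    · rintro _ ⟨u, rfl⟩
      have e : Ψ u = ∑ j, vecMulVec (u j : ι → F) (Pi.single j (1 : F)) := by
        ext i k
        simp [Matrix.sum_apply, vecMulVec_apply, Pi.single_apply]
        rfl
      rw [e]
      refine M.sum_mem fun j _ => ?_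
      obtain ⟨d, hd⟩ := (u j).2
      rw [← hd, ← hA']
      exact hA.mem _
    · obtain ⟨X, rfl⟩ := hA.onto m hm
      let cols : MV →ₗ[F] (κ → LinearMap.range φ) := LinearMap.pi fun j => φ.rangeRestrict ∘ₗ
        { toFun := fun X i => X i j, map_add' := fun a b => rfl, map_smul' := fun t a => rfl }
      refine ⟨cols X, (ext_pure (A := A) (B := Ψ ∘ₗ cols) (fun c x => ?_) X).symm⟩
      rw [hA']
      ext i j
      show φ c i * x j = φ (fun i => c i * x j) i
      rw [show (fun i => c i * x j) = x j • c from funext fun i => mul_comm _ _, map_smul, Pi.smul_apply,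
        smul_eq_mul, mul_comm]
  have hR : finrank F (LinearMap.range (A ∘ₗ colMap v)) = finrank F (LinearMap.range φ) := by
    rw [show A ∘ₗ colMap v = colMap v ∘ₗ φ from LinearMap.ext hφ, LinearMap.range_comp,
      ← (Submodule.equivMapOfInjective _ (colMap_injective hv) _).finrank_eq]
  have := mem_finrank O hM
  rw [← hΨM, LinearMap.finrank_range_of_inj hΨinj, Module.finrank_pi_fintype] at this
  rw [hR, ← this, Finset.sum_const, Finset.card_univ, smul_eq_mul]

end

end CfsgLib.MaxSub.TensorSympOrth
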