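/-
Moving a member that is not pure to one pairing with smaller rank.
-/
import Cfsg.Agent.Lib.MaxSub.TensorSympOrth.Stab
import Cfsg.Agent.Lib.Aschbacher.Forms

set_option autoImplicit false
set_option maxHeartbeats 400000
set_option linter.unusedSectionVars false

namespace CfsgLib.MaxSub.TensorSympOrth

open Matrix Module
open CfsgLib.MaxSub.TensorSymp (AForm)
open CfsgLib.MaxSub.TensorLin (Col colMap colMap_apply mem_col finrank_col colMap_injective vmv_eq_zero
  vmv_zero NP map_map_inv)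

variable {F : Type*} [Field F] {ι κ : Type} [Fintype ι] [Fintype κ] [DecidableEq ι] [DecidableEq κ]
variable {f1 : (ι → F) → (ι → F) → F} {f2 : (κ → F) → (κ → F) → F}
  {f : Matrix ι κ F → Matrix ι κ F → F} {G : Subgroup (Matrix ι κ F ≃ₗ[F] Matrix ι κ F)}

local notation "MV" => Matrix ι κ F

section

variable (O : SO f1 f2 f G)
include O

/-- No member that is not pure pairs with rank less than the given one. -/
def MinRank (r : ℕ) : Prop := ∀ L, Mem G L → NP L → ∀ v, v ≠ 0 → ¬ rank O L v < r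

theorem rank_le (M : Submodule F MV) (hM : Mem G M) (v : κ → F) : rank O M v ≤ Fintype.card ι := by
  have := rank_add_ker O hM v
  omega

/-- The rank of a moved member. -/
theorem rank_move {M : Submodule F MV} (hM : Mem G M) {g : MV ≃ₗ[F] MV} (hg : g ∈ G) {v' : κ → F}
    (hgM : M = (Col v').map g.toLinearMap) {h : MV ≃ₗ[F] MV} (hh : h ∈ G) (S : Submodule F MV)
    (hSM : S ≤ M) (hS : ∀ z ∈ S, ∀ m ∈ M, f (h z) m = 0) :
    rank O ((M.map h.toLinearMap).map (g⁻¹ : MV ≃ₗ[F] MV).toLinearMap) v' + finrank F S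
      ≤ Fintype.card ι := by
  have hL := mem_map O (mem_map O hM hh) (inv_mem hg)
  have h1 := rank_add_ker O hL v'
  have h2 : S.map (h.trans g.symm).toLinearMap ≤
      (M.map h.toLinearMap).map (g⁻¹ : MV ≃ₗ[F] MV).toLinearMap ⊓ LinearMap.ker (cv O v') := by
    rintro _ ⟨X, hX, rfl⟩
    refine ⟨⟨_, ⟨_, hSM hX, rfl⟩, rfl⟩, LinearMap.mem_ker.2 (cv_eq_zero O fun d => ?_)⟩
    show f (g.symm (h X)) _ = 0
    rw [isom_symm O hg]
    exact hS X hX _ (hgM ▸ Submodule.mem_map_of_mem (mem_col.2 ⟨d, rfl⟩))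
  have h3 := Submodule.finrank_mono h2
  rw [LinearEquiv.finrank_map_eq] at h3
  omega

/-- A moved member sharing a vector is not pure. -/
theorem np_move {M : Submodule F MV} {g : MV ≃ₗ[F] MV} {v' : κ → F}
    (hgM : M = (Col v').map g.toLinearMap) {h : MV ≃ₗ[F] MV} (hne : M.map h.toLinearMap ≠ M)
    {X : MV} (hX : X ≠ 0) (hXM : X ∈ M) (hhX : h X ∈ M) :
    NP ((M.map h.toLinearMap).map (g⁻¹ : MV ≃ₗ[F] MV).toLinearMap) := by
  have hne' : (M.map h.toLinearMap).map (g⁻¹ : MV ≃ₗ[F] MV).toLinearMap ≠ Col v' := fun e => hne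
    (Submodule.map_injective_of_injective (f := (g⁻¹ : MV ≃ₗ[F] MV).toLinearMap)
      (g⁻¹ : MV ≃ₗ[F] MV).injective (e.trans (by rw [hgM, map_map_inv])))
  refine np_of_meet O hne' (X := g.symm (h X)) (fun e => hX ?_) ⟨_, ⟨X, hXM, rfl⟩, rfl⟩ ?_
  · exact h.map_eq_zero_iff.1 (g.symm.map_eq_zero_iff.1 e)
  · rw [hgM] at hhX
    obtain ⟨Y, hY, hYe⟩ := hhX
    rw [← hYe]
    show g.symm (g Y) ∈ _
    rwa [g.symm_apply_apply]

/-- A moved member of deficient rank is not pure or is perpendicular. -/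
theorem pure_move {M : Submodule F MV} (hM : Mem G M) {g : MV ≃ₗ[F] MV} (hg : g ∈ G) {v' : κ → F}
    (hgM : M = (Col v').map g.toLinearMap) {h : MV ≃ₗ[F] MV} (hh : h ∈ G) {x : κ → F}
    (hx : (M.map h.toLinearMap).map (g⁻¹ : MV ≃ₗ[F] MV).toLinearMap = Col x)
    (hlt : rank O ((M.map h.toLinearMap).map (g⁻¹ : MV ≃ₗ[F] MV).toLinearMap) v' < Fintype.card ι) :
    ∀ z ∈ M, ∀ m ∈ M, f (h z) m = 0 := by
  have hL := mem_map O (mem_map O hM hh) (inv_mem hg)
  have hxv : f2 x v' = 0 := by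
    have h1 := rank_add_ker O hL v'
    obtain ⟨X, hX, hX0⟩ := (Submodule.ne_bot_iff
      ((M.map h.toLinearMap).map (g⁻¹ : MV ≃ₗ[F] MV).toLinearMap ⊓ LinearMap.ker (cv O v'))).1
      fun e => by
        rw [e, finrank_bot] at h1
        omega
    obtain ⟨d, hd⟩ := mem_col.1 (hx ▸ hX.1 : X ∈ Col x)
    have h2 := LinearMap.mem_ker.1 hX.2
    rw [← hd, cv_pure] at h2
    exact (smul_eq_zero.1 h2).resolve_right fun e => hX0 (by rw [← hd, e, zero_vecMulVec])
  intro z hz m hm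
  obtain ⟨c, hc⟩ := mem_col.1 (show g.symm (h z) ∈ Col x from
    hx ▸ Submodule.mem_map_of_mem (Submodule.mem_map_of_mem hz))
  rw [hgM] at hm
  obtain ⟨Y, hY, rfl⟩ := hm
  obtain ⟨d, rfl⟩ := mem_col.1 hY
  show f (h z) (g (vecMulVec d v')) = 0
  rw [← isom_symm O hg, ← hc, O.f_pure, hxv, mul_zero]

/-- A member that is not pure is moved by a reflection. -/
theorem exists_refl_move {M : Submodule F MV} (hM : Mem G M) (hnp : NP M) :
    ∃ w, f1 w w ≠ 0 ∧ ∃ R ∈ G, (∀ X, R X = X - (2 / f1 w w) • vecMulVec w (cw O w X)) ∧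
      M.map R.toLinearMap ≠ M := by
  by_contra hc
  push Not at hc
  have hin : ∀ w, f1 w w ≠ 0 → ∀ z ∈ M, vecMulVec w (cw O w z) ∈ M := fun w hw z hz => by
    obtain ⟨R, hR, -, hRX, -⟩ := rf O hw
    have h1 : R z ∈ M := hc w hw R hR hRX ▸ Submodule.mem_map_of_mem hz
    have h2 := M.sub_mem hz h1
    rw [hRX, sub_sub_cancel] at h2
    exact (Submodule.smul_mem_iff _ (div_ne_zero O.h1.two hw)).1 h2
  obtain ⟨z, hz, hz0⟩ := (Submodule.ne_bot_iff M).1 fun e => by
    have := mem_finrank O hM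
    rw [e, finrank_bot] at this
    have := O.b3
    omega
  obtain ⟨w, hw, hwz⟩ : ∃ w, f1 w w ≠ 0 ∧ cw O w z ≠ 0 := by
    by_contra hcw
    push Not at hcw
    refine hz0 (Matrix.ext fun i j => congrFun (O.h1.nondeg (fun i => z i j) fun y => ?_) i)
    have := O.h1.ext_aniso (φ := O.h1.lin fun i => z i j) (ψ := 0) (fun a ha => by
      show f1 a _ = 0
      rw [O.h1.symm]
      exact congrFun (hcw a ha) j) y
    rw [O.h1.symm]
    exact this
  set x := cw O w z
  have hx : ∀ a, f1 a a ≠ 0 → vecMulVec a x ∈ M := fun a ha => by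
    refine O.h1.aniso_induct (hd3 O) (P := fun a => vecMulVec a x ∈ M) (fun n m hn hm hnm h => ?_) hw ha
      (hin w hw z hz)
    have := hin m hm _ h
    rwa [cw_pure, vmv_smul, Submodule.smul_mem_iff _ hnm] at this
  refine hnp x (Submodule.eq_of_le_of_finrank_eq (fun Y hY => ?_) ?_).symm
  · obtain ⟨c, rfl⟩ := mem_col.1 hY
    rw [← Submodule.Quotient.mk_eq_zero]
    exact O.h1.ext_aniso (φ := M.mkQ ∘ₗ colMap x) (ψ := 0)
      (fun a ha => (Submodule.Quotient.mk_eq_zero M).2 (hx a ha)) c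
  · rw [finrank_col hwz, mem_finrank O hM]

/-- The cases settled by a reflection. -/
theorem refl_case {r : ℕ} (hmin : MinRank O r) {M : Submodule F MV} (hM : Mem G M) (hnp : NP M)
    (hr : 3 ≤ r) (hcase : Fintype.card κ = 2 ∨ (r = Fintype.card ι ∧ Odd (Fintype.card ι) ∧
      Fintype.card κ < 2 * Fintype.card ι)) : False := by
  obtain ⟨g, hg, v', hv', hgM⟩ := id hM
  obtain ⟨w, hw, R, hR, hRX, hne⟩ := exists_refl_move O hM hnp
  have hLm := mem_map O (mem_map O hM hR) (inv_mem hg)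
  have hfR : ∀ z ∈ M, ∀ m ∈ M, f (R z) m = -(2 / f1 w w) * f2 (cw O w z) (cw O w m) := fun z hz m hm => by
    rw [hRX, O.h.sub_left, mem_singular O hM hz hm, O.h.smul_left, f_cw' O]
    ring
  set K := M ⊓ LinearMap.ker (cw O w) with hK
  have hKz : ∀ z ∈ K, R z = z := fun z hz => by
    rw [hRX, LinearMap.mem_ker.1 hz.2, vmv_zero, smul_zero, sub_zero]
  have hK0 : ∀ z ∈ K, ∀ m ∈ M, f (R z) m = 0 := fun z hz m hm => by
    rw [hKz z hz]
    exact mem_singular O hM hz.1 hm
  have hnK : ∀ {z}, z ∈ K → z ≠ 0 →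
      NP ((M.map R.toLinearMap).map (g⁻¹ : MV ≃ₗ[F] MV).toLinearMap) := fun {z} hz hz0 =>
    np_move O hgM hne hz0 hz.1 ((hKz z hz).symm ▸ hz.1)
  have hdimK : Fintype.card ι ≤ finrank F K + finrank F (M.map (cw O w)) := by
    have h1 := LinearMap.finrank_range_add_finrank_ker ((cw O w).domRestrict M)
    rw [mem_finrank O hM] at h1
    have h2 : LinearMap.range ((cw O w).domRestrict M) = M.map (cw O w) := by
      ext x
      simp [Submodule.mem_map]
    have h3 : (LinearMap.ker ((cw O w).domRestrict M)).map M.subtype = K := by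
      ext x
      simp [hK, Submodule.mem_map, and_comm]
    rw [h2, ← Submodule.finrank_map_subtype_eq M (LinearMap.ker ((cw O w).domRestrict M)), h3] at h1
    omega
  have hW := Submodule.finrank_le (M.map (cw O w))
  rw [Module.finrank_fintype_fun_eq_card] at hW
  rcases hcase with ha | ⟨rfl, hodd, hlt⟩
  · obtain ⟨z, hz, hz0⟩ := (Submodule.ne_bot_iff K).1 fun e => by
      rw [e, finrank_bot] at hdimK
      have := rank_le O M hM v'
      rcases O.dims with ⟨-, hb | hb | ⟨hb, -⟩⟩ | hab <;> (have := O.b3; omega)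
    refine hmin _ hLm (hnK hz hz0) v' hv' ?_
    have := rank_move O hM hg hgM hR K inf_le_left hK0
    omega
  · by_cases hKb : K = ⊥
    · rw [hKb, finrank_bot] at hdimK
      obtain ⟨u, hu, hu0, huW⟩ : ∃ u ∈ M.map (cw O w), u ≠ 0 ∧ ∀ x ∈ M.map (cw O w), f2 u x = 0 := by
        by_contra hcu
        push Not at hcu
        have hev := CfsgLib.Aschbacher.even_finrank_of_alternating (f := f2)
          (⟨O.h2.add_left, O.h2.smul_left, fun v x y => O.h2.add_right v x y,
            fun c v x => O.h2.smul_right c v x⟩ : Cfsg.Geo.IsBilinearForm f2) O.h2.self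
          (finrank F (M.map (cw O w))) (M.map (cw O w)) rfl hcu
        have hle : finrank F (M.map (cw O w)) ≤ Fintype.card ι :=
          (Submodule.finrank_map_le _ _).trans_eq (mem_finrank O hM)
        rw [show finrank F (M.map (cw O w)) = Fintype.card ι by omega] at hev
        exact Nat.not_even_iff_odd.2 hodd hev
      obtain ⟨z, hz, rfl⟩ := hu
      have hlt' := rank_move O hM hg hgM hR (F ∙ z)
        ((Submodule.span_singleton_le_iff_mem _ _).2 hz) fun z' hz' m hm => by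
          obtain ⟨t, rfl⟩ := Submodule.mem_span_singleton.1 hz'
          rw [hfR _ (M.smul_mem t hz) m hm, map_smul, O.h2.smul_left,
            huW _ (Submodule.mem_map_of_mem hm), mul_zero, mul_zero]
      rw [finrank_span_singleton fun e => hu0 (by rw [e, map_zero])] at hlt'
      obtain ⟨x, hx⟩ : ∃ x, (M.map R.toLinearMap).map (g⁻¹ : MV ≃ₗ[F] MV).toLinearMap = Col x := by
        by_contra hc
        push Not at hc
        exact hmin _ hLm hc v' hv' (by omega)
      have hperp := pure_move O hM hg hgM hR hx (by omega)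
      have h2 := two_mul_le O.h2 (M.map (cw O w)) fun _ ⟨a, ha, ea⟩ _ ⟨b, hb, eb⟩ => by
        have := hperp a ha b hb
        rw [hfR a ha b hb, ea, eb] at this
        exact (mul_eq_zero.1 this).resolve_left (neg_ne_zero.2 (div_ne_zero O.h1.two hw))
      rw [Module.finrank_fintype_fun_eq_card] at h2
      omega
    · obtain ⟨z, hz, hz0⟩ := (Submodule.ne_bot_iff K).1 hKb
      refine hmin _ hLm (hnK hz hz0) v' hv' ?_
      have := rank_move O hM hg hgM hR K inf_le_left hK0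
      have := Submodule.one_le_finrank_iff.2 hKb
      omega

/-- A member that is not pure moves the space of pure tensors out, save for a numerical exception. -/
theorem not_stab (hex : ¬ Ex O) {r : ℕ} (hd : Fintype.card ι ≠ Fintype.card κ * r) {M : Submodule F MV}
    (hM : Mem G M) (hnp : NP M) {v : κ → F} (hv : v ≠ 0) (hr : rank O M v = r) {A : MV →ₗ[F] MV}
    (hA : Tr f G M A) : ¬ ∀ c, A (vecMulVec c v) ∈ Col v := fun hN => by
  obtain ⟨P, hP, -⟩ := O.h1.exists_perp_sub (M.map (cv O v))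
  have hPdim := O.h1.finrank_perp hP
  rw [finrank_ι O, show finrank F (M.map (cv O v)) = r from hr] at hPdim
  have hA0 : ∀ c, A (vecMulVec c v) = 0 ↔ c ∈ P := fun c => by
    refine ⟨fun h => (hP c).2 ?_, fun h => hA.ker _ fun m hm => ?_⟩
    · rintro _ ⟨m, hm, rfl⟩
      have := hA.perp O h hm
      rw [f_cv' O, neg_eq_zero] at this
      exact O.h1.symm0 this
    · rw [f_cv' O, neg_eq_zero]
      exact O.h1.symm0 ((hP c).1 h _ (Submodule.mem_map_of_mem hm))
  have h1 := stab O hex hnp hM hA hv hN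
  have h2 := LinearMap.finrank_range_add_finrank_ker (A ∘ₗ colMap v)
  rw [show LinearMap.ker (A ∘ₗ colMap v) = P from Submodule.ext fun c => by
    rw [LinearMap.mem_ker]; exact hA0 c, finrank_ι O] at h2
  refine hd ?_
  rwa [show finrank F (LinearMap.range (A ∘ₗ colMap v)) = r by omega] at h1

/-- A perfect member at a pure one, and the kernel of the pairing map. -/
theorem side (hex : ¬ Ex O) {r : ℕ} (hmin : MinRank O r) (hr0 : 0 < r) (hrb : r < Fintype.card ι)
    {M : Submodule F MV} (hM : Mem G M) (hnp : NP M)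
    {v : κ → F} (hv : v ≠ 0) (hr : rank O M v = r) {A : MV →ₗ[F] MV} (hA : Tr f G M A)
    (hN : ¬ ∀ c, A (vecMulVec c v) ∈ Col v) :
    (∀ c, cv O v (A (vecMulVec c v)) = 0 ↔ ∀ e ∈ M.map (cv O v), f1 c e = 0) ∧
      ∃ M', Mem G M' ∧ NP M' ∧ M'.map (cv O v) = M.map (cv O v) ∧
        (∀ X ∈ M', cv O v X = 0 →
          ∃ c, (∀ e ∈ M.map (cv O v), f1 c e = 0) ∧ X = vecMulVec c v) ∧
        (∀ c, (∀ e ∈ M.map (cv O v), f1 c e = 0) → vecMulVec c v ∈ M') ∧
        ∃ y ∈ G, M' = (Col v).map y.toLinearMap ∧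
          ∀ c, (∀ e ∈ M.map (cv O v), f1 c e = 0) → y (vecMulVec c v) = vecMulVec c v := by
  obtain ⟨P, hP, -⟩ := O.h1.exists_perp_sub (M.map (cv O v))
  have hPdim := O.h1.finrank_perp hP
  rw [finrank_ι O, show finrank F (M.map (cv O v)) = r from hr] at hPdim
  have hA0 : ∀ c, A (vecMulVec c v) = 0 ↔ c ∈ P := fun c => by
    refine ⟨fun h => (hP c).2 ?_, fun h => hA.ker _ fun m hm => ?_⟩
    · rintro _ ⟨m, hm, rfl⟩
      have := hA.perp O h hm
      rw [f_cv' O, neg_eq_zero] at this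
      exact O.h1.symm0 this
    · rw [f_cv' O, neg_eq_zero]
      exact O.h1.symm0 ((hP c).1 h _ (Submodule.mem_map_of_mem hm))
  obtain ⟨y, hy, hyX⟩ := hA.elem
  have hyP : ∀ c ∈ P, y (vecMulVec c v) = vecMulVec c v := fun c hc => by
    rw [hyX, (hA0 c).2 hc, add_zero]
  set M' := (Col v).map y.toLinearMap with hM'
  have hM'm : Mem G M' := ⟨y, hy, v, hv, rfl⟩
  obtain ⟨c₀, hc₀P, hc₀⟩ := (Submodule.ne_bot_iff P).1 fun e => by
    rw [e, finrank_bot] at hPdim
    omega
  have hne : M' ≠ Col v := fun e => hN fun c => by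
    have : y (vecMulVec c v) ∈ Col v := e ▸ Submodule.mem_map_of_mem (mem_col.2 ⟨c, rfl⟩)
    rw [hyX] at this
    simpa using (Col v).sub_mem this (mem_col.2 ⟨c, rfl⟩)
  have hnp' : NP M' := np_of_meet O hne (vmv_ne_zero hc₀ hv)
    ⟨vecMulVec c₀ v, mem_col.2 ⟨c₀, rfl⟩, hyP c₀ hc₀P⟩ (mem_col.2 ⟨c₀, rfl⟩)
  let φ : (ι → F) →ₗ[F] (ι → F) := cv O v ∘ₗ A ∘ₗ colMap v
  have hcvy : ∀ c, cv O v (y (vecMulVec c v)) = φ c := fun c => by
    rw [hyX, map_add, cv_pure, O.h2.self, zero_smul, zero_add]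
    rfl
  have hmap : M'.map (cv O v) = LinearMap.range φ := by
    ext x
    constructor
    · rintro ⟨_, ⟨X, hX, rfl⟩, rfl⟩
      obtain ⟨c, rfl⟩ := mem_col.1 hX
      exact ⟨c, (hcvy c).symm⟩
    · rintro ⟨c, rfl⟩
      exact ⟨_, Submodule.mem_map_of_mem (mem_col.2 ⟨c, rfl⟩), hcvy c⟩
  have hle : LinearMap.range φ ≤ M.map (cv O v) := by
    rintro _ ⟨c, rfl⟩
    exact Submodule.mem_map_of_mem (hA.mem _)
  have hrk : r ≤ finrank F (LinearMap.range φ) := by
    rw [← hmap]
    exact Nat.le_of_not_lt (hmin M' hM'm hnp' v hv)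
  have heq : LinearMap.range φ = M.map (cv O v) := Submodule.eq_of_le_of_finrank_eq hle
    (le_antisymm (Submodule.finrank_mono hle) (hr.le.trans hrk))
  have hkerP : LinearMap.ker φ = P := by
    refine (Submodule.eq_of_le_of_finrank_eq (fun c hc => LinearMap.mem_ker.2 ?_) ?_).symm
    · show cv O v (A (vecMulVec c v)) = 0
      rw [(hA0 c).2 hc, map_zero]
    · have := LinearMap.finrank_range_add_finrank_ker φ
      rw [heq, show finrank F (M.map (cv O v)) = r from hr, finrank_ι O] at this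
      omega
  refine ⟨fun c => ?_, M', hM'm, hnp', hmap.trans heq, ?_, fun c hc => ?_, y, hy, rfl,
    fun c hc => hyP c ((hP c).2 hc)⟩
  · rw [← hP c, ← hkerP, LinearMap.mem_ker]
    rfl
  · rintro _ ⟨X, hX, rfl⟩ hXv
    obtain ⟨c, rfl⟩ := mem_col.1 hX
    have hcP : c ∈ P := by
      rw [← hkerP, LinearMap.mem_ker, ← hcvy]
      exact hXv
    exact ⟨c, (hP c).1 hcP, hyP c hcP⟩
  · exact ⟨vecMulVec c v, mem_col.2 ⟨c, rfl⟩, hyP c ((hP c).2 hc)⟩

end

end CfsgLib.MaxSub.TensorSympOrth
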