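/-
The case of a symplectic plane: a member pairing with rank at most two gives a non-scalar endomorphism.
-/
import Cfsg.Agent.Lib.MaxSub.TensorSympOrth.Move

set_option autoImplicit false
set_option maxHeartbeats 800000
set_option linter.unusedSectionVars false

namespace CfsgLib.MaxSub.TensorSympOrth

open Matrix Module
open CfsgLib.MaxSub.TensorSymp (AForm)
open CfsgLib.MaxSub.TensorLin (Col colMap colMap_apply mem_col finrank_col colMap_injective vmv_eq_zero
  vmv_zero NP map_map_inv)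

variable {F : Type*} [Field F] {ι κ : Type} [Fintype ι] [Fintype κ] [DecidableEq ι] [DecidableEq κ]
variable {f1 : (ι → F) → (ι → F) → F} {f2 : (κ → F) → (κ → F) → F}
  {f : Matrix ι κ F → Matrix ι κ F → F} {G : Subgroup (Matrix ι κ F ≃ₗ[F] Matrix ι κ F)}

local notation "MV" => Matrix ι κ F

section

variable (O : SO f1 f2 f G)
include O

/-- An element attached to a vector of the first factor and an endomorphism of the second. -/
def InP (p : ι → F) (S : (κ → F) → (κ → F)) : Prop :=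
  ∃ k ∈ G, ∀ X, k X = X + vecMulVec p (S (cw O p X))

theorem inp_mul {p : ι → F} (hp : f1 p p = 0) {S S' : (κ → F) → (κ → F)} (h : InP O p S)
    (h' : InP O p S') : InP O p fun u => S u + S' u := by
  obtain ⟨g, hg, hgX⟩ := h
  obtain ⟨g', hg', hgX'⟩ := h'
  refine ⟨g * g', mul_mem hg hg', fun X => ?_⟩
  rw [LinearEquiv.mul_apply, hgX, hgX', map_add (cw O p), cw_pure, hp, zero_smul, add_zero,
    vecMulVec_add]
  abel

theorem inp_neg {p : ι → F} (hp : f1 p p = 0) {S : (κ → F) → (κ → F)} (h : InP O p S) :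
    InP O p fun u => -S u := by
  obtain ⟨g, hg, hgX⟩ := h
  refine ⟨g⁻¹, inv_mem hg, fun X => g.injective ?_⟩
  show g (g.symm X) = _
  rw [g.apply_symm_apply, hgX, map_add (cw O p), cw_pure, hp, zero_smul, add_zero, vmv_neg,
    add_assoc, neg_add_cancel, add_zero]

/-- Conjugation by a transvection of the second factor. -/
theorem inp_conj {p : ι → F} {S : (κ → F) → (κ → F)} (h : InP O p S) (v : κ → F) (l : F) :
    InP O p fun u => S (u - (l * f2 u v) • v) + (l * f2 (S (u - (l * f2 u v) • v)) v) • v := by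
  obtain ⟨g, hg, hgX⟩ := h
  obtain ⟨t, ht, htc⟩ := O.right v l
  refine ⟨t * g * t⁻¹, mul_mem (mul_mem ht hg) (inv_mem ht), fun X => ?_⟩
  show t (g (t.symm X)) = _
  have h1 : cw O p (t.symm X) = cw O p X - (l * f2 (cw O p X) v) • v := by
    have hcomm : ∀ Y, cw O p (t Y) = cw O p Y + (l * f2 (cw O p Y) v) • v := fun Y => by
      refine ext_pure (A := cw O p ∘ₗ t.toLinearMap)
        (B := cw O p + ((l • O.h2.lin v).smulRight v) ∘ₗ cw O p) (fun c x => ?_) Y
      show cw O p (t (vecMulVec c x)) =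
        cw O p (vecMulVec c x) + (l * f2 (cw O p (vecMulVec c x)) v) • v
      rw [htc, cw_pure, cw_pure, smul_add, smul_smul, O.h2.smul_left, mul_left_comm]
    have := hcomm (t.symm X)
    rw [t.apply_symm_apply] at this
    rw [this, O.h2.add_left, O.h2.smul_left, O.h2.self, mul_zero, add_zero, add_sub_cancel_right]
  rw [hgX, map_add, t.apply_symm_apply, htc, h1]

/-- Two conjugates of a Siegel element of the first factor. -/
theorem inp_of {R P : Submodule F (ι → F)} (hP : ∀ c, c ∈ P ↔ ∀ e ∈ R, f1 c e = 0)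
    (hdec : ∀ c, ∃ a ∈ R, c - a ∈ P) {p p' q : ι → F} (hpP : p ∈ P) (hpp : f1 p p = 0)
    (hp'P : p' ∈ P) (hp' : f1 p' p = 1) (hq : q ∈ R)
    {g : MV ≃ₗ[F] MV} (hg : g ∈ G) (hgP : ∀ c ∈ P, ∀ x, g (vecMulVec c x) = vecMulVec c x)
    (hgR : ∀ c ∈ R, ∀ x, ∀ w ∈ P, cw O w (g (vecMulVec c x)) = 0) :
    InP O p fun u => cw O q (g (vecMulVec q u)) - cw O q (g.symm (vecMulVec q u)) := by
  have hpR : ∀ c ∈ R, f1 c p = 0 := fun c hc => O.h1.symm0 ((hP p).1 hpP c hc)
  have hqp : f1 q p = 0 := hpR q hq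
  have h2 := O.h1.two
  set h := f1 q q / 2 with hh
  let E : F → (ι → F) →ₗ[F] (ι → F) := fun α =>
    LinearMap.id + α • ((O.h1.lin p).smulRight q - (O.h1.lin q).smulRight p)
      - h • (O.h1.lin p).smulRight p
  have hE : ∀ α c, E α c = c + α • (f1 c p • q - f1 c q • p) - h • f1 c p • p := fun α c => rfl
  have hiso : ∀ α, α * α = 1 → ∀ c d, f1 (E α c) (E α d) = f1 c d := fun α hα c d => by
    simp only [hE, O.h1.add_left, O.h1.add_right, O.h1.sub_left, O.h1.sub_right, O.h1.smul_left,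
      O.h1.smul_right, hpp, hqp, O.h1.symm0 hqp, O.h1.symm d p, O.h1.symm d q]
    rw [hh]
    field_simp
    linear_combination (4 * f1 c p * f1 d p * f1 q q) * hα
  obtain ⟨e, he, hec, -⟩ := lf O (hiso 1 (one_mul 1))
  obtain ⟨e', he', hec', -⟩ := lf O (hiso (-1) (by norm_num))
  have hgi : ∀ c ∈ P, ∀ x, g.symm (vecMulVec c x) = vecMulVec c x := fun c hc x =>
    g.symm_apply_eq.2 (hgP c hc x).symm
  have hgR' : ∀ c ∈ R, ∀ x, ∀ w ∈ P, cw O w (g.symm (vecMulVec c x)) = 0 := fun c hc x w hw =>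
    O.h2.nondeg _ fun y => by
      rw [← f_cw O, isom_symm O hg, hgP w hw, O.f_pure, O.h1.symm0 ((hP w).1 hw c hc), zero_mul]
  let Jp : (κ → F) →ₗ[F] MV :=
    { toFun := fun u => vecMulVec p u
      map_add' := fun a b => vecMulVec_add p a b
      map_smul' := fun t a => vmv_smul p t a }
  let Jq : (κ → F) →ₗ[F] MV :=
    { toFun := fun u => vecMulVec q u
      map_add' := fun a b => vecMulVec_add q a b
      map_smul' := fun t a => vmv_smul q t a }
  have heX : ∀ α (e : MV ≃ₗ[F] MV), (∀ c x, e (vecMulVec c x) = vecMulVec (E α c) x) → ∀ X,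
      e X = X + α • (vecMulVec q (cw O p X) - vecMulVec p (cw O q X)) - h • vecMulVec p (cw O p X) :=
    fun α e he X => by
      refine ext_pure (A := e.toLinearMap)
        (B := LinearMap.id + α • (Jq ∘ₗ cw O p - Jp ∘ₗ cw O q) - h • (Jp ∘ₗ cw O p)) (fun c x => ?_) X
      show e (vecMulVec c x) = vecMulVec c x + α • (vecMulVec q (cw O p _) - vecMulVec p (cw O q _))
        - h • vecMulVec p (cw O p _)
      rw [he, hE, cw_pure, cw_pure]
      simp only [sub_vmv, add_vecMulVec, smul_vecMulVec, vmv_smul]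
  have he1 : ∀ Y, cw O p Y = 0 → e Y = Y - vecMulVec p (cw O q Y) := fun Y hY => by
    rw [heX 1 e hec, hY, vmv_zero, vmv_zero]
    module
  have he2 : ∀ Y, cw O p Y = 0 → e' Y = Y + vecMulVec p (cw O q Y) := fun Y hY => by
    rw [heX (-1) e' hec', hY, vmv_zero, vmv_zero]
    module
  have hep : ∀ u, e (vecMulVec p u) = vecMulVec p u ∧ e' (vecMulVec p u) = vecMulVec p u := fun u => by
    refine ⟨?_, ?_⟩
    · rw [he1 _ (by rw [cw_pure, hpp, zero_smul]), cw_pure, O.h1.symm0 hqp, zero_smul, vmv_zero,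
        sub_zero]
    · rw [he2 _ (by rw [cw_pure, hpp, zero_smul]), cw_pure, O.h1.symm0 hqp, zero_smul, vmv_zero,
        add_zero]
  have hgq : ∀ c ∈ R, ∀ x, cw O p (g (vecMulVec c x)) = 0 := fun c hc x => hgR c hc x p hpP
  have hgq' : ∀ c ∈ R, ∀ x, cw O p (g.symm (vecMulVec c x)) = 0 := fun c hc x => hgR' c hc x p hpP
  -- the two factors on the part in the subspace
  have hK2 : ∀ c ∈ R, ∀ x, g.symm (e' (g (e (vecMulVec c x)))) = vecMulVec c x +
      vecMulVec p (cw O q (g (vecMulVec c x)) - cw O q (vecMulVec c x)) := fun c hc x => by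
    rw [he1 _ (by rw [cw_pure, hpR c hc, zero_smul]), map_sub g, hgP p hpP, map_sub e', (hep _).2,
      he2 _ (hgq c hc x), map_sub g.symm, map_add g.symm, g.symm_apply_apply, hgi p hpP, hgi p hpP,
      vmv_sub]
    abel
  have hK1 : ∀ c ∈ R, ∀ x, g.symm (e (g (e' (vecMulVec c x)))) = vecMulVec c x +
      vecMulVec p (cw O q (vecMulVec c x) - cw O q (g (vecMulVec c x))) := fun c hc x => by
    rw [he2 _ (by rw [cw_pure, hpR c hc, zero_smul]), map_add g, hgP p hpP, map_add e, (hep _).1,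
      he1 _ (hgq c hc x), map_add g.symm, map_sub g.symm, g.symm_apply_apply, hgi p hpP, hgi p hpP,
      vmv_sub]
    abel
  let K1 : MV ≃ₗ[F] MV := g⁻¹ * e * g * e'
  let K2 : MV ≃ₗ[F] MV := g⁻¹ * e' * g * e
  have hK1' : ∀ X, K1 X = g.symm (e (g (e' X))) := fun X => rfl
  have hK2' : ∀ X, K2 X = g.symm (e' (g (e X))) := fun X => rfl
  have hKp : ∀ u, K1 (vecMulVec p u) = vecMulVec p u := fun u => by
    rw [hK1', (hep u).2, hgP p hpP, (hep u).1, hgi p hpP]
  refine ⟨K1 * K2, mul_mem (mul_mem (mul_mem (mul_mem (inv_mem hg) he) hg) he')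
    (mul_mem (mul_mem (mul_mem (inv_mem hg) he') hg) he), ?_⟩
  let T : (κ → F) →ₗ[F] (κ → F) := cw O q ∘ₗ (g.toLinearMap - g.symm.toLinearMap) ∘ₗ Jq
  have hT : ∀ u, T u = cw O q (g (vecMulVec q u)) - cw O q (g.symm (vecMulVec q u)) := fun u => by
    show cw O q (g (vecMulVec q u) - g.symm (vecMulVec q u)) = _
    rw [map_sub]
  suffices h : ∀ c x, K1 (K2 (vecMulVec c x)) = vecMulVec c x + vecMulVec p (T (f1 c p • x)) by
    intro X
    refine (ext_pure (A := K1.toLinearMap ∘ₗ K2.toLinearMap) (B := LinearMap.id + Jp ∘ₗ T ∘ₗ cw O p)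
      (fun c x => ?_) X).trans ?_
    · show K1 (K2 _) = _ + vecMulVec p (T (cw O p _))
      rw [h, cw_pure]
      rfl
    · show X + vecMulVec p (T (cw O p X)) = _
      rw [hT]
  have hR0 : ∀ c ∈ R, ∀ x, K1 (K2 (vecMulVec c x)) = vecMulVec c x := fun c hc x => by
    rw [hK2', hK2 c hc, map_add K1, hKp, hK1', hK1 c hc, vmv_sub, vmv_sub]
    abel
  have hP0 : ∀ c ∈ P, f1 c p = 0 → ∀ x, K1 (K2 (vecMulVec c x)) = vecMulVec c x := fun c hc hcp x => by
    have e1 : e (vecMulVec c x) = vecMulVec c x ∧ e' (vecMulVec c x) = vecMulVec c x := by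
      refine ⟨?_, ?_⟩
      · rw [he1 _ (by rw [cw_pure, hcp, zero_smul]), cw_pure, (hP c).1 hc q hq, zero_smul, vmv_zero,
          sub_zero]
      · rw [he2 _ (by rw [cw_pure, hcp, zero_smul]), cw_pure, (hP c).1 hc q hq, zero_smul, vmv_zero,
          add_zero]
    rw [hK2', e1.1, hgP c hc, e1.2, hgi c hc, hK1', e1.2, hgP c hc, e1.1, hgi c hc]
  have hp'q : f1 p' q = 0 := (hP p').1 hp'P q hq
  have hep' : ∀ x, e (vecMulVec p' x) = vecMulVec p' x + vecMulVec q x - h • vecMulVec p x ∧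
      e' (vecMulVec p' x) = vecMulVec p' x - vecMulVec q x - h • vecMulVec p x := fun x => by
    refine ⟨?_, ?_⟩
    · rw [heX 1 e hec, cw_pure, cw_pure, hp', hp'q]
      simp only [one_smul, zero_smul, vmv_zero]
      module
    · rw [heX (-1) e' hec', cw_pure, cw_pure, hp', hp'q]
      simp only [one_smul, zero_smul, vmv_zero]
      module
  have hp'0 : ∀ x, K1 (K2 (vecMulVec p' x)) = vecMulVec p' x + vecMulVec p (T x) := fun x => by
    set a := cw O q (g (vecMulVec q x))
    set b := cw O q (g.symm (vecMulVec q x))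
    have hb : g.symm (e (g (e' (g.symm (vecMulVec q x))))) =
        g.symm (vecMulVec q x) + vecMulVec p (b - f1 q q • x) := by
      rw [he2 _ (hgq' q hq x), map_add g, g.apply_symm_apply, hgP p hpP, map_add e, (hep _).1,
        he1 _ (by rw [cw_pure, hqp, zero_smul]), map_add g.symm, map_sub g.symm, hgi p hpP,
        hgi p hpP, cw_pure, vmv_sub]
      abel
    have h2' : K2 (vecMulVec p' x) = vecMulVec p' x - g.symm (vecMulVec q x) + vecMulVec q x
        + vecMulVec p a - (2 * h) • vecMulVec p x := by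
      rw [hK2', (hep' x).1]
      simp only [map_add, map_sub, map_smul, hgP p' hp'P, hgP p hpP]
      rw [(hep' x).2, he2 _ (hgq q hq x), (hep x).2]
      simp only [map_add, map_sub, map_smul, hgi p' hp'P, hgi p hpP, g.symm_apply_apply]
      module
    have h1' : K1 (vecMulVec p' x) = vecMulVec p' x + g.symm (vecMulVec q x) - vecMulVec q x
        + vecMulVec p a - (2 * h) • vecMulVec p x := by
      rw [hK1', (hep' x).2]
      simp only [map_add, map_sub, map_smul, hgP p' hp'P, hgP p hpP]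
      rw [(hep' x).1, he1 _ (hgq q hq x), (hep x).1]
      simp only [map_add, map_sub, map_smul, hgi p' hp'P, hgi p hpP, g.symm_apply_apply]
      module
    rw [h2', map_sub K1, map_add K1, map_add K1, map_sub K1, map_smul K1, hKp, hKp, h1']
    rw [hK1' (g.symm (vecMulVec q x)), hb, hK1' (vecMulVec q x), hK1 q hq, cw_pure, hT, vmv_sub, vmv_sub,
      vmv_sub, vmv_smul, show 2 * h = f1 q q by rw [hh]; field_simp]
    module
  intro c x
  obtain ⟨a, ha, hb⟩ := hdec c
  have hap : f1 a p = 0 := hpR a ha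
  have hcp : f1 (c - a) p = f1 c p := by rw [O.h1.sub_left, hap, sub_zero]
  have e : c = a + ((c - a) - f1 c p • p') + f1 c p • p' := by abel
  conv_lhs => rw [e]
  rw [add_vecMulVec, add_vecMulVec, map_add K2, map_add K2, map_add K1, map_add K1, hR0 a ha,
    hP0 _ (P.sub_mem hb (P.smul_mem _ hp'P))
      (by rw [O.h1.sub_left, hcp, O.h1.smul_left, hp', mul_one, sub_self]),
    smul_vecMulVec, map_smul K2, map_smul K1, hp'0, map_smul T, vmv_smul, smul_add]
  conv_rhs => rw [e]
  rw [add_vecMulVec, add_vecMulVec, smul_vecMulVec]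
  abel

/-- The case of a symplectic plane. -/
theorem ex_of_two [Finite F] (hex : ¬ Ex O) (hκ : Fintype.card κ = 2) {r : ℕ} (hb : r + 3 ≤ Fintype.card ι)
    (hmin : MinRank O r) (hr0 : 0 < r) (hr2 : r ≤ 2) {M : Submodule F MV} (hM : Mem G M)
    (hnp : NP M) {v : κ → F} (hv : v ≠ 0) (hr : rank O M v = r)
    (hRnd : ∀ x ∈ M.map (cv O v), (∀ y ∈ M.map (cv O v), f1 x y = 0) → x = 0)
    (hperf : ∀ X ∈ M, cv O v X = 0 → ∃ c, (∀ e ∈ M.map (cv O v), f1 c e = 0) ∧ X = vecMulVec c v)
    (hin : ∀ c, (∀ e ∈ M.map (cv O v), f1 c e = 0) → vecMulVec c v ∈ M) : False := by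
  set RR := M.map (cv O v) with hRR
  obtain ⟨P, hP, -⟩ := O.h1.exists_perp_sub RR
  have hPdim := O.h1.finrank_perp hP
  rw [finrank_ι O, show finrank F RR = r from hr] at hPdim
  obtain ⟨π, hπR, hπP, hπ0, hπid⟩ := O.h1.exists_proj hRnd
  have hQ : ∀ c, c - π c ∈ P := fun c => (hP _).2 (hπP c)
  obtain ⟨A, hA⟩ := exists_tr_one O hM
  obtain ⟨y, hy, hyX⟩ := hA.elem
  obtain ⟨hker, -⟩ := side O hex hmin hr0 (by omega) hM hnp hv hr hA
    (not_stab O hex (by rw [hκ]; omega) hM hnp hv hr hA)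
  have hAP : ∀ c ∈ P, A (vecMulVec c v) = 0 := fun c hc => hA.ker _ fun m hm => by
    rw [f_cv' O, neg_eq_zero]
    exact O.h1.symm0 ((hP c).1 hc _ (Submodule.mem_map_of_mem hm))
  let φ : (ι → F) →ₗ[F] (ι → F) := cv O v ∘ₗ A ∘ₗ colMap v
  have hφR : ∀ c, φ c ∈ RR := fun c => Submodule.mem_map_of_mem (hA.mem _)
  have hφs : ∀ c d, f1 (φ c) d = f1 (φ d) c := fun c d => by
    show f1 (cv O v (A (vecMulVec c v))) d = f1 (cv O v (A (vecMulVec d v))) c
    rw [← f_cv O, hA.skew, ← O.h.swap, f_cv O]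
  -- coordinates
  obtain ⟨y₀, hy₀⟩ := O.h2.exists_left hv
  have hspan : ∀ x, x = f2 x v • y₀ - f2 x y₀ • v := fun x => by
    have hli : LinearIndependent F ![v, y₀] := LinearIndependent.pair_iff.2 fun s t e => by
      have h1 := congrArg (fun u => f2 u v) e
      simp only [O.h2.add_left, O.h2.smul_left, O.h2.self, hy₀, O.h2.zero_left] at h1
      have ht : t = 0 := by linear_combination h1
      rw [ht, zero_smul, add_zero] at e
      exact ⟨(smul_eq_zero.1 e).resolve_right hv, ht⟩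
    have htop := hli.span_eq_top_of_card_eq_finrank' (by
      rw [Module.finrank_fintype_fun_eq_card, hκ]; rfl)
    refine O.h2.ext_left fun z => ?_
    have hz : z ∈ Submodule.span F (Set.range ![v, y₀]) := htop ▸ Submodule.mem_top
    obtain ⟨a, b, rfl⟩ : ∃ a b : F, a • v + b • y₀ = z := by
      rw [Matrix.range_cons, Matrix.range_cons, Matrix.range_empty, Set.union_empty] at hz
      exact Submodule.mem_span_pair.1 (by simpa [Set.pair_comm] using hz)
    simp only [O.h2.add_right, O.h2.smul_right, O.h2.sub_left, O.h2.smul_left, O.h2.self, hy₀,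
      O.h2.swap y₀ v]
    ring
  have hdecX : ∀ X, X = vecMulVec (cv O v X) y₀ - vecMulVec (cv O y₀ X) v := fun X =>
    ext_pure (A := LinearMap.id) (B := colMap y₀ ∘ₗ cv O v - colMap v ∘ₗ cv O y₀) (fun c x => by
      show vecMulVec c x = vecMulVec (cv O v _) y₀ - vecMulVec (cv O y₀ _) v
      rw [cv_pure, cv_pure, smul_vecMulVec, smul_vecMulVec, ← vmv_smul, ← vmv_smul, ← vmv_sub,
        ← hspan]) X
  have hfc : ∀ X Y, f X Y = f1 (cv O y₀ X) (cv O v Y) - f1 (cv O v X) (cv O y₀ Y) := fun X Y => by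
    conv_lhs => rw [hdecX Y]
    rw [O.h.sub_right, f_cv O, f_cv O]
  obtain ⟨g, hg, v', hv', hgM⟩ := id hM
  obtain ⟨c₀, hc₀P, hc₀⟩ := (Submodule.ne_bot_iff P).1 fun e => by
    rw [e, finrank_bot] at hPdim
    omega
  -- invariance
  have hinv : ∀ (h0 : (ι → F) →ₗ[F] (ι → F)) (ε : F), (∀ c d, f1 (h0 c) (h0 d) = f1 c d) → ε * ε = 1 →
      (∀ e ∈ RR, h0 e = ε • e) → ∀ h ∈ G, (∀ c x, h (vecMulVec c x) = vecMulVec (h0 c) x) →
      (∀ v X, cv O v (h X) = h0 (cv O v X)) → M.map h.toLinearMap = M := by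
    intro h0 ε hiso hε hR0 h hh hhc hhcv
    by_contra hne
    have hzero : ∀ z ∈ M, ∀ m ∈ M, f (h z) m = 0 := fun z hz m hm => by
      have h0' := mem_singular O hM hz hm
      rw [hfc] at h0'
      rw [hfc, hhcv, hhcv, hR0 _ (Submodule.mem_map_of_mem hz), O.h1.smul_left]
      have h1 : f1 (h0 (cv O y₀ z)) (cv O v m) = ε * f1 (cv O y₀ z) (cv O v m) := by
        have h2 := hiso (cv O y₀ z) (cv O v m)
        rw [hR0 _ (Submodule.mem_map_of_mem hm), O.h1.smul_right] at h2
        rw [← h2, ← mul_assoc, hε, one_mul]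
      rw [h1, ← mul_sub, h0', mul_zero]
    have hc : h0 c₀ ∈ P := (hP _).2 fun e he => by
      have h2 := hiso c₀ e
      rw [hR0 e he, O.h1.smul_right, (hP c₀).1 hc₀P e he] at h2
      exact (mul_eq_zero.1 h2).resolve_left fun e' => by simp [e'] at hε
    refine hmin _ (mem_map O (mem_map O hM hh) (inv_mem hg))
      (np_move O hgM hne (vmv_ne_zero hc₀ hv) (hin _ ((hP _).1 hc₀P))
        (by rw [hhc]; exact hin _ ((hP _).1 hc))) v' hv' ?_
    have := rank_move O hM hg hgM hh M le_rfl hzero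
    rw [mem_finrank O hM] at this
    omega
  -- the involution
  let h0 : (ι → F) →ₗ[F] (ι → F) := LinearMap.id - (2 : F) • π
  have hh0 : ∀ c, h0 c = c - (2 : F) • π c := fun c => rfl
  have hh0iso : ∀ c d, f1 (h0 c) (h0 d) = f1 c d := fun c d => by
    have h1 : f1 c (π d) = f1 (π c) (π d) := by
      have := hπP c _ (hπR d)
      rw [O.h1.sub_left] at this
      linear_combination this
    have h2 : f1 (π c) d = f1 (π c) (π d) := by
      have := hπP d _ (hπR c)
      rw [O.h1.sub_left] at this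
      rw [O.h1.symm d (π c), O.h1.symm (π d) (π c)]
      linear_combination this
    rw [hh0, hh0]
    simp only [O.h1.sub_left, O.h1.sub_right, O.h1.smul_left, O.h1.smul_right, h1, h2]
    ring
  have hh0R : ∀ e ∈ RR, h0 e = -e := fun e he => by
    rw [hh0, hπid e he, two_smul]
    abel
  have hh0P : ∀ c ∈ P, h0 c = c := fun c hc => by rw [hh0, hπ0 c ((hP c).1 hc), smul_zero, sub_zero]
  have hh0fix : ∀ a, h0 a = a → a ∈ P := fun a ha => by
    rw [hh0, sub_eq_self, smul_eq_zero] at ha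
    have := hQ a
    rwa [ha.resolve_left O.h1.two, sub_zero] at this
  have hh0neg : ∀ a, h0 a = -a → a ∈ RR := fun a ha => by
    have : (2 : F) • (a - π a) = 0 := by
      rw [hh0] at ha
      rw [← sub_eq_zero.2 ha]
      module
    rw [sub_eq_zero.1 ((smul_eq_zero.1 this).resolve_left O.h1.two)]
    exact hπR a
  obtain ⟨h, hh, hhc, hhcv⟩ := lf O hh0iso
  have hh2 : ∀ X, h (h X) = X := ext_pure (A := h.toLinearMap ∘ₗ h.toLinearMap) (B := LinearMap.id)
    fun c x => by
      show h (h _) = _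
      rw [hhc, hhc]
      congr 1
      conv_lhs => rw [hh0 c]
      rw [map_sub, map_smul, hh0R _ (hπR c), hh0]
      module
  have hhM : M.map h.toLinearMap = M := hinv h0 (-1) hh0iso (by ring)
    (fun e he => by rw [hh0R e he, neg_one_smul]) h hh hhc hhcv
  have hhi : ∀ X, h.symm X = h X := fun X => h.symm_apply_eq.2 (hh2 X).symm
  have hAM : ∀ m ∈ M, A m = 0 := fun m hm => hA.ker m fun m' hm' => mem_singular O hM hm hm'
  have hhmem : ∀ m ∈ M, h m ∈ M := fun m hm => hhM ▸ Submodule.mem_map_of_mem hm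
  let B : MV →ₗ[F] MV := A - h.toLinearMap ∘ₗ A ∘ₗ h.toLinearMap
  have hB : ∀ X, B X = A X - h (A (h X)) := fun X => rfl
  have hBM : ∀ X, B X ∈ M := fun X => by
    rw [hB]
    exact M.sub_mem (hA.mem _) (hhmem _ (hA.mem _))
  have hBk : ∀ m ∈ M, B m = 0 := fun m hm => by
    rw [hB, hAM m hm, hAM _ (hhmem m hm), map_zero, sub_zero]
  have hBP : ∀ c ∈ P, B (vecMulVec c v) = 0 := fun c hc => hBk _ (hin c ((hP c).1 hc))
  have hBv : ∀ c, cv O v (B (vecMulVec c v)) = 0 := fun c => by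
    rw [hB, hhc, map_sub, hhcv]
    show φ c - h0 (φ (h0 c)) = 0
    have : φ (h0 c) = -φ c := by
      have e : φ (c - π c) = 0 := (hker _).2 (hπP c)
      rw [map_sub, sub_eq_zero] at e
      rw [hh0, map_sub, map_smul, ← e, two_smul]
      abel
    rw [this, map_neg, hh0R _ (hφR c), neg_neg, sub_self]
  obtain ⟨z, hz⟩ := O.h2.exists_right hv
  let τ : (ι → F) →ₗ[F] (ι → F) := cv O z ∘ₗ B ∘ₗ colMap v
  have hτ : ∀ c, B (vecMulVec c v) = vecMulVec (τ c) v ∧ τ c ∈ P := fun c => by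
    obtain ⟨d, hd, e⟩ := hperf _ (hBM _) (hBv c)
    have hτd : τ c = d := by
      show cv O z (B (vecMulVec c v)) = d
      rw [e, cv_pure, hz, one_smul]
    exact ⟨by rw [hτd, e], by rw [hτd]; exact (hP d).2 hd⟩
  have hττ : ∀ c, τ (τ c) = 0 := fun c => by
    show cv O z (B (vecMulVec (τ c) v)) = 0
    rw [hBP _ (hτ c).2, map_zero]
  have hτD : ∀ d, (y * (h * y * h)⁻¹) (vecMulVec d v) = vecMulVec (d + τ d) v := fun d => by
    show y (h.symm (y.symm (h.symm (vecMulVec d v)))) = _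
    rw [hhi, hhi, hA.inv hyX, map_sub h, hh2, hyX, map_sub A, hAM _ (hhmem _ (hA.mem _)),
      sub_zero, add_vecMulVec, ← (hτ d).1, hB]
    abel
  obtain ⟨-, hτs⟩ := unip O hex (mul_mem hy (inv_mem (mul_mem (mul_mem hh hy) hh))) hv hττ hτD
  have hτ0 : ∀ c, τ c = 0 := fun c => O.h1.nondeg _ fun d => by
    have h1 : τ (d - π d) = 0 := by
      show cv O z (B (vecMulVec (d - π d) v)) = 0
      rw [hBP _ (hQ d), map_zero]
    have h2 := hτs c (d - π d)
    rw [h1, O.h1.zero_right, add_zero, O.h1.sub_right,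
      (hP _).1 (hτ c).2 _ (hπR d), sub_zero] at h2
    exact h2
  have hBcol : ∀ c, B (vecMulVec c v) = 0 := fun c => by rw [(hτ c).1, hτ0, zero_vecMulVec]
  have hBskew : ∀ X Y, f (B X) Y = -f X (B Y) := fun X Y => by
    have e : ∀ U V, f (h U) V = f U (h V) := fun U V => by
      conv_lhs => rw [← hh2 V, O.isom h hh]
    rw [hB, hB, O.h.sub_left, O.h.sub_right, hA.skew, e, hA.skew, e]
    ring
  have hBh : ∀ X, h (B (h X)) = -B X := fun X => by
    rw [hB, hB, hh2, map_sub, hh2]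
    abel
  have hB0 : ∀ X, B X = 0 := ext_pure (B := (0 : MV →ₗ[F] MV)) fun c x => by
    have hy0 : ∀ c, B (vecMulVec c y₀) = 0 := fun c => by
      have hRy : ∀ e ∈ RR, B (vecMulVec e y₀) = 0 := fun e he => by
        obtain ⟨m, hm, rfl⟩ := he
        have h1 := hBk m hm
        conv_lhs at h1 => rw [hdecX m]
        rwa [map_sub, hBcol, sub_zero] at h1
      have hPy : B (vecMulVec (c - π c) y₀) = 0 := by
        set n := c - π c
        have h1 : cv O v (B (vecMulVec n y₀)) = 0 := cv_eq_zero O fun d => by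
          rw [hBskew, hBcol, O.h.zero_right, neg_zero]
        obtain ⟨d, hd, e⟩ := hperf _ (hBM _) h1
        have h2 := hBh (vecMulVec n y₀)
        rw [hhc, hh0P n (hQ c), e, hhc, hh0P d ((hP d).2 hd), ← sub_eq_zero, sub_neg_eq_add,
          ← two_smul F, smul_eq_zero] at h2
        rw [e, h2.resolve_left O.h1.two]
      rw [sub_vmv, map_sub, hRy _ (hπR c), sub_zero] at hPy
      exact hPy
    show B (vecMulVec c x) = 0
    rw [hspan x, vmv_sub, vmv_smul, vmv_smul, map_sub, map_smul, map_smul, hy0, hBcol, smul_zero,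
      smul_zero, sub_zero]
  have hAh : ∀ X, A (h X) = h (A X) := fun X => by
    have := hB0 (h X)
    rw [hB, hh2, sub_eq_zero] at this
    exact this
  -- the part perpendicular to the image
  let T : (ι → F) →ₗ[F] (ι → F) := cv O z ∘ₗ A ∘ₗ colMap y₀
  have hT : ∀ n ∈ P, A (vecMulVec n y₀) = vecMulVec (T n) v ∧ T n ∈ P := fun n hn => by
    have h1 : h (A (vecMulVec n y₀)) = A (vecMulVec n y₀) := by rw [← hAh, hhc, hh0P n hn]
    have h2 : cv O v (A (vecMulVec n y₀)) = 0 := by
      have h3 : cv O v (A (vecMulVec n y₀)) ∈ P :=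
        hh0fix _ (by rw [← hhcv, h1])
      exact hRnd _ (Submodule.mem_map_of_mem (hA.mem _)) fun e he => (hP _).1 h3 e he
    obtain ⟨d, hd, e⟩ := hperf _ (hA.mem _) h2
    have hTd : T n = d := by
      show cv O z (A (vecMulVec n y₀)) = d
      rw [e, cv_pure, hz, one_smul]
    exact ⟨by rw [hTd, e], by rw [hTd]; exact (hP d).2 hd⟩
  have hARc : ∀ e ∈ RR, ∀ x u, cv O u (A (vecMulVec e x)) ∈ RR := fun e he x u => hh0neg _ (by
    rw [← hhcv, ← hAh, hhc, hh0R e he, neg_vmv, map_neg, map_neg])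
  -- scalar on the perpendicular
  have hPnd : ∀ x ∈ P, (∀ y ∈ P, f1 x y = 0) → x = 0 := fun x hx hxP => O.h1.nondeg x fun d => by
    rw [← sub_add_cancel d (π d), O.h1.add_right, hxP _ (hQ d), (hP x).1 hx _ (hπR d), add_zero]
  have HP := O.h1.restrict hPnd
  have hP3 : 3 ≤ finrank F P := by omega
  obtain ⟨lam, hlam⟩ := HP.eigen_scalar hP3 ((T.domRestrict P).codRestrict P fun n => (hT n n.2).2)
    fun w hw n => by
      have hw' : f1 (w : ι → F) w ≠ 0 := hw
      have hrP : ∀ c ∈ P, O.h1.refl (w : ι → F) c ∈ P := fun c hc =>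
        P.sub_mem hc (P.smul_mem _ w.2)
      have hrR : ∀ e ∈ RR, O.h1.refl (w : ι → F) e = e := fun e he =>
        O.h1.refl_perp (O.h1.symm0 ((hP _).1 w.2 e he))
      obtain ⟨R, hR, hRc, -, hRR2⟩ := rf O hw'
      have hRcv : ∀ u X, cv O u (R X) = O.h1.refl (w : ι → F) (cv O u X) := fun u =>
        ext_pure (A := cv O u ∘ₗ R.toLinearMap) (B := O.h1.refl (w : ι → F) ∘ₗ cv O u) fun c x => by
          show cv O u (R _) = O.h1.refl (w : ι → F) (cv O u _)
          rw [hRc, cv_pure, cv_pure, map_smul]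
      let T' : (ι → F) →ₗ[F] (ι → F) := (O.h1.refl (w : ι → F) ∘ₗ T ∘ₗ O.h1.refl (w : ι → F) - T) ∘ₗ
        (LinearMap.id - π)
      have hMR : M.map R.toLinearMap = M := hinv _ 1 (O.h1.refl_isom hw') (one_mul 1)
        (fun e he => by rw [one_smul]; exact hrR e he) R hR hRc
        (fun u X => hRcv u X)
      have hin' : InG O v T' := by
        refine ⟨R * y * R * y⁻¹, mul_mem (mul_mem (mul_mem hR hy) hR) (inv_mem hy), fun X => ?_⟩
        show R (y (R (y.symm X))) = _
        rw [hA.inv hyX, map_sub R, hyX, map_sub A,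
          hAM _ (show R (A X) ∈ M from hMR ▸ Submodule.mem_map_of_mem (hA.mem X)),
          sub_zero, map_add R, map_sub R, hRR2, hRR2, sub_add_eq_add_sub, add_sub_assoc]
        congr 1
        refine ext_pure (A := R.toLinearMap ∘ₗ A ∘ₗ R.toLinearMap - A)
          (B := colMap v ∘ₗ T' ∘ₗ cv O v) (fun c x => ?_) X
        show R (A (R (vecMulVec c x))) - A (vecMulVec c x) =
          vecMulVec (T' (cv O v (vecMulVec c x))) v
        have hRpart : R (A (R (vecMulVec (π c) x))) - A (vecMulVec (π c) x) = 0 := by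
          rw [hRc, hrR _ (hπR c), sub_eq_zero, hdecX (R _), hRcv, hRcv,
            hrR _ (hARc _ (hπR c) x v), hrR _ (hARc _ (hπR c) x y₀), ← hdecX]
        have hPpart : R (A (R (vecMulVec (c - π c) x))) - A (vecMulVec (c - π c) x) =
            vecMulVec (T' (f2 x v • c)) v := by
          rw [map_smul, show T' c = O.h1.refl (w : ι → F) (T (O.h1.refl (w : ι → F) (c - π c))) -
            T (c - π c) from rfl]
          have hn := hQ c
          generalize c - π c = n at hn ⊢
          conv_lhs => rw [hspan x, vmv_sub, vmv_smul, vmv_smul]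
          simp only [map_sub, map_smul, hRc]
          rw [hAP _ (hrP _ hn), hAP _ hn, (hT _ (hrP _ hn)).1, (hT _ hn).1, hRc,
            map_zero, smul_zero, sub_zero, sub_zero, ← smul_sub, ← sub_vmv, smul_vecMulVec]
        rw [cv_pure, ← hPpart, show R (A (R (vecMulVec c x))) - A (vecMulVec c x) =
          R (A (R (vecMulVec (c - π c) x))) - A (vecMulVec (c - π c) x) +
            (R (A (R (vecMulVec (π c) x))) - A (vecMulVec (π c) x)) by
          rw [sub_vmv]; simp only [map_sub]; abel, hRpart, add_zero]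
      obtain ⟨s, hs⟩ := scalar_of_not_ex O hex hv hin'
      have hs0 : s = 0 := by
        obtain ⟨e, he, he0⟩ := (Submodule.ne_bot_iff RR).1 fun e => by
          have : finrank F RR = r := hr
          rw [e, finrank_bot] at this
          omega
        have := hs e
        simp only [T', LinearMap.comp_apply, LinearMap.sub_apply, LinearMap.id_apply, hπid e he,
          sub_self, map_zero] at this
        exact (smul_eq_zero.1 this.symm).resolve_right he0
      have h3 := hs (n : ι → F)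
      rw [hs0, zero_smul] at h3
      simp only [T', LinearMap.comp_apply, LinearMap.sub_apply, LinearMap.id_apply,
        hπ0 _ ((hP _).1 n.2), sub_zero, sub_eq_zero] at h3
      refine Subtype.ext ?_
      show T (O.h1.refl (w : ι → F) n) = O.h1.refl (w : ι → F) (T n)
      rw [← h3, O.h1.refl_refl hw']
  have hTl : ∀ n ∈ P, T n = lam • n := fun n hn => congrArg Subtype.val (hlam ⟨n, hn⟩)
  -- two corrected elements
  obtain ⟨t₁, ht₁, ht₁X, -⟩ := tv O v (-lam)
  obtain ⟨t₂, ht₂, ht₂X, -⟩ := tv O v lam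
  have hhtv : ∀ (t : MV ≃ₗ[F] MV) (l : F), (∀ X, t X = X + l • vecMulVec (cv O v X) v) →
      ∀ X, t (h X) = h (t X) := fun t l ht X => by
    rw [ht, ht, map_add, map_smul, hhcv, hhc]
  have hyh : ∀ X, y (h X) = h (y X) := fun X => by rw [hyX, hyX, hAh, map_add]
  have hgR : ∀ (k : MV ≃ₗ[F] MV), (∀ X, k (h X) = h (k X)) → ∀ c ∈ RR, ∀ x, ∀ w ∈ P,
      cw O w (k (vecMulVec c x)) = 0 := fun k hk c hc x w hw => O.h2.nondeg _ fun u => by
    rw [cw_cv O]
    refine O.h1.symm0 ((hP w).1 hw _ (hh0neg _ ?_))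
    rw [← hhcv, ← hk, hhc, hh0R c hc, neg_vmv, map_neg, map_neg]
  have hyP : ∀ c ∈ P, ∀ x, A (vecMulVec c x) = lam • vecMulVec (cv O v (vecMulVec c x)) v :=
    fun c hc x => by
      conv_lhs => rw [hspan x, vmv_sub, vmv_smul, vmv_smul]
      rw [map_sub, map_smul, map_smul, hAP c hc, (hT c hc).1, hTl c hc, smul_zero, sub_zero, cv_pure,
        smul_vecMulVec, smul_vecMulVec, smul_comm]
  have hg₁P : ∀ c ∈ P, ∀ x, (y * t₁) (vecMulVec c x) = vecMulVec c x := fun c hc x => by
    show y (t₁ _) = _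
    rw [ht₁X, map_add, map_smul, hyX, hyX, hyP c hc, cv_pure, hAP _ (P.smul_mem _ hc)]
    module
  have hg₂P : ∀ c ∈ P, ∀ x, (y⁻¹ * t₂) (vecMulVec c x) = vecMulVec c x := fun c hc x => by
    show y.symm (t₂ _) = _
    rw [ht₂X, map_add, map_smul, hA.inv hyX, hA.inv hyX, hyP c hc, cv_pure,
      hAP _ (P.smul_mem _ hc)]
    module
  have hg₁h : ∀ X, (y * t₁) (h X) = h ((y * t₁) X) := fun X => by
    show y (t₁ (h X)) = h (y (t₁ X))
    rw [hhtv t₁ _ ht₁X, hyh]
  have hg₂h : ∀ X, (y⁻¹ * t₂) (h X) = h ((y⁻¹ * t₂) X) := fun X => by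
    show y.symm (t₂ (h X)) = h (y.symm (t₂ X))
    rw [hhtv t₂ _ ht₂X, y.symm_apply_eq, hyh, y.apply_symm_apply]
  -- a singular vector, its partner, and a vector pairing with itself
  obtain ⟨p, hp0, hpp⟩ := HP.exists_iso hP3
  obtain ⟨p', hp'⟩ := HP.exists_left hp0
  obtain ⟨q, hq, hqq⟩ : ∃ q ∈ RR, f1 (φ q) q ≠ 0 := by
    by_contra hc
    push Not at hc
    obtain ⟨e, he, he0⟩ := (Submodule.ne_bot_iff RR).1 fun e => by
      have : finrank F RR = r := hr
      rw [e, finrank_bot] at this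
      omega
    refine he0 (hRnd e he ((hker e).1 ?_))
    refine hRnd _ (hφR e) fun e' he' => ?_
    have h3 := hc _ (RR.add_mem he he')
    rw [map_add, O.h1.add_left, O.h1.add_right, O.h1.add_right, hc e he, hc e' he', hφs e' e] at h3
    exact (mul_eq_zero.1 (show (2 : F) * f1 (φ e) e' = 0 by linear_combination h3)).resolve_left
      O.h1.two
  have hdec : ∀ c, ∃ a ∈ RR, c - a ∈ P := fun c => ⟨π c, hπR c, hQ c⟩
  have hk₁ := inp_of O hP hdec p.2 hpp p'.2 hp' hq (mul_mem hy ht₁) hg₁P (hgR _ hg₁h)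
  have hk₂ := inp_of O hP hdec p.2 hpp p'.2 hp' hq (mul_mem (inv_mem hy) ht₂) hg₂P (hgR _ hg₂h)
  set S : (κ → F) → (κ → F) := fun u =>
    (4 : F) • cw O q (A (vecMulVec q u) - lam • vecMulVec (cv O v (vecMulVec q u)) v) with hS
  have hSmem : InP O (p : ι → F) S := by
    obtain ⟨k, hk, hkX⟩ := inp_mul O hpp hk₁ (inp_neg O hpp hk₂)
    refine ⟨k, hk, fun X => ?_⟩
    rw [hkX]
    congr 2
    simp only [hS]
    generalize cw O (p : ι → F) X = u
    set U := vecMulVec q u
    have e1 : (y * t₁) U = U + A U - lam • vecMulVec (cv O v U) v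
        - lam • A (vecMulVec (cv O v U) v) := by
      show y (t₁ U) = _
      rw [ht₁X, map_add, map_smul, hyX, hyX]
      module
    have e2 : (y * t₁).symm U = U - A U + lam • vecMulVec (cv O v U) v
        - lam • vecMulVec (cv O v (A U)) v := by
      have hi : ∀ Y, t₁.symm Y = t₂ Y := fun Y => t₁.symm_apply_eq.2 (by
        rw [ht₁X, ht₂X]
        simp [cv_pure, O.h2.self])
      show t₁.symm (y.symm U) = _
      rw [hi, ht₂X, hA.inv hyX, map_sub, sub_vmv]
      module
    have e3 : (y⁻¹ * t₂) U = U - A U + lam • vecMulVec (cv O v U) v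
        - lam • A (vecMulVec (cv O v U) v) := by
      show y.symm (t₂ U) = _
      rw [ht₂X, map_add, map_smul, hA.inv hyX, hA.inv hyX]
      module
    have e4 : (y⁻¹ * t₂).symm U = U + A U - lam • vecMulVec (cv O v U) v
        - lam • vecMulVec (cv O v (A U)) v := by
      have hi : ∀ Y, t₂.symm Y = t₁ Y := fun Y => t₂.symm_apply_eq.2 (by
        rw [ht₁X, ht₂X]
        simp [cv_pure, O.h2.self])
      show t₂.symm (y U) = _
      rw [hi, ht₁X, hyX, map_add, add_vecMulVec]
      module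
    rw [e1, e2, e3, e4]
    simp only [map_add, map_sub, map_smul]
    module
  obtain ⟨k, hk, hkX⟩ := inp_mul O hpp (inp_mul O hpp (inp_conj O hSmem v 1) (inp_conj O hSmem v (-1)))
    (inp_neg O hpp (inp_mul O hpp hSmem hSmem))
  set κ' := -2 * f2 (S v) v with hκ'
  have hκ0 : κ' ≠ 0 := by
    have e : f2 (S v) v = 4 * f1 (φ q) q := by
      rw [hS]
      show f2 ((4 : F) • _) v = _
      rw [O.h2.smul_left, cw_cv O, cv_pure, O.h2.self, zero_smul, zero_vecMulVec, smul_zero, sub_zero]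
      rfl
    rw [hκ', e, show (4 : F) = 2 * 2 by norm_num]
    exact mul_ne_zero (neg_ne_zero.2 O.h1.two) (mul_ne_zero (mul_ne_zero O.h1.two O.h1.two) hqq)
  obtain ⟨s, hs⟩ := scalar_of_not_ex O hex hv
    (T := (κ' • O.h1.lin (p : ι → F)).smulRight (p : ι → F)) ⟨k, hk, fun X => by
      rw [hkX, LinearMap.smulRight_apply, LinearMap.smul_apply, SForm.lin_apply, smul_eq_mul,
        smul_vecMulVec, ← vmv_smul, ← cw_cv O]
      congr 2
      generalize cw O (p : ι → F) X = u
      have hSadd : ∀ (a b : κ → F) (t : F), S (a - t • b) = S a - t • S b := fun a b t => by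
        simp only [hS, vmv_sub, vmv_smul, map_sub, map_smul, smul_sub, sub_vmv, smul_vecMulVec]
        module
      beta_reduce
      simp only [hSadd, O.h2.sub_left, O.h2.smul_left]
      rw [hκ']
      module⟩
  have hp0' : (p : ι → F) ≠ 0 := fun e => hp0 (Subtype.ext e)
  have h1 := hs p
  rw [LinearMap.smulRight_apply, LinearMap.smul_apply, SForm.lin_apply,
    show f1 (p : ι → F) p = 0 from hpp, smul_zero, zero_smul, eq_comm, smul_eq_zero] at h1
  have h2 := hs p'
  rw [h1.resolve_right hp0', zero_smul, LinearMap.smulRight_apply, LinearMap.smul_apply,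
    SForm.lin_apply, show f1 (p' : ι → F) p = 1 from hp', smul_eq_mul, mul_one, smul_eq_zero] at h2
  exact h2.elim hκ0 hp0'

end

end CfsgLib.MaxSub.TensorSympOrth
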