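/-
The case of a symplectic plane and an orthogonal space of dimension three.
-/
import Cfsg.Agent.Lib.MaxSub.TensorSympOrth.Two

set_option autoImplicit false
set_option maxHeartbeats 800000
set_option linter.unusedSectionVars false

namespace CfsgLib.MaxSub.TensorSympOrth

open Matrix Module
open CfsgLib.MaxSub.TensorSymp (AForm)
open CfsgLib.MaxSub.TensorLin (Col colMap colMap_apply mem_col finrank_col colMap_injective vmv_eq_zero
  vmv_zero NP map_map_inv)

variable {F : Type*} [Field F] {ι κ : Type} [Fintype ι] [Fintype κ] [DecidableEq ι] [DecidableEq κ]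
variable {f1 : (ι → F) → (ι → F) → F} {f2 : (κ → F) → (κ → F) → F}
  {f : Matrix ι κ F → Matrix ι κ F → F} {G : Subgroup (Matrix ι κ F ≃ₗ[F] Matrix ι κ F)}

local notation "MV" => Matrix ι κ F

/-- A shift making trace and determinant of a two by two matrix nonzero. -/
theorem exists_shift [Fintype F] (h2 : (2 : F) ≠ 0) (hF : 5 ≤ Fintype.card F) (a b c d : F) :
    ∃ l : F, a + d - 2 * l ≠ 0 ∧ (a - l) * (d - l) - b * c ≠ 0 := by
  classical
  by_contra hc
  push Not at hc
  have hs : ∀ s : F, s ≠ 0 → s ^ 2 = ((a - d) / 2) ^ 2 + b * c := fun s hs => by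
    have h := hc ((a + d) / 2 + s) (by
      rw [mul_add, mul_div_cancel₀ _ h2, sub_add_eq_sub_sub, sub_self, zero_sub, neg_ne_zero]
      exact mul_ne_zero h2 hs)
    field_simp at h ⊢
    linear_combination h
  obtain ⟨s, hs'⟩ : ∃ s, s ∉ ({0, 1, -1} : Finset F) := by
    by_contra hall
    push Not at hall
    have := Finset.card_le_three (a := (0 : F)) (b := 1) (c := -1)
    have h5 : Fintype.card F ≤ ({0, 1, -1} : Finset F).card := by
      rw [← Finset.card_univ]
      exact Finset.card_le_card fun x _ => hall x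
    omega
  simp only [Finset.mem_insert, Finset.mem_singleton, not_or] at hs'
  have h := (hs s hs'.1).trans (hs 1 one_ne_zero).symm
  rw [one_pow] at h
  exact (mul_ne_zero (sub_ne_zero.2 hs'.2.1) (sub_ne_zero.2 hs'.2.2))
    (by linear_combination h)

section

variable (O : SO f1 f2 f G)
include O

/-- Coordinates in a symplectic plane. -/
theorem two_span (hκ : Fintype.card κ = 2) {y v : κ → F} (hy : f2 y v = 1) (x : κ → F) :
    x = f2 x v • y - f2 x y • v := by
  have hv : v ≠ 0 := fun e => by rw [e, O.h2.zero_right] at hy; exact zero_ne_one hy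
  have hli : LinearIndependent F ![v, y] := LinearIndependent.pair_iff.2 fun s t e => by
    have h1 := congrArg (fun u => f2 u v) e
    simp only [O.h2.add_left, O.h2.smul_left, O.h2.self, hy, O.h2.zero_left] at h1
    have ht : t = 0 := by linear_combination h1
    rw [ht, zero_smul, add_zero] at e
    exact ⟨(smul_eq_zero.1 e).resolve_right hv, ht⟩
  have htop := hli.span_eq_top_of_card_eq_finrank' (by
    rw [Module.finrank_fintype_fun_eq_card, hκ]; rfl)
  refine O.h2.ext_left fun z => ?_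
  have hz : z ∈ Submodule.span F (Set.range ![v, y]) := htop ▸ Submodule.mem_top
  obtain ⟨a, b, rfl⟩ : ∃ a b : F, a • v + b • y = z := by
    rw [Matrix.range_cons, Matrix.range_cons, Matrix.range_empty, Set.union_empty] at hz
    exact Submodule.mem_span_pair.1 (by simpa [Set.pair_comm] using hz)
  simp only [O.h2.add_right, O.h2.smul_right, O.h2.sub_left, O.h2.smul_left, O.h2.self, hy,
    O.h2.swap y v]
  ring

/-- Decomposition of an element by a pair of the second factor. -/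
theorem dec_two (hκ : Fintype.card κ = 2) {y v : κ → F} (hy : f2 y v = 1) (X : MV) :
    X = vecMulVec (cv O v X) y - vecMulVec (cv O y X) v :=
  ext_pure (A := LinearMap.id) (B := colMap y ∘ₗ cv O v - colMap v ∘ₗ cv O y) (fun c x => by
    show vecMulVec c x = vecMulVec (cv O v _) y - vecMulVec (cv O y _) v
    rw [cv_pure, cv_pure, smul_vecMulVec, smul_vecMulVec, ← vmv_smul, ← vmv_smul, ← vmv_sub,
      ← two_span O hκ hy]) X

/-- Lifting a vector of the pairing image. -/
theorem exists_lift (hκ : Fintype.card κ = 2) {M : Submodule F MV} {y v : κ → F} (hy : f2 y v = 1)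
    (hRnd : ∀ x ∈ M.map (cv O v), (∀ y ∈ M.map (cv O v), f1 x y = 0) → x = 0)
    (hin : ∀ c, (∀ e ∈ M.map (cv O v), f1 c e = 0) → vecMulVec c v ∈ M) {c : ι → F}
    (hc : c ∈ M.map (cv O v)) :
    ∃ e ∈ M.map (cv O v), vecMulVec c y + vecMulVec e v ∈ M := by
  obtain ⟨π, hπR, hπP, -, -⟩ := O.h1.exists_proj hRnd
  obtain ⟨X, hX, rfl⟩ := hc
  refine ⟨-π (cv O y X), neg_mem (hπR _), ?_⟩
  have h := M.add_mem hX (hin _ (hπP (cv O y X)))
  convert h using 1
  have e := dec_two O hκ hy X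
  rw [sub_vmv, neg_vmv]
  generalize cv O y X = α at e ⊢
  generalize cv O v X = β at e ⊢
  rw [e]
  abel

/-- Pairing rank two. -/
theorem three_two [Fintype F] (hκ : Fintype.card κ = 2) (hι : Fintype.card ι = 3)
    (hmin : MinRank O 2) {M : Submodule F MV} (hM : Mem G M) {v : κ → F} (hv : v ≠ 0)
    (hr : rank O M v = 2)
    (hRnd : ∀ x ∈ M.map (cv O v), (∀ y ∈ M.map (cv O v), f1 x y = 0) → x = 0)
    (hin : ∀ c, (∀ e ∈ M.map (cv O v), f1 c e = 0) → vecMulVec c v ∈ M) : False := by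
  have hF : 5 ≤ Fintype.card F := by
    rcases O.small with h | h
    · omega
    · rwa [Nat.card_eq_fintype_card] at h
  obtain ⟨g, hg, v', hv', hgM⟩ := id hM
  obtain ⟨y₀, hy₀⟩ := O.h2.exists_left hv
  obtain ⟨P, hP, -⟩ := O.h1.exists_perp_sub (M.map (cv O v))
  have hPdim := O.h1.finrank_perp hP
  rw [finrank_ι O, show finrank F (M.map (cv O v)) = 2 from hr] at hPdim
  obtain ⟨n, hn, hn0⟩ := (Submodule.ne_bot_iff P).1 fun e => by
    rw [e, finrank_bot] at hPdim
    omega
  let B := Module.finBasisOfFinrankEq F (M.map (cv O v)) hr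
  have hco : ∀ e ∈ M.map (cv O v), ∃ a b : F,
      e = a • (B 0 : ι → F) + b • (B 1 : ι → F) := fun e he => by
    refine ⟨B.repr ⟨e, he⟩ 0, B.repr ⟨e, he⟩ 1, ?_⟩
    have := congrArg Subtype.val (B.sum_repr ⟨e, he⟩)
    rw [Fin.sum_univ_two] at this
    exact this.symm
  obtain ⟨e₁, he₁, hz₁⟩ := exists_lift O hκ hy₀ hRnd hin (B 0).2
  obtain ⟨e₂, he₂, hz₂⟩ := exists_lift O hκ hy₀ hRnd hin (B 1).2
  obtain ⟨a, b, rfl⟩ := hco e₁ he₁
  obtain ⟨c, d, rfl⟩ := hco e₂ he₂
  obtain ⟨l, hl1, hl2⟩ := exists_shift O.h1.two hF a b c d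
  set c₁ : ι → F := (B 0 : ι → F) with hc₁
  set c₂ : ι → F := (B 1 : ι → F) with hc₂
  set y := y₀ + l • v with hydef
  have hy : f2 y v = 1 := by rw [hydef, O.h2.add_left, O.h2.smul_left, O.h2.self, hy₀, mul_zero, add_zero]
  set z₁ := vecMulVec c₁ y + vecMulVec ((a - l) • c₁ + b • c₂) v with hz₁def
  set z₂ := vecMulVec c₂ y + vecMulVec (c • c₁ + (d - l) • c₂) v with hz₂def
  have hzM₁ : z₁ ∈ M := by
    convert hz₁ using 1
    rw [hz₁def, hydef]
    simp only [vecMulVec_add, vmv_smul, add_vecMulVec, smul_vecMulVec, sub_smul, sub_vmv]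
    module
  have hzM₂ : z₂ ∈ M := by
    convert hz₂ using 1
    rw [hz₂def, hydef]
    simp only [vecMulVec_add, vmv_smul, add_vecMulVec, smul_vecMulVec, sub_smul, sub_vmv]
    module
  set N := (a - l) * (d - l) - b * c with hN
  set T := (a - l) + (d - l) with hT
  have hT0 : T ≠ 0 := by rw [hT]; convert hl1 using 1; ring
  set μ := T / N with hμ
  have hμN : μ * N = T := div_mul_cancel₀ _ hl2
  have hμ0 : μ ≠ 0 := div_ne_zero hT0 hl2
  obtain ⟨t₁, ht₁, ht₁X⟩ := O.right v (-T)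
  obtain ⟨t₂, ht₂, ht₂X⟩ := O.right y (-μ)
  have hvy : f2 v y = -1 := by rw [O.h2.swap y v, hy]
  have hkv : ∀ e, (t₂ * t₁) (vecMulVec e v) = vecMulVec e (v + μ • y) := fun e => by
    show t₂ (t₁ _) = _
    rw [ht₁X, O.h2.self, mul_zero, zero_smul, add_zero, ht₂X, hvy, neg_mul_neg, mul_one]
  have hky : ∀ e, (t₂ * t₁) (vecMulVec e y) = vecMulVec e (y - T • (v + μ • y)) := fun e => by
    show t₂ (t₁ _) = _
    rw [ht₁X, hy, ht₂X, O.h2.add_left, O.h2.self, O.h2.smul_left, hvy]
    congr 1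
    module
  have hk : t₂ * t₁ ∈ G := mul_mem ht₂ ht₁
  set k := t₂ * t₁ with hkdef
  have e : μ * ((a - l) * (d - l) - b * c) = T := hμN
  have hk₁ : k z₁ = (1 - μ * (d - l)) • z₁ + (μ * b) • z₂ := by
    rw [hz₁def, hz₂def, map_add, hky, hkv]
    simp only [vecMulVec_add, vmv_smul, vmv_sub, add_vecMulVec, smul_vecMulVec]
    match_scalars <;> first
      | ring1
      | linear_combination e
  have hk₂ : k z₂ = (μ * c) • z₁ + (1 - μ * (a - l)) • z₂ := by
    rw [hz₁def, hz₂def, map_add, hky, hkv]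
    simp only [vecMulVec_add, vmv_smul, vmv_sub, add_vecMulVec, smul_vecMulVec]
    match_scalars <;> first
      | ring1
      | linear_combination e
  have hzS : ∀ z ∈ Submodule.span F ({z₁, z₂} : Set MV), k z ∈ M := fun z hz => by
    obtain ⟨s, t, rfl⟩ := Submodule.mem_span_pair.1 hz
    rw [map_add, map_smul, map_smul, hk₁, hk₂]
    exact M.add_mem (M.smul_mem _ (M.add_mem (M.smul_mem _ hzM₁) (M.smul_mem _ hzM₂)))
      (M.smul_mem _ (M.add_mem (M.smul_mem _ hzM₁) (M.smul_mem _ hzM₂)))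
  have hcz₁ : cv O v z₁ = c₁ := by
    rw [hz₁def, map_add, cv_pure, cv_pure, hy, O.h2.self, one_smul, zero_smul, add_zero]
  have hcz₂ : cv O v z₂ = c₂ := by
    rw [hz₂def, map_add, cv_pure, cv_pure, hy, O.h2.self, one_smul, zero_smul, add_zero]
  have hli : LinearIndependent F ![z₁, z₂] := LinearIndependent.pair_iff.2 fun s t e => by
    have h1 := congrArg (cv O v) e
    rw [map_add, map_smul, map_smul, hcz₁, hcz₂, map_zero] at h1
    have h2 := Fintype.linearIndependent_iff.1 B.linearIndependent ![s, t] (Subtype.ext (by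
      rw [Fin.sum_univ_two]
      exact h1))
    exact ⟨h2 0, h2 1⟩
  have hdimS : finrank F (Submodule.span F ({z₁, z₂} : Set MV)) = 2 := by
    have h := finrank_span_eq_card hli
    rw [Matrix.range_cons, Matrix.range_cons, Matrix.range_empty, Set.union_empty,
      Set.singleton_union, Fintype.card_fin] at h
    exact h
  have hne : M.map k.toLinearMap ≠ M := fun e => by
    have h1 : k (vecMulVec n v) ∈ M := e ▸ Submodule.mem_map_of_mem (hin n ((hP n).1 hn))
    have h2 := Submodule.mem_map_of_mem (f := cv O v) h1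
    rw [hkv, cv_pure, O.h2.add_left, O.h2.self, O.h2.smul_left, hy, zero_add, mul_one] at h2
    have h3 : μ • n = 0 := hRnd _ h2 fun w hw => by
      rw [O.h1.smul_left, (hP n).1 hn w hw, mul_zero]
    exact hn0 ((smul_eq_zero.1 h3).resolve_left hμ0)
  have hz0 : z₁ ≠ 0 := hli.ne_zero 0
  have h1S : z₁ ∈ Submodule.span F ({z₁, z₂} : Set MV) := Submodule.subset_span (Set.mem_insert _ _)
  have hrk := rank_move O hM hg hgM hk (Submodule.span F ({z₁, z₂} : Set MV))
    (Submodule.span_le.2 (Set.insert_subset hzM₁ (Set.singleton_subset_iff.2 hzM₂)))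
    fun z hz m hm => mem_singular O hM (hzS z hz) hm
  rw [hdimS, hι] at hrk
  exact hmin _ (mem_map O (mem_map O hM hk) (inv_mem hg))
    (np_move O hgM hne hz0 hzM₁ (hzS z₁ h1S)) v' hv' (by omega)

/-- An element supported on a line of the first factor. -/
theorem ex_of_line {P : Submodule F (ι → F)} {q : ι → F} (hqq : f1 q q ≠ 0)
    (hP : ∀ c, c ∈ P ↔ f1 c q = 0) {n : ι → F} (hn : n ∈ P) (hn0 : n ≠ 0) {w : κ → F} (hw : w ≠ 0)
    {ν : F} (hν : ν ≠ 0) {k : MV ≃ₗ[F] MV} (hk : k ∈ G)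
    (hkP : ∀ c ∈ P, ∀ x, k (vecMulVec c x) = vecMulVec c x)
    (hkq : ∀ x, k (vecMulVec q x) = vecMulVec q (x + (ν * f2 x w) • w)) : Ex O := by
  let T : (ι → F) →ₗ[F] (ι → F) := (ν / f1 q q) • (O.h1.lin q).smulRight q
  have hT : ∀ c, T c = (ν / f1 q q * f1 c q) • q := fun c => by
    show (ν / f1 q q) • (f1 c q • q) = _
    rw [smul_smul]
  refine ⟨w, hw, T, fun s => ?_, k, hk, ext_pure (A := k.toLinearMap)
    (B := LinearMap.id + colMap w ∘ₗ T ∘ₗ cv O w) fun c x => ?_⟩
  · by_cases hs : s = 0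
    · refine ⟨q, ?_⟩
      rw [hs, hT, div_mul_cancel₀ _ hqq, zero_smul, ne_eq, smul_eq_zero]
      exact not_or.2 ⟨hν, O.h1.ne_zero hqq⟩
    · refine ⟨n, ?_⟩
      rw [hT, (hP n).1 hn, mul_zero, zero_smul, ne_eq, eq_comm, smul_eq_zero]
      exact not_or.2 ⟨hs, hn0⟩
  · show k (vecMulVec c x) = vecMulVec c x + vecMulVec (T (cv O w (vecMulVec c x))) w
    have hcP : c - (f1 c q / f1 q q) • q ∈ P := (hP _).2 (by
      rw [O.h1.sub_left, O.h1.smul_left, div_mul_cancel₀ _ hqq, sub_self])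
    have e : vecMulVec c x = vecMulVec (c - (f1 c q / f1 q q) • q) x +
        (f1 c q / f1 q q) • vecMulVec q x := by
      rw [sub_vmv, smul_vecMulVec, sub_add_cancel]
    rw [cv_pure, map_smul, hT]
    conv_lhs => rw [e, map_add, map_smul, hkP _ hcP, hkq]
    simp only [vecMulVec_add, vmv_smul, sub_vmv, smul_vecMulVec]
    match_scalars <;> field_simp
    ring

/-- A torus element of the symplectic plane. -/
theorem exists_torus (hκ : Fintype.card κ = 2) {u v : κ → F} (hu : f2 u v = 1) {a : F} (ha : a ≠ 0) :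
    ∃ h ∈ G, ∀ c x, h (vecMulVec c x) =
      vecMulVec c ((a⁻¹ * f2 x v) • u - (a * f2 x u) • v) := by
  have hvu : f2 v u = -1 := by rw [O.h2.swap u v, hu]
  have hw : ∀ s : F, s ≠ 0 → ∃ w ∈ G, ∀ c x, w (vecMulVec c x) =
      vecMulVec c ((s * f2 x v) • v + (s⁻¹ * f2 x u) • u) := fun s hs => by
    obtain ⟨t₁, ht₁, h1⟩ := O.right v s
    obtain ⟨t₂, ht₂, h2⟩ := O.right u s⁻¹
    refine ⟨t₁ * t₂ * t₁, mul_mem (mul_mem ht₁ ht₂) ht₁, fun c x => ?_⟩
    show t₁ (t₂ (t₁ _)) = _
    rw [h1, h2, h1]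
    congr 1
    conv_lhs => rw [two_span O hκ hu x]
    simp only [O.h2.add_left, O.h2.sub_left, O.h2.smul_left, O.h2.self, hu, hvu]
    match_scalars <;> field_simp <;> ring
  obtain ⟨w₁, hw₁, h1⟩ := hw a ha
  obtain ⟨w₂, hw₂, h2⟩ := hw (-1) (neg_ne_zero.2 one_ne_zero)
  refine ⟨w₁ * w₂, mul_mem hw₁ hw₂, fun c x => ?_⟩
  show w₁ (w₂ _) = _
  rw [h2, h1]
  congr 1
  simp only [O.h2.add_left, O.h2.smul_left, O.h2.self, hu, hvu]
  match_scalars <;> field_simp <;> ring

/-- A block element supported on two complementary spaces gives one supported on the line. -/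
theorem ex_of_block [Fintype F] (hκ : Fintype.card κ = 2) (hι : Fintype.card ι = 3) {P : Submodule F (ι → F)} {q : ι → F}
    (hqq : f1 q q ≠ 0) (hP : ∀ c, c ∈ P ↔ f1 c q = 0) {n : ι → F} (hn : n ∈ P) (hn0 : n ≠ 0)
    {u v : κ → F} (hu : f2 u v = 1) {μ : F} (hμ : μ ≠ 0) {D : (ι → F) → (ι → F)}
    (hD : ∀ c ∈ P, D c ∈ P)
    (hy : ∀ t : F, ∃ y ∈ G, (∀ c ∈ P, ∀ x,
        y (vecMulVec c x) = vecMulVec c x + (t * f2 x v) • vecMulVec (D c) v) ∧
      ∀ x, y (vecMulVec q x) = vecMulVec q (x + (t * μ * f2 x u) • u)) : Ex O := by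
  have hvu : f2 v u = -1 := by rw [O.h2.swap u v, hu]
  by_cases h4 : ∃ a : F, a ≠ 0 ∧ a ^ 4 ≠ 1
  · obtain ⟨a, ha, ha4⟩ := h4
    obtain ⟨h, hh, hX⟩ := exists_torus O hκ hu ha
    obtain ⟨h', hh', hX'⟩ := exists_torus O hκ hu (inv_ne_zero ha)
    obtain ⟨y, hy1, hyP, hyq⟩ := hy 1
    obtain ⟨y', hy1', hyP', hyq'⟩ := hy (-a ^ 2)
    have hu0 : u ≠ 0 := fun e => by rw [e, O.h2.zero_left] at hu; exact zero_ne_one hu
    refine ex_of_line O hqq hP hn hn0 hu0 (ν := (a⁻¹ ^ 2 - a ^ 2) * μ)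
      (mul_ne_zero (fun e => ha4 (by field_simp at e; linear_combination -e)) hμ)
      (k := h * y * h' * y') (mul_mem (mul_mem (mul_mem hh hy1) hh') hy1') ?_ ?_
    · intro c hc x
      show h (y (h' (y' _))) = _
      simp only [hyP' c hc, map_add, map_smul, hX', hyP c hc, hyP _ (hD c hc), hX]
      conv_rhs => rw [two_span O hκ hu x]
      simp only [vmv_sub, vmv_smul, O.h2.sub_left, O.h2.smul_left,
        O.h2.self, hu, hvu, inv_inv]
      match_scalars <;> field_simp <;> ring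
    · intro x
      show h (y (h' (y' _))) = _
      rw [hyq', hX', hyq, hX]
      congr 1
      conv_rhs => rw [two_span O hκ hu x]
      simp only [O.h2.sub_left, O.h2.smul_left, O.h2.add_left, O.h2.self, hu, hvu, inv_inv]
      match_scalars <;> field_simp <;> ring
  · push Not at h4
    have hF : 5 ≤ Fintype.card F := by
      rcases O.small with h | h
      · omega
      · rwa [Nat.card_eq_fintype_card] at h
    classical
    obtain ⟨i, hi⟩ : ∃ i : F, i ^ 2 = -1 := by
      by_contra hall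
      push Not at hall
      have hsub : (Finset.univ : Finset F) ⊆ {0, 1, -1} := fun s _ => by
        simp only [Finset.mem_insert, Finset.mem_singleton]
        by_contra hs
        push Not at hs
        have h := h4 s hs.1
        have hfac : (s - 1) * ((s + 1) * (s ^ 2 + 1)) = 0 := by linear_combination h
        rcases mul_eq_zero.1 hfac with h1 | h1
        · exact hs.2.1 (sub_eq_zero.1 h1)
        rcases mul_eq_zero.1 h1 with h1 | h1
        · exact hs.2.2 (eq_neg_of_add_eq_zero_left h1)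
        · exact hall s (eq_neg_of_add_eq_zero_left h1)
      have := Finset.card_le_card hsub
      rw [Finset.card_univ] at this
      have := Finset.card_le_three (a := (0 : F)) (b := 1) (c := -1)
      omega
    have hi0 : i ≠ 0 := fun e => by simp [e] at hi
    obtain ⟨y, hy1, hyP, hyq⟩ := hy 1
    obtain ⟨y', hy1', hyP', hyq'⟩ := hy (-1)
    obtain ⟨t, ht, htX⟩ := O.right v (2 * i / μ)
    obtain ⟨t', ht', htX'⟩ := O.right v (-(2 * i / μ))
    have hk : y * t * y' * t' ∈ G := mul_mem (mul_mem (mul_mem hy1 ht) hy1') ht'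
    set w := v + i • (v - μ • u) with hwdef
    have hwv : f2 w v = -(i * μ) := by
      rw [hwdef, O.h2.add_left, O.h2.self, O.h2.smul_left, O.h2.sub_left, O.h2.self, O.h2.smul_left, hu]
      ring
    have hw0 : w ≠ 0 := fun e => mul_ne_zero hi0 hμ (by
      rw [e, O.h2.zero_left, zero_eq_neg] at hwv
      exact hwv)
    have hkP : ∀ c ∈ P, ∀ x, (y * t * y' * t') (vecMulVec c x) = vecMulVec c x := fun c hc x => by
      show y (t (y' (t' _))) = _
      simp only [htX', hyP' c hc, map_add, map_smul, htX, hyP c hc, hyP _ (hD c hc)]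
      simp only [vecMulVec_add, vmv_smul, O.h2.add_left, O.h2.smul_left, O.h2.self]
      module
    have hkq : ∀ x, (y * t * y' * t') (vecMulVec q x) =
        vecMulVec q (-x + (2 / (i * μ) * f2 x w) • w) := fun x => by
      show y (t (y' (t' _))) = _
      rw [htX', hyq', htX, hyq]
      congr 1
      rw [hwdef]
      have e := two_span O hκ hu x
      generalize f2 x v = α at e ⊢
      generalize f2 x u = β at e ⊢
      subst e
      simp only [O.h2.sub_left, O.h2.sub_right, O.h2.smul_left, O.h2.smul_right, O.h2.add_left,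
        O.h2.add_right, O.h2.self, hu, hvu]
      match_scalars <;> field_simp <;> first
        | ring1
        | grobner
    refine ex_of_line O hqq hP hn hn0 hw0 (ν := -(4 / (i * μ)))
      (neg_ne_zero.2 (div_ne_zero (by rw [show (4 : F) = 2 * 2 by norm_num]
                                      exact mul_ne_zero O.h1.two O.h1.two) (mul_ne_zero hi0 hμ)))
      (mul_mem hk hk) ?_ ?_
    · intro c hc x
      rw [LinearEquiv.mul_apply, hkP c hc, hkP c hc]
    · intro x
      rw [LinearEquiv.mul_apply, hkq, hkq]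
      congr 1
      simp only [O.h2.add_left, O.h2.smul_left, O.h2.neg_left, O.h2.self]
      module

/-- Pairing rank one. -/
theorem three_one [Fintype F] (hex : ¬ Ex O) (hκ : Fintype.card κ = 2) (hι : Fintype.card ι = 3)
    (hmin : MinRank O 1) {M : Submodule F MV} (hM : Mem G M) (hnp : NP M) {v : κ → F} (hv : v ≠ 0)
    (hr : rank O M v = 1)
    (hRnd : ∀ x ∈ M.map (cv O v), (∀ y ∈ M.map (cv O v), f1 x y = 0) → x = 0)
    (hperf : ∀ X ∈ M, cv O v X = 0 → ∃ c, (∀ e ∈ M.map (cv O v), f1 c e = 0) ∧ X = vecMulVec c v)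
    (hin : ∀ c, (∀ e ∈ M.map (cv O v), f1 c e = 0) → vecMulVec c v ∈ M) : False := by
  obtain ⟨A, hAt⟩ := exists_tr O hM
  have hA : Tr f G M A := by simpa using hAt 1 one_ne_zero
  obtain ⟨hker, -⟩ := side O hex hmin one_pos (by omega) hM hnp hv hr hA
    (not_stab O hex (by rw [hι, hκ]; omega) hM hnp hv hr hA)
  obtain ⟨⟨q, hqR⟩, hq0, hqspan⟩ := finrank_eq_one_iff'.1
    (show finrank F (M.map (cv O v)) = 1 from hr)
  have hline : ∀ e ∈ M.map (cv O v), ∃ s : F, s • q = e := fun e he => by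
    obtain ⟨s, hs⟩ := hqspan ⟨e, he⟩
    exact ⟨s, congrArg Subtype.val hs⟩
  have hqne : q ≠ 0 := fun e => hq0 (Subtype.ext e)
  have hqq : f1 q q ≠ 0 := fun e => hqne (hRnd q hqR fun e' he' => by
    obtain ⟨s, rfl⟩ := hline e' he'
    rw [O.h1.smul_right, e, mul_zero])
  obtain ⟨P, hP, -⟩ := O.h1.exists_perp_sub (M.map (cv O v))
  have hP' : ∀ c, c ∈ P ↔ f1 c q = 0 := fun c => ⟨fun h => (hP c).1 h q hqR, fun h => (hP c).2
    fun e he => by
      obtain ⟨s, rfl⟩ := hline e he
      rw [O.h1.smul_right, h, mul_zero]⟩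
  have hPdim := O.h1.finrank_perp hP
  rw [finrank_ι O, show finrank F (M.map (cv O v)) = 1 from hr] at hPdim
  obtain ⟨n, hn, hn0⟩ := (Submodule.ne_bot_iff P).1 fun e => by
    rw [e, finrank_bot] at hPdim
    omega
  obtain ⟨y₀, hy₀⟩ := O.h2.exists_left hv
  obtain ⟨e, he, hz⟩ := exists_lift O hκ hy₀ hRnd hin hqR
  obtain ⟨lam, rfl⟩ := hline e he
  set u := y₀ + lam • v with hudef
  have hu : f2 u v = 1 := by
    rw [hudef, O.h2.add_left, O.h2.smul_left, O.h2.self, hy₀, mul_zero, add_zero]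
  have hzM : vecMulVec q u ∈ M := by
    rwa [hudef, vecMulVec_add, vmv_smul, ← smul_vecMulVec]
  have hstr : ∀ X ∈ M, ∃ s, ∃ d ∈ P, X = s • vecMulVec q u + vecMulVec d v := fun X hX => by
    obtain ⟨s, hs⟩ := hline _ (Submodule.mem_map_of_mem (f := cv O v) hX)
    obtain ⟨d, hd, hXd⟩ := hperf (X - s • vecMulVec q u) (M.sub_mem hX (M.smul_mem _ hzM)) (by
      rw [map_sub, map_smul, cv_pure, hu, one_smul, hs, sub_self])
    exact ⟨s, d, (hP d).2 hd, by rw [← hXd, add_sub_cancel]⟩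
  obtain ⟨h, hh, hhc, -, hhh⟩ := rf O hqq
  have hhP : ∀ c ∈ P, ∀ x, h (vecMulVec c x) = vecMulVec c x := fun c hc x => by
    rw [hhc, O.h1.refl_perp ((hP' c).1 hc)]
  have hhq : ∀ x, h (vecMulVec q x) = -vecMulVec q x := fun x => by
    rw [hhc, O.h1.refl_self hqq, neg_vmv]
  have hhM : ∀ X ∈ M, h X ∈ M := fun X hX => by
    obtain ⟨s, d, hd, rfl⟩ := hstr X hX
    rw [map_add, map_smul, hhq, hhP d hd]
    exact M.add_mem (M.smul_mem _ (M.neg_mem hzM)) (hin d ((hP d).1 hd))
  have hAM : ∀ m ∈ M, A m = 0 := fun m hm => hA.ker m fun m' hm' => mem_singular O hM hm hm'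
  let B : MV →ₗ[F] MV := A + h.toLinearMap ∘ₗ A ∘ₗ h.toLinearMap
  have hB : ∀ X, B X = A X + h (A (h X)) := fun X => rfl
  have hBh : ∀ X, B (h X) = h (B X) := fun X => by
    rw [hB, hB, map_add, hhh, hhh, add_comm]
  have hBM : ∀ X, B X ∈ M := fun X => M.add_mem (hA.mem _) (hhM _ (hA.mem _))
  have hBk : ∀ m ∈ M, B m = 0 := fun m hm => by
    rw [hB, hAM m hm, hAM _ (hhM m hm), map_zero, add_zero]
  have hyt : ∀ t : F, ∃ y ∈ G, ∀ X, y X = X + t • B X := fun t => by
    rcases eq_or_ne t 0 with rfl | ht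
    · exact ⟨1, one_mem G, fun X => by rw [zero_smul, add_zero]; rfl⟩
    obtain ⟨y, hy, hyX⟩ := (hAt t ht).elem
    refine ⟨y * (h * y * h), mul_mem hy (mul_mem (mul_mem hh hy) hh), fun X => ?_⟩
    show y (h (y (h X))) = _
    have e1 : h (y (h X)) = X + t • h (A (h X)) := by
      rw [hyX, LinearMap.smul_apply, map_add, map_smul, hhh]
    rw [e1, hyX, LinearMap.smul_apply, map_add A, map_smul A, hAM _ (hhM _ (hA.mem _)), smul_zero,
      add_zero, hB, smul_add]
    abel
  -- the two blocks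
  let D : (ι → F) → (ι → F) := fun c => -cv O u (B (vecMulVec c u))
  have hBPu : ∀ c ∈ P, ∃ d ∈ P, B (vecMulVec c u) = vecMulVec d v ∧ D c = d := fun c hc => by
    obtain ⟨s, d, hd, hX⟩ := hstr _ (hBM (vecMulVec c u))
    have h1 : h (B (vecMulVec c u)) = B (vecMulVec c u) := by rw [← hBh, hhP c hc]
    rw [hX, map_add, map_smul, hhq, hhP d hd] at h1
    have h2 := congrArg (cv O v) h1
    simp only [map_add, map_smul, map_neg, cv_pure, hu, O.h2.self, one_smul, zero_smul, add_zero] at h2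
    have hs : s = 0 := by
      have : ((2 : F) * s) • q = 0 := by
        rw [two_mul, add_smul]
        nth_rewrite 1 [← h2]
        rw [smul_neg, neg_add_cancel]
      exact (mul_eq_zero.1 ((smul_eq_zero.1 this).resolve_right hqne)).resolve_left O.h1.two
    rw [hs, zero_smul, zero_add] at hX
    refine ⟨d, hd, hX, ?_⟩
    show -cv O u (B (vecMulVec c u)) = d
    rw [hX, cv_pure, O.h2.swap u v, hu, neg_smul, one_smul, neg_neg]
  have hBP : ∀ c ∈ P, ∀ x, B (vecMulVec c x) = f2 x v • vecMulVec (D c) v := fun c hc x => by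
    obtain ⟨d, -, e, hDd⟩ := hBPu c hc
    conv_lhs => rw [two_span O hκ hu x]
    rw [vmv_sub, vmv_smul, vmv_smul, map_sub, map_smul, map_smul, hBk _ (hin c ((hP c).1 hc)),
      smul_zero, sub_zero, e, hDd]
  obtain ⟨s, d, hd, hX⟩ := hstr _ (hBM (vecMulVec q v))
  have h1 : h (B (vecMulVec q v)) = -B (vecMulVec q v) := by rw [← hBh, hhq, map_neg]
  have hd0 : vecMulVec d v = 0 := by
    rw [hX, map_add, map_smul, hhq, hhP d hd] at h1
    have : (2 : F) • vecMulVec d v = 0 := by
      rw [← sub_eq_zero] at h1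
      rw [← h1]
      module
    exact (smul_eq_zero.1 this).resolve_left O.h1.two
  rw [hd0, add_zero] at hX
  have hs0 : s ≠ 0 := fun hs => by
    rw [hs, zero_smul] at hX
    have h2 := congrArg (cv O v) hX
    obtain ⟨a, ha⟩ := hline _ (Submodule.mem_map_of_mem (f := cv O v) (hA.mem (vecMulVec q v)))
    rw [hB, hhq, map_neg A, map_neg h, map_add, map_neg, map_zero] at h2
    have hcvh : cv O v (h (A (vecMulVec q v))) = O.h1.refl q (cv O v (A (vecMulVec q v))) :=
      ext_pure (A := cv O v ∘ₗ h.toLinearMap) (B := O.h1.refl q ∘ₗ cv O v) (fun c x => by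
        show cv O v (h _) = O.h1.refl q (cv O v _)
        rw [hhc, cv_pure, cv_pure, map_smul]) _
    rw [hcvh, ← ha, map_smul, O.h1.refl_self hqq, smul_neg, neg_neg, ← two_smul F, smul_smul] at h2
    have ha0 := (mul_eq_zero.1 ((smul_eq_zero.1 h2).resolve_right hqne)).resolve_left O.h1.two
    refine hqq ((hker q).1 ?_ q hqR)
    rw [← ha, ha0, zero_smul]
  refine hex (ex_of_block O hκ hι hqq hP' hn hn0 hu (μ := -s) (neg_ne_zero.2 hs0) (D := D)
    (fun c hc => by
      obtain ⟨d, hd, -, e⟩ := hBPu c hc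
      rwa [e]) fun t => ?_)
  obtain ⟨y, hy, hyX⟩ := hyt t
  refine ⟨y, hy, fun c hc x => by rw [hyX, hBP c hc, smul_smul], fun x => ?_⟩
  rw [hyX]
  have e := two_span O hκ hu x
  generalize f2 x v = α at e ⊢
  generalize f2 x u = β at e ⊢
  subst e
  rw [vecMulVec_add, vmv_sub, vmv_smul, vmv_smul, vmv_smul, map_sub B, map_smul, map_smul, hBk _ hzM,
    hX, smul_zero, zero_sub]
  module

end

end CfsgLib.MaxSub.TensorSympOrth
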