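/-
Pairing rank two for a symplectic plane and an orthogonal space of dimension four without isotropic planes: the
transvection along the member is the identity on the perpendicular, which has no singular vector.
-/
import Cfsg.Agent.Lib.MaxSub.TensorSympOrth.Three

set_option autoImplicit false
set_option maxHeartbeats 1600000
set_option linter.unusedSectionVars false

namespace CfsgLib.MaxSub.TensorSympOrth

open Matrix Module
open CfsgLib.MaxSub.TensorSymp (AForm)
open CfsgLib.MaxSub.TensorLin (Col colMap colMap_apply mem_col finrank_col colMap_injective vmv_eq_zero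
  vmv_zero NP)

variable {F : Type*} [Field F] {ι κ : Type} [Fintype ι] [Fintype κ] [DecidableEq ι] [DecidableEq κ]
variable {f1 : (ι → F) → (ι → F) → F} {f2 : (κ → F) → (κ → F) → F}
  {f : Matrix ι κ F → Matrix ι κ F → F} {G : Subgroup (Matrix ι κ F ≃ₗ[F] Matrix ι κ F)}

local notation "MV" => Matrix ι κ F

section

variable (O : SO f1 f2 f G)
include O

/-- A member that is not pure does not fix the space of pure tensors. -/
theorem not_stab_four (hex : ¬ Ex O) (hκ : Fintype.card κ = 2) (hι : Fintype.card ι = 4) (hnop : NoPlane f1)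
    {M : Submodule F MV} (hM : Mem G M) (hnp : NP M) {v : κ → F} (hv : v ≠ 0) {A : MV →ₗ[F] MV}
    (hA : Tr f G M A) : ¬ ∀ c, A (vecMulVec c v) ∈ Col v := fun hN => by
  obtain ⟨φ, hφφ, hφs, hA'⟩ := shape O hex hnp hM hA hv hN
  have hb := stab O hex hnp hM hA hv hN
  rw [show A ∘ₗ colMap v = colMap v ∘ₗ φ from LinearMap.ext fun c => hA' c v, LinearMap.range_comp,
    ← (Submodule.equivMapOfInjective _ (colMap_injective hv) _).finrank_eq, hκ, hι] at hb
  have h1 := hnop (LinearMap.range φ) fun x hx y hy => by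
    obtain ⟨c, rfl⟩ := hx
    obtain ⟨d, rfl⟩ := hy
    have := hφs c (φ d)
    rwa [hφφ, O.h1.zero_right, add_zero] at this
  omega

/-- The element giving the member fixes the perpendicular part, so the transvection is the identity there, and
the perpendicular has no singular vector. -/
theorem four_core [Finite F] (hex : ¬ Ex O) (hκ : Fintype.card κ = 2) (hι : Fintype.card ι = 4) (hnop : NoPlane f1)
    (hmin : MinRank O 2) {M : Submodule F MV} (hM : Mem G M) (hnp : NP M) {v : κ → F} (hv : v ≠ 0)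
    (hr : rank O M v = 2)
    (hRnd : ∀ x ∈ M.map (cv O v), (∀ y ∈ M.map (cv O v), f1 x y = 0) → x = 0)
    (hperf : ∀ X ∈ M, cv O v X = 0 → ∃ c, (∀ e ∈ M.map (cv O v), f1 c e = 0) ∧ X = vecMulVec c v)
    {u₀ : MV ≃ₗ[F] MV} (hu₀ : u₀ ∈ G) (hMu : M = (Col v).map u₀.toLinearMap)
    (hfix : ∀ c, (∀ e ∈ M.map (cv O v), f1 c e = 0) → u₀ (vecMulVec c v) = vecMulVec c v)
    {y₁ : κ → F} (hy₁ : f2 y₁ v = 1) :
    (∀ n b, (∀ e ∈ M.map (cv O v), f1 n e = 0) → b ∈ M.map (cv O v) → f1 (cv O y₁ (u₀ (vecMulVec b v))) n = 0) ∧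
      ∀ p₀, (∀ e ∈ M.map (cv O v), f1 p₀ e = 0) → f1 p₀ p₀ = 0 → p₀ = 0 := by
  have hin : ∀ c, (∀ e ∈ M.map (cv O v), f1 c e = 0) → vecMulVec c v ∈ M := fun c hc => by
    rw [hMu, ← hfix c hc]
    exact Submodule.mem_map_of_mem (mem_col.2 ⟨c, rfl⟩)
  set RR := M.map (cv O v) with hRR
  obtain ⟨P, hP, -⟩ := O.h1.exists_perp_sub RR
  have hPdim := O.h1.finrank_perp hP
  rw [finrank_ι O, show finrank F RR = 2 from hr] at hPdim
  obtain ⟨π, hπR, hπP, hπ0, hπid⟩ := O.h1.exists_proj hRnd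
  have hQ : ∀ c, c - π c ∈ P := fun c => (hP _).2 (hπP c)
  have hA := tr_of O hu₀ hv (one_ne_zero (α := F))
  rw [← hMu, one_smul] at hA
  set A : MV →ₗ[F] MV := u₀.toLinearMap ∘ₗ colMap v ∘ₗ cv O v ∘ₗ u₀.symm.toLinearMap with hAdef
  obtain ⟨y, hy, hyX⟩ := hA.elem
  obtain ⟨hker, -⟩ := side O hex hmin two_pos (by omega) hM hnp hv hr hA
    (not_stab_four O hex hκ hι hnop hM hnp hv hA)
  have hAP : ∀ c ∈ P, A (vecMulVec c v) = 0 := fun c hc => hA.ker _ fun m hm => by
    rw [f_cv' O, neg_eq_zero]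
    exact O.h1.symm0 ((hP c).1 hc _ (Submodule.mem_map_of_mem hm))
  let φ : (ι → F) →ₗ[F] (ι → F) := cv O v ∘ₗ A ∘ₗ colMap v
  have hφR : ∀ c, φ c ∈ RR := fun c => Submodule.mem_map_of_mem (hA.mem _)
  have hφs : ∀ c d, f1 (φ c) d = f1 (φ d) c := fun c d => by
    show f1 (cv O v (A (vecMulVec c v))) d = f1 (cv O v (A (vecMulVec d v))) c
    rw [← f_cv O, hA.skew, ← O.h.swap, f_cv O]
  -- coordinates
  obtain ⟨y₀, hy₀, rfl⟩ : ∃ y₀, f2 y₀ v = 1 ∧ y₀ = y₁ := ⟨y₁, hy₁, rfl⟩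
  have hspan : ∀ x, x = f2 x v • y₀ - f2 x y₀ • v := two_span O hκ hy₀
  have hdecX : ∀ X, X = vecMulVec (cv O v X) y₀ - vecMulVec (cv O y₀ X) v := dec_two O hκ hy₀
  have hfc : ∀ X Y, f X Y = f1 (cv O y₀ X) (cv O v Y) - f1 (cv O v X) (cv O y₀ Y) := fun X Y => by
    conv_lhs => rw [hdecX Y]
    rw [O.h.sub_right, f_cv O, f_cv O]
  obtain ⟨g, hg, v', hv', hgM⟩ := id hM
  obtain ⟨c₀, hc₀P, hc₀⟩ := (Submodule.ne_bot_iff P).1 fun e => by
    rw [e, finrank_bot] at hPdim
    omega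
  -- invariance
  have hinv : ∀ (h0 : (ι → F) →ₗ[F] (ι → F)) (ε : F), (∀ c d, f1 (h0 c) (h0 d) = f1 c d) → ε * ε = 1 →
      (∀ e ∈ RR, h0 e = ε • e) → ∀ h ∈ G, (∀ c x, h (vecMulVec c x) = vecMulVec (h0 c) x) →
      (∀ v X, cv O v (h X) = h0 (cv O v X)) → M.map h.toLinearMap = M := by
    intro h0 ε hiso hε hR0 h hh hhc hhcv
    by_contra hne
    have hzero : ∀ z ∈ M, ∀ m ∈ M, f (h z) m = 0 := fun z hz m hm => by
      have h0' := mem_singular O hM hz hm
      rw [hfc] at h0'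
      rw [hfc, hhcv, hhcv, hR0 _ (Submodule.mem_map_of_mem hz), O.h1.smul_left]
      have h1 : f1 (h0 (cv O y₀ z)) (cv O v m) = ε * f1 (cv O y₀ z) (cv O v m) := by
        have h2 := hiso (cv O y₀ z) (cv O v m)
        rw [hR0 _ (Submodule.mem_map_of_mem hm), O.h1.smul_right] at h2
        rw [← h2, ← mul_assoc, hε, one_mul]
      rw [h1, ← mul_sub, h0', mul_zero]
    have hc : h0 c₀ ∈ P := (hP _).2 fun e he => by
      have h2 := hiso c₀ e
      rw [hR0 e he, O.h1.smul_right, (hP c₀).1 hc₀P e he] at h2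
      exact (mul_eq_zero.1 h2).resolve_left fun e' => by simp [e'] at hε
    refine hmin _ (mem_map O (mem_map O hM hh) (inv_mem hg))
      (np_move O hgM hne (vmv_ne_zero hc₀ hv) (hin _ ((hP _).1 hc₀P))
        (by rw [hhc]; exact hin _ ((hP _).1 hc))) v' hv' ?_
    have := rank_move O hM hg hgM hh M le_rfl hzero
    rw [mem_finrank O hM] at this
    omega
  -- the involution
  let h0 : (ι → F) →ₗ[F] (ι → F) := LinearMap.id - (2 : F) • π
  have hh0 : ∀ c, h0 c = c - (2 : F) • π c := fun c => rfl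
  have hh0iso : ∀ c d, f1 (h0 c) (h0 d) = f1 c d := fun c d => by
    have h1 : f1 c (π d) = f1 (π c) (π d) := by
      have := hπP c _ (hπR d)
      rw [O.h1.sub_left] at this
      linear_combination this
    have h2 : f1 (π c) d = f1 (π c) (π d) := by
      have := hπP d _ (hπR c)
      rw [O.h1.sub_left] at this
      rw [O.h1.symm d (π c), O.h1.symm (π d) (π c)]
      linear_combination this
    rw [hh0, hh0]
    simp only [O.h1.sub_left, O.h1.sub_right, O.h1.smul_left, O.h1.smul_right, h1, h2]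
    ring
  have hh0R : ∀ e ∈ RR, h0 e = -e := fun e he => by
    rw [hh0, hπid e he, two_smul]
    abel
  have hh0P : ∀ c ∈ P, h0 c = c := fun c hc => by rw [hh0, hπ0 c ((hP c).1 hc), smul_zero, sub_zero]
  have hh0fix : ∀ a, h0 a = a → a ∈ P := fun a ha => by
    rw [hh0, sub_eq_self, smul_eq_zero] at ha
    have := hQ a
    rwa [ha.resolve_left O.h1.two, sub_zero] at this
  have hh0neg : ∀ a, h0 a = -a → a ∈ RR := fun a ha => by
    have : (2 : F) • (a - π a) = 0 := by
      rw [hh0] at ha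
      rw [← sub_eq_zero.2 ha]
      module
    rw [sub_eq_zero.1 ((smul_eq_zero.1 this).resolve_left O.h1.two)]
    exact hπR a
  obtain ⟨h, hh, hhc, hhcv⟩ := lf O hh0iso
  have hh2 : ∀ X, h (h X) = X := ext_pure (A := h.toLinearMap ∘ₗ h.toLinearMap) (B := LinearMap.id)
    fun c x => by
      show h (h _) = _
      rw [hhc, hhc]
      congr 1
      conv_lhs => rw [hh0 c]
      rw [map_sub, map_smul, hh0R _ (hπR c), hh0]
      module
  have hhM : M.map h.toLinearMap = M := hinv h0 (-1) hh0iso (by ring)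
    (fun e he => by rw [hh0R e he, neg_one_smul]) h hh hhc hhcv
  have hhi : ∀ X, h.symm X = h X := fun X => h.symm_apply_eq.2 (hh2 X).symm
  have hAM : ∀ m ∈ M, A m = 0 := fun m hm => hA.ker m fun m' hm' => mem_singular O hM hm hm'
  have hhmem : ∀ m ∈ M, h m ∈ M := fun m hm => hhM ▸ Submodule.mem_map_of_mem hm
  let B : MV →ₗ[F] MV := A - h.toLinearMap ∘ₗ A ∘ₗ h.toLinearMap
  have hB : ∀ X, B X = A X - h (A (h X)) := fun X => rfl
  have hBM : ∀ X, B X ∈ M := fun X => by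
    rw [hB]
    exact M.sub_mem (hA.mem _) (hhmem _ (hA.mem _))
  have hBk : ∀ m ∈ M, B m = 0 := fun m hm => by
    rw [hB, hAM m hm, hAM _ (hhmem m hm), map_zero, sub_zero]
  have hBP : ∀ c ∈ P, B (vecMulVec c v) = 0 := fun c hc => hBk _ (hin c ((hP c).1 hc))
  have hBv : ∀ c, cv O v (B (vecMulVec c v)) = 0 := fun c => by
    rw [hB, hhc, map_sub, hhcv]
    show φ c - h0 (φ (h0 c)) = 0
    have : φ (h0 c) = -φ c := by
      have e : φ (c - π c) = 0 := (hker _).2 (hπP c)
      rw [map_sub, sub_eq_zero] at e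
      rw [hh0, map_sub, map_smul, ← e, two_smul]
      abel
    rw [this, map_neg, hh0R _ (hφR c), neg_neg, sub_self]
  obtain ⟨z, hz⟩ := O.h2.exists_right hv
  let τ : (ι → F) →ₗ[F] (ι → F) := cv O z ∘ₗ B ∘ₗ colMap v
  have hτ : ∀ c, B (vecMulVec c v) = vecMulVec (τ c) v ∧ τ c ∈ P := fun c => by
    obtain ⟨d, hd, e⟩ := hperf _ (hBM _) (hBv c)
    have hτd : τ c = d := by
      show cv O z (B (vecMulVec c v)) = d
      rw [e, cv_pure, hz, one_smul]
    exact ⟨by rw [hτd, e], by rw [hτd]; exact (hP d).2 hd⟩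
  have hττ : ∀ c, τ (τ c) = 0 := fun c => by
    show cv O z (B (vecMulVec (τ c) v)) = 0
    rw [hBP _ (hτ c).2, map_zero]
  have hτD : ∀ d, (y * (h * y * h)⁻¹) (vecMulVec d v) = vecMulVec (d + τ d) v := fun d => by
    show y (h.symm (y.symm (h.symm (vecMulVec d v)))) = _
    rw [hhi, hhi, hA.inv hyX, map_sub h, hh2, hyX, map_sub A, hAM _ (hhmem _ (hA.mem _)),
      sub_zero, add_vecMulVec, ← (hτ d).1, hB]
    abel
  obtain ⟨-, hτs⟩ := unip O hex (mul_mem hy (inv_mem (mul_mem (mul_mem hh hy) hh))) hv hττ hτD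
  have hτ0 : ∀ c, τ c = 0 := fun c => O.h1.nondeg _ fun d => by
    have h1 : τ (d - π d) = 0 := by
      show cv O z (B (vecMulVec (d - π d) v)) = 0
      rw [hBP _ (hQ d), map_zero]
    have h2 := hτs c (d - π d)
    rw [h1, O.h1.zero_right, add_zero, O.h1.sub_right,
      (hP _).1 (hτ c).2 _ (hπR d), sub_zero] at h2
    exact h2
  have hBcol : ∀ c, B (vecMulVec c v) = 0 := fun c => by rw [(hτ c).1, hτ0, zero_vecMulVec]
  have hBskew : ∀ X Y, f (B X) Y = -f X (B Y) := fun X Y => by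
    have e : ∀ U V, f (h U) V = f U (h V) := fun U V => by
      conv_lhs => rw [← hh2 V, O.isom h hh]
    rw [hB, hB, O.h.sub_left, O.h.sub_right, hA.skew, e, hA.skew, e]
    ring
  have hBh : ∀ X, h (B (h X)) = -B X := fun X => by
    rw [hB, hB, hh2, map_sub, hh2]
    abel
  have hB0 : ∀ X, B X = 0 := ext_pure (B := (0 : MV →ₗ[F] MV)) fun c x => by
    have hy0 : ∀ c, B (vecMulVec c y₀) = 0 := fun c => by
      have hRy : ∀ e ∈ RR, B (vecMulVec e y₀) = 0 := fun e he => by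
        obtain ⟨m, hm, rfl⟩ := he
        have h1 := hBk m hm
        conv_lhs at h1 => rw [hdecX m]
        rwa [map_sub, hBcol, sub_zero] at h1
      have hPy : B (vecMulVec (c - π c) y₀) = 0 := by
        set n := c - π c
        have h1 : cv O v (B (vecMulVec n y₀)) = 0 := cv_eq_zero O fun d => by
          rw [hBskew, hBcol, O.h.zero_right, neg_zero]
        obtain ⟨d, hd, e⟩ := hperf _ (hBM _) h1
        have h2 := hBh (vecMulVec n y₀)
        rw [hhc, hh0P n (hQ c), e, hhc, hh0P d ((hP d).2 hd), ← sub_eq_zero, sub_neg_eq_add,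
          ← two_smul F, smul_eq_zero] at h2
        rw [e, h2.resolve_left O.h1.two]
      rw [sub_vmv, map_sub, hRy _ (hπR c), sub_zero] at hPy
      exact hPy
    show B (vecMulVec c x) = 0
    rw [hspan x, vmv_sub, vmv_smul, vmv_smul, map_sub, map_smul, map_smul, hy0, hBcol, smul_zero,
      smul_zero, sub_zero]
  have hAh : ∀ X, A (h X) = h (A X) := fun X => by
    have := hB0 (h X)
    rw [hB, hh2, sub_eq_zero] at this
    exact this
  -- the part perpendicular to the image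
  let T : (ι → F) →ₗ[F] (ι → F) := cv O z ∘ₗ A ∘ₗ colMap y₀
  have hT : ∀ n ∈ P, A (vecMulVec n y₀) = vecMulVec (T n) v ∧ T n ∈ P := fun n hn => by
    have h1 : h (A (vecMulVec n y₀)) = A (vecMulVec n y₀) := by rw [← hAh, hhc, hh0P n hn]
    have h2 : cv O v (A (vecMulVec n y₀)) = 0 := by
      have h3 : cv O v (A (vecMulVec n y₀)) ∈ P :=
        hh0fix _ (by rw [← hhcv, h1])
      exact hRnd _ (Submodule.mem_map_of_mem (hA.mem _)) fun e he => (hP _).1 h3 e he
    obtain ⟨d, hd, e⟩ := hperf _ (hA.mem _) h2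
    have hTd : T n = d := by
      show cv O z (A (vecMulVec n y₀)) = d
      rw [e, cv_pure, hz, one_smul]
    exact ⟨by rw [hTd, e], by rw [hTd]; exact (hP d).2 hd⟩
  have hARc : ∀ e ∈ RR, ∀ x u, cv O u (A (vecMulVec e x)) ∈ RR := fun e he x u => hh0neg _ (by
    rw [← hhcv, ← hAh, hhc, hh0R e he, neg_vmv, map_neg, map_neg])
  -- the identity on the perpendicular
  have hPnd : ∀ x ∈ P, (∀ y ∈ P, f1 x y = 0) → x = 0 := fun x hx hxP => O.h1.nondeg x fun d => by
    rw [← sub_add_cancel d (π d), O.h1.add_right, hxP _ (hQ d), (hP x).1 hx _ (hπR d), add_zero]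
  have HP := O.h1.restrict hPnd
  have hAu : ∀ X, A X = u₀ (vecMulVec (cv O v (u₀.symm X)) v) := fun X => rfl
  have hTid : ∀ n ∈ P, cv O v (u₀.symm (vecMulVec n y₀)) = n ∧ T n = n := fun n hn => by
    obtain ⟨hTn, hTP⟩ := hT n hn
    set c := cv O v (u₀.symm (vecMulVec n y₀)) with hc
    have e : u₀ (vecMulVec c v) = u₀ (vecMulVec (T n) v) := by
      rw [hfix _ ((hP _).1 hTP), ← hTn, hAu]
    have hcT : c = T n := colMap_injective hv (u₀.injective e)
    have hcn : c = n := sub_eq_zero.1 (hPnd _ (P.sub_mem (hcT ▸ hTP) hn) fun d hd => by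
      have h1 : f1 c d = f1 n d := by
        rw [hc, ← f_cv O, isom_symm O hu₀, hfix _ ((hP _).1 hd), O.f_pure, hy₀, mul_one]
      rw [O.h1.sub_left, h1, sub_self])
    exact ⟨hcn, hcT.symm.trans hcn⟩
  refine ⟨fun n b hn hb => ?_, fun p₀ hp₀P hp₀p => by_contra fun hp₀0 => ?_⟩
  · have h1 : f (vecMulVec n y₀) (u₀ (vecMulVec b v)) = f1 n b := by
      rw [← isom_symm O hu₀, f_cv O, (hTid n ((hP n).2 hn)).1]
    rw [hn b hb, f_cv' O, O.h1.symm, neg_eq_zero] at h1
    rwa [O.h1.symm]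
  set lam : F := 1 with hlam
  have hTl : ∀ n ∈ P, T n = lam • n := fun n hn => by rw [(hTid n hn).2, hlam, one_smul]
  -- two corrected elements
  obtain ⟨t₁, ht₁, ht₁X, -⟩ := tv O v (-lam)
  obtain ⟨t₂, ht₂, ht₂X, -⟩ := tv O v lam
  have hhtv : ∀ (t : MV ≃ₗ[F] MV) (l : F), (∀ X, t X = X + l • vecMulVec (cv O v X) v) →
      ∀ X, t (h X) = h (t X) := fun t l ht X => by
    rw [ht, ht, map_add, map_smul, hhcv, hhc]
  have hyh : ∀ X, y (h X) = h (y X) := fun X => by rw [hyX, hyX, hAh, map_add]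
  have hgR : ∀ (k : MV ≃ₗ[F] MV), (∀ X, k (h X) = h (k X)) → ∀ c ∈ RR, ∀ x, ∀ w ∈ P,
      cw O w (k (vecMulVec c x)) = 0 := fun k hk c hc x w hw => O.h2.nondeg _ fun u => by
    rw [cw_cv O]
    refine O.h1.symm0 ((hP w).1 hw _ (hh0neg _ ?_))
    rw [← hhcv, ← hk, hhc, hh0R c hc, neg_vmv, map_neg, map_neg]
  have hyP : ∀ c ∈ P, ∀ x, A (vecMulVec c x) = lam • vecMulVec (cv O v (vecMulVec c x)) v :=
    fun c hc x => by
      conv_lhs => rw [hspan x, vmv_sub, vmv_smul, vmv_smul]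
      rw [map_sub, map_smul, map_smul, hAP c hc, (hT c hc).1, hTl c hc, smul_zero, sub_zero, cv_pure,
        smul_vecMulVec, smul_vecMulVec, smul_comm]
  have hg₁P : ∀ c ∈ P, ∀ x, (y * t₁) (vecMulVec c x) = vecMulVec c x := fun c hc x => by
    show y (t₁ _) = _
    rw [ht₁X, map_add, map_smul, hyX, hyX, hyP c hc, cv_pure, hAP _ (P.smul_mem _ hc)]
    module
  have hg₂P : ∀ c ∈ P, ∀ x, (y⁻¹ * t₂) (vecMulVec c x) = vecMulVec c x := fun c hc x => by
    show y.symm (t₂ _) = _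
    rw [ht₂X, map_add, map_smul, hA.inv hyX, hA.inv hyX, hyP c hc, cv_pure,
      hAP _ (P.smul_mem _ hc)]
    module
  have hg₁h : ∀ X, (y * t₁) (h X) = h ((y * t₁) X) := fun X => by
    show y (t₁ (h X)) = h (y (t₁ X))
    rw [hhtv t₁ _ ht₁X, hyh]
  have hg₂h : ∀ X, (y⁻¹ * t₂) (h X) = h ((y⁻¹ * t₂) X) := fun X => by
    show y.symm (t₂ (h X)) = h (y.symm (t₂ X))
    rw [hhtv t₂ _ ht₂X, y.symm_apply_eq, hyh, y.apply_symm_apply]
  -- a singular vector, its partner, and a vector pairing with itself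
  obtain ⟨p, hp0, hpp⟩ : ∃ p : P, p ≠ 0 ∧ f1 (p : ι → F) p = 0 :=
    ⟨⟨p₀, (hP p₀).2 hp₀P⟩, fun e => hp₀0 (congrArg Subtype.val e), hp₀p⟩
  obtain ⟨p', hp'⟩ := HP.exists_left hp0
  obtain ⟨q, hq, hqq⟩ : ∃ q ∈ RR, f1 (φ q) q ≠ 0 := by
    by_contra hc
    push Not at hc
    obtain ⟨e, he, he0⟩ := (Submodule.ne_bot_iff RR).1 fun e => by
      have : finrank F RR = 2 := hr
      rw [e, finrank_bot] at this
      omega
    refine he0 (hRnd e he ((hker e).1 ?_))
    refine hRnd _ (hφR e) fun e' he' => ?_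
    have h3 := hc _ (RR.add_mem he he')
    rw [map_add, O.h1.add_left, O.h1.add_right, O.h1.add_right, hc e he, hc e' he', hφs e' e] at h3
    exact (mul_eq_zero.1 (show (2 : F) * f1 (φ e) e' = 0 by linear_combination h3)).resolve_left
      O.h1.two
  have hdec : ∀ c, ∃ a ∈ RR, c - a ∈ P := fun c => ⟨π c, hπR c, hQ c⟩
  have hk₁ := inp_of O hP hdec p.2 hpp p'.2 hp' hq (mul_mem hy ht₁) hg₁P (hgR _ hg₁h)
  have hk₂ := inp_of O hP hdec p.2 hpp p'.2 hp' hq (mul_mem (inv_mem hy) ht₂) hg₂P (hgR _ hg₂h)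
  set S : (κ → F) → (κ → F) := fun u =>
    (4 : F) • cw O q (A (vecMulVec q u) - lam • vecMulVec (cv O v (vecMulVec q u)) v) with hS
  have hSmem : InP O (p : ι → F) S := by
    obtain ⟨k, hk, hkX⟩ := inp_mul O hpp hk₁ (inp_neg O hpp hk₂)
    refine ⟨k, hk, fun X => ?_⟩
    rw [hkX]
    congr 2
    simp only [hS]
    generalize cw O (p : ι → F) X = u
    set U := vecMulVec q u
    have e1 : (y * t₁) U = U + A U - lam • vecMulVec (cv O v U) v
        - lam • A (vecMulVec (cv O v U) v) := by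
      show y (t₁ U) = _
      rw [ht₁X, map_add, map_smul, hyX, hyX]
      module
    have e2 : (y * t₁).symm U = U - A U + lam • vecMulVec (cv O v U) v
        - lam • vecMulVec (cv O v (A U)) v := by
      have hi : ∀ Y, t₁.symm Y = t₂ Y := fun Y => t₁.symm_apply_eq.2 (by
        rw [ht₁X, ht₂X]
        simp [cv_pure, O.h2.self])
      show t₁.symm (y.symm U) = _
      rw [hi, ht₂X, hA.inv hyX, map_sub, sub_vmv]
      module
    have e3 : (y⁻¹ * t₂) U = U - A U + lam • vecMulVec (cv O v U) v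
        - lam • A (vecMulVec (cv O v U) v) := by
      show y.symm (t₂ U) = _
      rw [ht₂X, map_add, map_smul, hA.inv hyX, hA.inv hyX]
      module
    have e4 : (y⁻¹ * t₂).symm U = U + A U - lam • vecMulVec (cv O v U) v
        - lam • vecMulVec (cv O v (A U)) v := by
      have hi : ∀ Y, t₂.symm Y = t₁ Y := fun Y => t₂.symm_apply_eq.2 (by
        rw [ht₁X, ht₂X]
        simp [cv_pure, O.h2.self])
      show t₂.symm (y U) = _
      rw [hi, ht₁X, hyX, map_add, add_vecMulVec]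
      module
    rw [e1, e2, e3, e4]
    simp only [map_add, map_sub, map_smul]
    module
  obtain ⟨k, hk, hkX⟩ := inp_mul O hpp (inp_mul O hpp (inp_conj O hSmem v 1) (inp_conj O hSmem v (-1)))
    (inp_neg O hpp (inp_mul O hpp hSmem hSmem))
  set κ' := -2 * f2 (S v) v with hκ'
  have hκ0 : κ' ≠ 0 := by
    have e : f2 (S v) v = 4 * f1 (φ q) q := by
      rw [hS]
      show f2 ((4 : F) • _) v = _
      rw [O.h2.smul_left, cw_cv O, cv_pure, O.h2.self, zero_smul, zero_vecMulVec, smul_zero, sub_zero]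
      rfl
    rw [hκ', e, show (4 : F) = 2 * 2 by norm_num]
    exact mul_ne_zero (neg_ne_zero.2 O.h1.two) (mul_ne_zero (mul_ne_zero O.h1.two O.h1.two) hqq)
  obtain ⟨s, hs⟩ := scalar_of_not_ex O hex hv
    (T := (κ' • O.h1.lin (p : ι → F)).smulRight (p : ι → F)) ⟨k, hk, fun X => by
      rw [hkX, LinearMap.smulRight_apply, LinearMap.smul_apply, SForm.lin_apply, smul_eq_mul,
        smul_vecMulVec, ← vmv_smul, ← cw_cv O]
      congr 2
      generalize cw O (p : ι → F) X = u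
      have hSadd : ∀ (a b : κ → F) (t : F), S (a - t • b) = S a - t • S b := fun a b t => by
        simp only [hS, vmv_sub, vmv_smul, map_sub, map_smul, smul_sub, sub_vmv, smul_vecMulVec]
        module
      beta_reduce
      simp only [hSadd, O.h2.sub_left, O.h2.smul_left]
      rw [hκ']
      module⟩
  have hp0' : (p : ι → F) ≠ 0 := fun e => hp0 (Subtype.ext e)
  have h1 := hs p
  rw [LinearMap.smulRight_apply, LinearMap.smul_apply, SForm.lin_apply,
    show f1 (p : ι → F) p = 0 from hpp, smul_zero, zero_smul, eq_comm, smul_eq_zero] at h1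
  have h2 := hs p'
  rw [h1.resolve_right hp0', zero_smul, LinearMap.smulRight_apply, LinearMap.smul_apply,
    SForm.lin_apply, show f1 (p' : ι → F) p = 1 from hp', smul_eq_mul, mul_one, smul_eq_zero] at h2
  exact h2.elim hκ0 hp0'

end

end CfsgLib.MaxSub.TensorSympOrth
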