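import Mathlib.Data.ZMod.Basic
import Mathlib.Tactic

/-!
Orthogonal dimension four of minus type tensor a plane over the field of three elements: for every self-adjoint map
and every pulled back form of a member, a product of a reflection and an element of `SL₂` pairing the member with
its image with a hyperbolic kernel. Vectors are in the basis of norms `1, 1, 1, -1`.
-/

set_option autoImplicit false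

namespace CfsgLib.MaxSub.TensorSympOrth.F3

/-- Four coordinates. -/
abbrev V4 (R : Type*) := R × R × R × R

variable {R S : Type*} [CommRing R] [CommRing S]

/-- The componentwise image. -/
def m4 (φ : R →+* S) (c : V4 R) : V4 S := (φ c.1, φ c.2.1, φ c.2.2.1, φ c.2.2.2)

/-- The form of norms `1, 1, 1, -1`. -/
def form (a b : V4 R) : R := a.1 * b.1 + a.2.1 * b.2.1 + a.2.2.1 * b.2.2.1 - a.2.2.2 * b.2.2.2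

/-- The reflection in a vector of norm `±1`, or the identity for the zero vector. -/
def refl (w a : V4 R) : V4 R :=
  (a.1 + form w w * form a w * w.1, a.2.1 + form w w * form a w * w.2.1,
    a.2.2.1 + form w w * form a w * w.2.2.1, a.2.2.2 + form w w * form a w * w.2.2.2)

/-- The first component of a point of the member. -/
def compY (c : V4 R) : V4 R := (0, 0, c.2.2.1, c.2.2.2)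

/-- The second component of a point of the member. -/
def compV (m : R × R × R) (c : V4 R) : V4 R :=
  (c.1, c.2.1, m.1 * c.2.2.1 - m.2.1 * c.2.2.2, m.2.1 * c.2.2.1 + m.2.2 * c.2.2.2)

/-- A transvection along the second axis. -/
def tV (l : R) (x : R × R) : R × R := (x.1, x.2 + l * x.1)

/-- A transvection along the first axis. -/
def tY (l : R) (x : R × R) : R × R := (x.1 - l * x.2, x.2)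

/-- A product of four transvections. -/
def word (l : V4 R) (x : R × R) : R × R := tV l.1 (tY l.2.1 (tV l.2.2.1 (tY l.2.2.2 x)))

/-- The pairing of the image of a point with a point. -/
def pairing (m : R × R × R) (w l c d : V4 R) : R :=
  -(word l (1, 0)).2 * form (refl w (compY c)) (compY d) + (word l (1, 0)).1 * form (refl w (compY c)) (compV m d)
    - (word l (0, 1)).2 * form (refl w (compV m c)) (compY d)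
    + (word l (0, 1)).1 * form (refl w (compV m c)) (compV m d)

/-- The pulled back form of the member. -/
def pulled (g : R × R × R) (c d : V4 R) : R :=
  c.1 * d.1 + c.2.1 * d.2.1 + g.1 * c.2.2.1 * d.2.2.1 + g.2.1 * (c.2.2.1 * d.2.2.2 + c.2.2.2 * d.2.2.1) +
    g.2.2 * c.2.2.2 * d.2.2.2

theorem map_pairing (φ : R →+* S) (m : R × R × R) (w l c d : V4 R) :
    φ (pairing m w l c d) = pairing (φ m.1, φ m.2.1, φ m.2.2) (m4 φ w) (m4 φ l) (m4 φ c) (m4 φ d) := by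
  simp [pairing, form, refl, compY, compV, word, tV, tY, m4]

theorem map_pulled (φ : R →+* S) (g : R × R × R) (c d : V4 R) :
    φ (pulled g c d) = pulled (φ g.1, φ g.2.1, φ g.2.2) (m4 φ c) (m4 φ d) := by
  simp [pulled, m4]

/-- The basis. -/
def basis (R : Type*) [CommRing R] : List (V4 R) := [(1, 0, 0, 0), (0, 1, 0, 0), (0, 0, 1, 0), (0, 0, 0, 1)]

/-- A witness. -/
structure Row where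
  m : ZMod 3 × ZMod 3 × ZMod 3
  w : V4 (ZMod 3)
  l : V4 (ZMod 3)
  c : V4 (ZMod 3)
  d : V4 (ZMod 3)
deriving DecidableEq

/-- The witnesses. -/
def table : List Row := [
  ⟨(0,0,0), (0,0,0,1), (0,0,0,1), (0,0,0,1), (0,0,1,0)⟩,
  ⟨(0,0,0), (0,0,0,1), (0,0,0,1), (0,0,1,1), (0,0,0,1)⟩,
  ⟨(0,0,0), (0,0,0,1), (0,0,0,1), (0,0,1,0), (0,0,0,1)⟩,
  ⟨(0,0,1), (1,1,0,1), (0,0,0,2), (0,0,0,1), (0,0,1,0)⟩,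
  ⟨(0,0,1), (1,1,0,1), (0,0,0,2), (0,0,1,1), (0,0,0,1)⟩,
  ⟨(0,0,1), (1,1,0,1), (0,0,0,2), (0,0,1,0), (0,0,0,1)⟩,
  ⟨(0,0,2), (1,1,0,1), (0,0,0,1), (0,0,0,1), (0,0,1,0)⟩,
  ⟨(0,0,2), (1,1,0,1), (0,0,0,1), (0,0,1,1), (0,0,0,1)⟩,
  ⟨(0,0,2), (1,1,0,1), (0,0,0,1), (0,0,1,0), (0,0,0,1)⟩,
  ⟨(0,1,0), (0,0,0,1), (0,0,1,2), (0,0,0,1), (0,0,1,0)⟩,
  ⟨(0,1,0), (0,0,0,1), (0,0,1,2), (0,0,1,1), (0,0,0,1)⟩,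
  ⟨(0,1,0), (0,0,0,1), (0,0,1,2), (0,0,1,0), (0,0,0,1)⟩,
  ⟨(0,1,1), (0,1,0,0), (0,0,1,1), (0,0,0,1), (0,0,1,0)⟩,
  ⟨(0,1,1), (0,1,0,0), (0,0,1,1), (0,0,1,1), (0,0,0,1)⟩,
  ⟨(0,1,1), (0,1,0,0), (0,0,1,1), (0,0,1,0), (0,0,0,1)⟩,
  ⟨(0,1,2), (0,1,0,0), (0,0,2,2), (0,0,0,1), (0,0,1,0)⟩,
  ⟨(0,1,2), (0,1,0,0), (0,0,2,2), (0,0,1,1), (0,0,0,1)⟩,
  ⟨(0,1,2), (0,1,0,0), (0,0,2,2), (0,0,1,0), (0,0,0,1)⟩,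
  ⟨(0,2,0), (0,0,0,1), (0,0,1,2), (0,0,0,1), (0,0,1,0)⟩,
  ⟨(0,2,0), (0,0,0,1), (0,0,1,2), (0,0,1,1), (0,0,0,1)⟩,
  ⟨(0,2,0), (0,0,0,1), (0,0,1,2), (0,0,1,0), (0,0,0,1)⟩,
  ⟨(0,2,1), (0,1,0,0), (0,0,1,1), (0,0,0,1), (0,0,1,0)⟩,
  ⟨(0,2,1), (0,1,0,0), (0,0,1,1), (0,0,1,1), (0,0,0,1)⟩,
  ⟨(0,2,1), (0,1,0,0), (0,0,1,1), (0,0,1,0), (0,0,0,1)⟩,
  ⟨(0,2,2), (0,1,0,0), (0,0,2,2), (0,0,0,1), (0,0,1,0)⟩,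
  ⟨(0,2,2), (0,1,0,0), (0,0,2,2), (0,0,1,1), (0,0,0,1)⟩,
  ⟨(0,2,2), (0,1,0,0), (0,0,2,2), (0,0,1,0), (0,0,0,1)⟩,
  ⟨(1,0,0), (0,1,1,0), (0,0,0,2), (0,0,0,1), (0,0,1,0)⟩,
  ⟨(1,0,0), (0,1,1,0), (0,0,0,2), (0,0,1,1), (0,0,0,1)⟩,
  ⟨(1,0,0), (0,1,1,0), (0,0,0,2), (0,0,1,0), (0,0,0,1)⟩,
  ⟨(1,0,1), (0,0,0,1), (0,0,2,2), (0,0,0,1), (0,0,1,0)⟩,
  ⟨(1,0,1), (0,0,0,1), (0,0,2,2), (0,0,1,1), (0,0,0,1)⟩,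
  ⟨(1,0,1), (0,0,0,1), (0,0,2,2), (0,0,1,0), (0,0,0,1)⟩,
  ⟨(1,0,2), (0,1,1,0), (0,2,2,0), (0,0,0,1), (0,0,1,0)⟩,
  ⟨(1,0,2), (0,1,1,0), (0,2,2,0), (0,0,1,1), (0,0,0,1)⟩,
  ⟨(1,0,2), (0,1,1,0), (0,2,2,0), (0,0,1,0), (0,0,0,1)⟩,
  ⟨(1,1,0), (0,1,0,0), (0,0,1,1), (0,0,0,1), (0,0,1,0)⟩,
  ⟨(1,1,0), (0,1,0,0), (0,0,1,1), (0,0,1,1), (0,0,0,1)⟩,
  ⟨(1,1,0), (0,1,0,0), (0,0,1,1), (0,0,1,0), (0,0,0,1)⟩,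
  ⟨(1,1,1), (0,0,0,1), (0,0,1,2), (0,0,0,1), (0,0,1,0)⟩,
  ⟨(1,1,1), (0,0,0,1), (0,0,1,2), (0,0,1,1), (0,0,0,1)⟩,
  ⟨(1,1,1), (0,0,0,1), (0,0,1,2), (0,0,1,0), (0,0,0,1)⟩,
  ⟨(1,1,2), (0,1,0,0), (0,0,0,1), (0,0,0,1), (0,0,1,0)⟩,
  ⟨(1,1,2), (0,1,0,0), (0,0,0,1), (0,0,1,1), (0,0,0,1)⟩,
  ⟨(1,1,2), (0,1,0,0), (0,0,0,1), (0,0,1,0), (0,0,0,1)⟩,
  ⟨(1,2,0), (0,1,0,0), (0,0,1,1), (0,0,0,1), (0,0,1,0)⟩,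
  ⟨(1,2,0), (0,1,0,0), (0,0,1,1), (0,0,1,1), (0,0,0,1)⟩,
  ⟨(1,2,0), (0,1,0,0), (0,0,1,1), (0,0,1,0), (0,0,0,1)⟩,
  ⟨(1,2,1), (0,0,0,1), (0,0,1,2), (0,0,0,1), (0,0,1,0)⟩,
  ⟨(1,2,1), (0,0,0,1), (0,0,1,2), (0,0,1,1), (0,0,0,1)⟩,
  ⟨(1,2,1), (0,0,0,1), (0,0,1,2), (0,0,1,0), (0,0,0,1)⟩,
  ⟨(1,2,2), (0,1,0,0), (0,0,0,1), (0,0,0,1), (0,0,1,0)⟩,
  ⟨(1,2,2), (0,1,0,0), (0,0,0,1), (0,0,1,1), (0,0,0,1)⟩,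
  ⟨(1,2,2), (0,1,0,0), (0,0,0,1), (0,0,1,0), (0,0,0,1)⟩,
  ⟨(2,0,0), (0,1,1,0), (0,0,0,1), (0,0,0,1), (0,0,1,0)⟩,
  ⟨(2,0,0), (0,1,1,0), (0,0,0,1), (0,0,1,1), (0,0,0,1)⟩,
  ⟨(2,0,0), (0,1,1,0), (0,0,0,1), (0,0,1,0), (0,0,0,1)⟩,
  ⟨(2,0,1), (0,1,1,0), (0,1,1,0), (0,0,0,1), (0,0,1,0)⟩,
  ⟨(2,0,1), (0,1,1,0), (0,1,1,0), (0,0,1,1), (0,0,0,1)⟩,
  ⟨(2,0,1), (0,1,1,0), (0,1,1,0), (0,0,1,0), (0,0,0,1)⟩,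
  ⟨(2,0,2), (0,0,0,1), (0,0,1,1), (0,0,0,1), (0,0,1,0)⟩,
  ⟨(2,0,2), (0,0,0,1), (0,0,1,1), (0,0,1,1), (0,0,0,1)⟩,
  ⟨(2,0,2), (0,0,0,1), (0,0,1,1), (0,0,1,0), (0,0,0,1)⟩,
  ⟨(2,1,0), (0,1,0,0), (0,0,2,2), (0,0,0,1), (0,0,1,0)⟩,
  ⟨(2,1,0), (0,1,0,0), (0,0,2,2), (0,0,1,1), (0,0,0,1)⟩,
  ⟨(2,1,0), (0,1,0,0), (0,0,2,2), (0,0,1,0), (0,0,0,1)⟩,
  ⟨(2,1,1), (0,1,0,0), (0,0,0,1), (0,0,0,1), (0,0,1,0)⟩,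
  ⟨(2,1,1), (0,1,0,0), (0,0,0,1), (0,0,1,1), (0,0,0,1)⟩,
  ⟨(2,1,1), (0,1,0,0), (0,0,0,1), (0,0,1,0), (0,0,0,1)⟩,
  ⟨(2,1,2), (0,0,0,1), (0,0,2,1), (0,0,0,1), (0,0,1,0)⟩,
  ⟨(2,1,2), (0,0,0,1), (0,0,2,1), (0,0,1,1), (0,0,0,1)⟩,
  ⟨(2,1,2), (0,0,0,1), (0,0,2,1), (0,0,1,0), (0,0,0,1)⟩,
  ⟨(2,2,0), (0,1,0,0), (0,0,2,2), (0,0,0,1), (0,0,1,0)⟩,
  ⟨(2,2,0), (0,1,0,0), (0,0,2,2), (0,0,1,1), (0,0,0,1)⟩,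
  ⟨(2,2,0), (0,1,0,0), (0,0,2,2), (0,0,1,0), (0,0,0,1)⟩,
  ⟨(2,2,1), (0,1,0,0), (0,0,0,1), (0,0,0,1), (0,0,1,0)⟩,
  ⟨(2,2,1), (0,1,0,0), (0,0,0,1), (0,0,1,1), (0,0,0,1)⟩,
  ⟨(2,2,1), (0,1,0,0), (0,0,0,1), (0,0,1,0), (0,0,0,1)⟩,
  ⟨(2,2,2), (0,0,0,1), (0,0,2,1), (0,0,0,1), (0,0,1,0)⟩,
  ⟨(2,2,2), (0,0,0,1), (0,0,2,1), (0,0,1,1), (0,0,0,1)⟩,
  ⟨(2,2,2), (0,0,0,1), (0,0,2,1), (0,0,1,0), (0,0,0,1)⟩]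

theorem table_refl : ∀ r ∈ table, r.w = 0 ∨ form r.w r.w ≠ 0 := by decide +kernel

theorem table_kernel : ∀ r ∈ table, ∀ e ∈ basis (ZMod 3),
    pairing r.m r.w r.l e r.c = 0 ∧ pairing r.m r.w r.l e r.d = 0 := by
  decide +kernel

theorem table_moves : ∀ r ∈ table,
    ∃ a ∈ basis (ZMod 3), ∃ b ∈ basis (ZMod 3), pairing r.m r.w r.l a b ≠ 0 := by
  decide +kernel

theorem table_cover : ∀ m g : ZMod 3 × ZMod 3 × ZMod 3, g.1 * g.2.2 - g.2.1 * g.2.1 = 2 →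
    ∃ r ∈ table, r.m = m ∧ pulled g r.c r.c = 0 ∧ pulled g r.c r.d ≠ 0 := by
  decide +kernel

end CfsgLib.MaxSub.TensorSympOrth.F3
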