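/-
Pairing rank two for a symplectic plane and an orthogonal space of dimension four without isotropic planes: an
element moving the member to one whose image has a singular vector in its perpendicular.
-/
import Cfsg.Agent.Lib.MaxSub.TensorSympOrth.Four
import Cfsg.Agent.Lib.MaxSub.TensorSympOrth.FourData

set_option autoImplicit false
set_option maxHeartbeats 800000
set_option linter.unusedSectionVars false

namespace CfsgLib.MaxSub.TensorSympOrth

open Matrix Module
open CfsgLib.MaxSub.TensorSymp (AForm)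
open CfsgLib.MaxSub.TensorLin (Col colMap colMap_apply mem_col finrank_col colMap_injective vmv_eq_zero
  vmv_zero NP map_map_inv)

variable {F : Type*} [Field F] {ι κ : Type} [Fintype ι] [Fintype κ] [DecidableEq ι] [DecidableEq κ]
variable {f1 : (ι → F) → (ι → F) → F} {f2 : (κ → F) → (κ → F) → F}
  {f : Matrix ι κ F → Matrix ι κ F → F} {G : Subgroup (Matrix ι κ F ≃ₗ[F] Matrix ι κ F)}

local notation "MV" => Matrix ι κ F

section

variable (O : SO f1 f2 f G)
include O

/-- A moved member whose pairing kernel is a hyperbolic line. -/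
theorem four_kernel [Finite F] (hex : ¬ Ex O) (hκ : Fintype.card κ = 2) (hι : Fintype.card ι = 4)
    (hnop : NoPlane f1) (hmin : MinRank O 2) {v : κ → F} (hv : v ≠ 0) {u₀ h : MV ≃ₗ[F] MV}
    (hu₀ : u₀ ∈ G) (hh : h ∈ G) {c₁ c₂ : ι → F} (h11 : f1 c₁ c₁ = 0) (h12 : f1 c₁ c₂ ≠ 0)
    (hk₁ : ∀ a, f (h (u₀ (vecMulVec a v))) (u₀ (vecMulVec c₁ v)) = 0)
    (hk₂ : ∀ a, f (h (u₀ (vecMulVec a v))) (u₀ (vecMulVec c₂ v)) = 0)
    (hne : ∃ a b, f (h (u₀ (vecMulVec a v))) (u₀ (vecMulVec b v)) ≠ 0) : False := by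
  set M := (Col (ι := ι) v).map u₀.toLinearMap with hMdef
  have hM : Mem G M := ⟨u₀, hu₀, v, hv, rfl⟩
  set L := (M.map h.toLinearMap).map (u₀⁻¹ : MV ≃ₗ[F] MV).toLinearMap with hL
  have hLm : Mem G L := mem_map O (mem_map O hM hh) (inv_mem hu₀)
  have horth : ∀ c, (∀ a, f (h (u₀ (vecMulVec a v))) (u₀ (vecMulVec c v)) = 0) →
      ∀ e ∈ L.map (cv O v), f1 c e = 0 := by
    rintro c hc _ ⟨_, ⟨_, ⟨_, ⟨_, ⟨a, rfl⟩, rfl⟩, rfl⟩, rfl⟩, rfl⟩
    rw [O.h1.symm, ← f_cv O]
    show f (u₀.symm (h (u₀ (vecMulVec a v)))) _ = 0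
    rw [isom_symm O hu₀]
    exact hc a
  have hc₁ := horth c₁ hk₁
  have hc₂ := horth c₂ hk₂
  have hc12 : LinearIndependent F ![c₁, c₂] := LinearIndependent.pair_iff.2 fun s t e => by
    have e1 := congrArg (fun u => f1 u c₁) e
    simp only [O.h1.add_left, O.h1.smul_left, h11, O.h1.symm c₁ c₂, O.h1.zero_left, mul_zero,
      zero_add] at e1
    have ht : t = 0 := (mul_eq_zero.1 e1).resolve_right h12
    have e2 := congrArg (fun u => f1 u c₂) e
    simp only [O.h1.add_left, O.h1.smul_left, ht, zero_mul, add_zero, O.h1.zero_left] at e2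
    exact ⟨(mul_eq_zero.1 e2).resolve_right h12, ht⟩
  set W := Submodule.span F (Set.range ![c₁, c₂]) with hW
  have hWdim : finrank F W = 2 := finrank_span_eq_card hc12
  obtain ⟨Q, hQ, -⟩ := O.h1.exists_perp_sub W
  have hQdim := O.h1.finrank_perp hQ
  rw [finrank_ι O, hWdim, hι] at hQdim
  have hle : L.map (cv O v) ≤ Q := fun e he => (hQ e).2 fun w hw => O.h1.symm0 (by
    have : W ≤ LinearMap.ker (O.h1.lin e) := Submodule.span_le.2 (by
      rintro _ ⟨i, rfl⟩
      fin_cases i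
      · exact hc₁ e he
      · exact hc₂ e he)
    exact this hw)
  have hr2 : rank O L v ≤ 2 := (Submodule.finrank_mono hle).trans (by omega)
  have hnpL : NP L := fun x hx => by
    obtain ⟨a, b, hab⟩ := hne
    exact hab (pure_move O hM hu₀ hMdef hh hx (hι ▸ lt_of_le_of_lt hr2 (by norm_num)) _
      (Submodule.mem_map_of_mem (mem_col.2 ⟨a, rfl⟩)) _ (Submodule.mem_map_of_mem (mem_col.2 ⟨b, rfl⟩)))
  have hr : rank O L v = 2 := le_antisymm hr2 (Nat.le_of_not_lt (hmin L hLm hnpL v hv))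
  have heq : L.map (cv O v) = Q := Submodule.eq_of_le_of_finrank_eq hle (by
    show rank O L v = _
    omega)
  obtain ⟨A, hA⟩ := exists_tr_one O hLm
  obtain ⟨-, M', hM', hnp', hmap', hperf', -, y, hy, hMy, hfix⟩ :=
    side O hex hmin two_pos (by omega) hLm hnpL hv hr hA (not_stab_four O hex hκ hι hnop hLm hnpL hv hA)
  rw [← hmap'] at hperf' hfix heq hc₁
  have hnd : ∀ x ∈ M'.map (cv O v), (∀ y ∈ M'.map (cv O v), f1 x y = 0) → x = 0 := by
    intro x hx hx0
    obtain ⟨Z, hZ, -⟩ := O.h1.exists_perp_sub Q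
    have hZdim := O.h1.finrank_perp hZ
    rw [finrank_ι O, hι] at hZdim
    have hZW : W = Z := Submodule.eq_of_le_of_finrank_eq
      (fun w hw => (hZ w).2 fun q hq => O.h1.symm0 ((hQ q).1 hq w hw)) (by omega)
    have hxW : x ∈ W := hZW.symm ▸ (hZ x).2 (heq ▸ hx0)
    rw [hW, Matrix.range_cons, Matrix.range_cons, Matrix.range_empty, Set.union_empty,
      Set.singleton_union] at hxW
    obtain ⟨s, t, rfl⟩ := Submodule.mem_span_pair.1 hxW
    have h1 := (hQ _).1 (heq ▸ hx) c₁ (Submodule.subset_span ⟨0, rfl⟩)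
    have h2 := (hQ _).1 (heq ▸ hx) c₂ (Submodule.subset_span ⟨1, rfl⟩)
    simp only [O.h1.add_left, O.h1.smul_left, h11, O.h1.symm c₁ c₂, mul_zero, zero_add] at h1
    have ht : t = 0 := (mul_eq_zero.1 h1).resolve_right h12
    simp only [O.h1.add_left, O.h1.smul_left, ht, zero_mul, add_zero] at h2
    rw [(mul_eq_zero.1 h2).resolve_right h12, ht, zero_smul, zero_smul, add_zero]
  obtain ⟨y₁, hy₁⟩ := O.h2.exists_left hv
  have hr' : rank O M' v = 2 := by rw [rank, hmap']; exact hr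
  have hp := (four_core O hex hκ hι hnop hmin hM' hnp' hv hr' hnd hperf' hy hMy hfix hy₁).2 c₁ hc₁ h11
  exact h12 (by rw [hp, O.h1.zero_left])

/-- Pairing rank two. -/
theorem four_false [Finite F] (hex : ¬ Ex O) (hκ : Fintype.card κ = 2) (hι : Fintype.card ι = 4)
    (hnop : NoPlane f1) (hmin : MinRank O 2) {M : Submodule F MV} (hM : Mem G M) (hnp : NP M)
    {v : κ → F} (hv : v ≠ 0) (hr : rank O M v = 2)
    (hRnd : ∀ x ∈ M.map (cv O v), (∀ y ∈ M.map (cv O v), f1 x y = 0) → x = 0)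
    (hperf : ∀ X ∈ M, cv O v X = 0 → ∃ c, (∀ e ∈ M.map (cv O v), f1 c e = 0) ∧ X = vecMulVec c v)
    {u₀ : MV ≃ₗ[F] MV} (hu₀ : u₀ ∈ G) (hMu : M = (Col v).map u₀.toLinearMap)
    (hfix : ∀ c, (∀ e ∈ M.map (cv O v), f1 c e = 0) → u₀ (vecMulVec c v) = vecMulVec c v) :
    False := by
  classical
  haveI := Fintype.ofFinite F
  obtain ⟨y₀, hy₀⟩ := O.h2.exists_left hv
  obtain ⟨hmix, hpa⟩ := four_core O hex hκ hι hnop hmin hM hnp hv hr hRnd hperf hu₀ hMu hfix hy₀
  set RR := M.map (cv O v) with hRR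
  obtain ⟨P, hP, -⟩ := O.h1.exists_perp_sub RR
  have hR2 : finrank F RR = 2 := hr
  have hPdim := O.h1.finrank_perp hP
  rw [finrank_ι O, hR2, hι] at hPdim
  obtain ⟨π, hπR, hπP, hπ0, hπid⟩ := O.h1.exists_proj hRnd
  have hQ : ∀ c, c - π c ∈ P := fun c => (hP _).2 (hπP c)
  have haniso : ∀ a ∈ P, a ≠ 0 → f1 a a ≠ 0 := fun a ha ha0 h => ha0 (hpa a ((hP a).1 ha) h)
  let θ : (ι → F) →ₗ[F] (ι → F) := cv O v ∘ₗ u₀.toLinearMap ∘ₗ colMap v
  let ρ : (ι → F) →ₗ[F] (ι → F) := -(cv O y₀ ∘ₗ u₀.toLinearMap ∘ₗ colMap v)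
  have hu : ∀ a, u₀ (vecMulVec a v) = vecMulVec (θ a) y₀ + vecMulVec (ρ a) v := fun a => by
    conv_lhs => rw [dec_two O hκ hy₀ (u₀ (vecMulVec a v))]
    show _ = _ + vecMulVec (-(cv O y₀ (u₀ (vecMulVec a v)))) v
    rw [neg_vmv, ← sub_eq_add_neg]
    rfl
  have hθP : ∀ p ∈ P, θ p = 0 := fun p hp => by
    show cv O v (u₀ (vecMulVec p v)) = 0
    rw [hfix p ((hP p).1 hp), cv_pure, O.h2.self, zero_smul]
  have hρP : ∀ p ∈ P, ρ p = p := fun p hp => by
    show -(cv O y₀ (u₀ (vecMulVec p v))) = p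
    rw [hfix p ((hP p).1 hp), cv_pure, O.h2.swap, hy₀, neg_one_smul, neg_neg]
  have hθR : ∀ a, θ a ∈ RR := fun a => Submodule.mem_map_of_mem
    (hMu ▸ Submodule.mem_map_of_mem (mem_col.2 ⟨a, rfl⟩))
  have hθonto : ∀ e ∈ RR, ∃ b ∈ RR, θ b = e := by
    rintro _ ⟨X, hX, rfl⟩
    rw [hMu] at hX
    obtain ⟨_, ⟨a, rfl⟩, rfl⟩ := hX
    refine ⟨π a, hπR a, ?_⟩
    rw [← sub_sub_cancel a (π a), map_sub, hθP _ (hQ a), sub_zero]
    rfl
  have hρR : ∀ b ∈ RR, ρ b ∈ RR := fun b hb => by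
    have h0 : ∀ n, (∀ e ∈ RR, f1 n e = 0) → f1 (ρ b) n = 0 := fun n hn => by
      show f1 (-(cv O y₀ (u₀ (vecMulVec b v)))) n = 0
      rw [O.h1.neg_left, hmix n b hn hb, neg_zero]
    have h1 : f1 (ρ b - π (ρ b)) (ρ b - π (ρ b)) = 0 := by
      rw [O.h1.sub_left, h0 _ (hπP _), O.h1.symm0 (hπP _ _ (hπR _)), sub_zero]
    rw [sub_eq_zero.1 (hpa _ (hπP _) h1)]
    exact hπR _
  have hrel : ∀ a b, f1 (θ a) (ρ b) = f1 (ρ a) (θ b) := fun a b => by
    have h0 : f (u₀ (vecMulVec a v)) (u₀ (vecMulVec b v)) = 0 := by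
      rw [O.isom u₀ hu₀, O.f_pure, O.h2.self, mul_zero]
    rw [hu, hu] at h0
    simp only [O.h.add_left, O.h.add_right, O.f_pure, O.h2.self, hy₀, O.h2.swap y₀ v] at h0
    linear_combination h0
  by_cases hq : 5 ≤ Fintype.card F
  · -- a reflection
    obtain ⟨a, haP, ha0, b, hbR, hab⟩ : ∃ a ∈ P, a ≠ 0 ∧ ∃ b ∈ RR, f1 b b = -f1 a a := by
      obtain ⟨a, haP, ha0⟩ := (Submodule.ne_bot_iff P).1 fun e => by
        rw [e, finrank_bot] at hPdim
        omega
      have haR : ∀ e ∈ RR, f1 a e = 0 := (hP a).1 haP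
      have hqa := haniso a haP ha0
      have hdisj : ∀ (s : F) (r : ι → F), r ∈ RR → s • a + r = 0 → s = 0 := fun s r hr' e => by
        have := congrArg (fun u => f1 u a) e
        simp only [O.h1.add_left, O.h1.smul_left, O.h1.symm0 (haR r hr'), O.h1.zero_left, add_zero] at this
        exact (mul_eq_zero.1 this).resolve_right hqa
      have hmem : ∀ x ∈ (F ∙ a) ⊔ RR, ∃ s : F, ∃ r ∈ RR, x = s • a + r := fun x hx => by
        obtain ⟨_, hs, r, hr', rfl⟩ := Submodule.mem_sup.1 hx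
        obtain ⟨s, rfl⟩ := Submodule.mem_span_singleton.1 hs
        exact ⟨s, r, hr', rfl⟩
      have HW : SForm (fun x y : ((F ∙ a) ⊔ RR : Submodule F (ι → F)) => f1 (x : ι → F) (y : ι → F)) := by
        refine O.h1.restrict fun x hx h0 => ?_
        obtain ⟨s, r, hr', rfl⟩ := hmem x hx
        have h1 := h0 a (Submodule.mem_sup_left (Submodule.mem_span_singleton_self a))
        simp only [O.h1.add_left, O.h1.smul_left, O.h1.symm0 (haR r hr'), add_zero] at h1
        have hs : s = 0 := (mul_eq_zero.1 h1).resolve_right hqa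
        subst hs
        rw [zero_smul, zero_add]
        exact hRnd r hr' fun e he => by
          simpa [O.h1.zero_left, O.h1.add_left] using h0 e (Submodule.mem_sup_right he)
      have hW3 : 3 ≤ finrank F ((F ∙ a) ⊔ RR : Submodule F (ι → F)) := by
        have h1 := Submodule.finrank_sup_add_finrank_inf_eq (F ∙ a) RR
        have h2 : (F ∙ a) ⊓ RR = ⊥ := (Submodule.eq_bot_iff _).2 fun x ⟨hx, hxR⟩ => by
          obtain ⟨s, rfl⟩ := Submodule.mem_span_singleton.1 hx
          rw [hdisj s _ (RR.neg_mem hxR) (add_neg_cancel _), zero_smul]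
        rw [h2, finrank_bot, finrank_span_singleton ha0] at h1
        omega
      obtain ⟨⟨u, huW⟩, hu0, huu⟩ := HW.exists_iso hW3
      replace hu0 : u ≠ 0 := fun e => hu0 (Subtype.ext e)
      replace huu : f1 u u = 0 := huu
      obtain ⟨s, r, hr', rfl⟩ := hmem u huW
      simp only [O.h1.add_left, O.h1.add_right, O.h1.smul_left, O.h1.smul_right, haR r hr',
        O.h1.symm0 (haR r hr')] at huu
      refine ⟨a, haP, ha0, ?_⟩
      by_cases hs : s = 0
      · subst hs
        rw [zero_smul, zero_add] at hu0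
        have hrr : f1 r r = 0 := by linear_combination huu
        obtain ⟨r', hr'R, hr'⟩ : ∃ r' ∈ RR, f1 r r' ≠ 0 := by
          by_contra hc
          push Not at hc
          exact hu0 (hRnd r ‹r ∈ RR› hc)
        refine ⟨r' + ((-f1 a a - f1 r' r') / (2 * f1 r r')) • r,
          RR.add_mem hr'R (RR.smul_mem _ ‹r ∈ RR›), ?_⟩
        simp only [O.h1.add_left, O.h1.add_right, O.h1.smul_left, O.h1.smul_right, hrr, O.h1.symm r r']
        have h2 := O.h1.two
        field_simp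
        ring
      · refine ⟨s⁻¹ • r, RR.smul_mem _ hr', ?_⟩
        simp only [O.h1.smul_left, O.h1.smul_right]
        field_simp
        linear_combination huu
    have hqa := haniso a haP ha0
    obtain ⟨wR, hwR, hwR0, hwb⟩ : ∃ w ∈ RR, w ≠ 0 ∧ f1 w (θ b) = 0 := by
      obtain ⟨Z, hZ, hZdim⟩ := O.h1.exists_perp_sub (F ∙ θ b)
      rw [finrank_ι O, hι] at hZdim
      have h1 := Submodule.finrank_sup_add_finrank_inf_eq RR Z
      have h2 := Submodule.finrank_le (RR ⊔ Z)
      have h3 : finrank F (F ∙ θ b) ≤ 1 := (finrank_span_le_card _).trans (by simp)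
      rw [finrank_ι O, hι] at h2
      obtain ⟨w, hw, hw0⟩ := (Submodule.ne_bot_iff (RR ⊓ Z)).1 fun e => by
        rw [e, finrank_bot] at h1
        omega
      exact ⟨w, hw.1, hw0, (hZ w).1 hw.2 _ (Submodule.mem_span_singleton_self _)⟩
    obtain ⟨n, hnP, hn0, hna⟩ : ∃ n ∈ P, n ≠ 0 ∧ f1 n a = 0 := by
      obtain ⟨Z, hZ, hZdim⟩ := O.h1.exists_perp_sub (F ∙ a)
      rw [finrank_ι O, hι, finrank_span_singleton ha0] at hZdim
      have h1 := Submodule.finrank_sup_add_finrank_inf_eq P Z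
      have h2 := Submodule.finrank_le (P ⊔ Z)
      rw [finrank_ι O, hι] at h2
      obtain ⟨w, hw, hw0⟩ := (Submodule.ne_bot_iff (P ⊓ Z)).1 fun e => by
        rw [e, finrank_bot] at h1
        omega
      exact ⟨w, hw.1, hw0, (hZ w).1 hw.2 _ (Submodule.mem_span_singleton_self _)⟩
    have hqn := haniso n hnP hn0
    set t := f1 (ρ b) wR with ht
    have hPR : ∀ p ∈ P, ∀ e ∈ RR, f1 p e = 0 := fun p hp => (hP p).1 hp
    set w : F → ι → F := fun s => (-t / f1 a a) • a + s • n + wR with hw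
    have hwp : ∀ (s : F) (p : ι → F), p ∈ P →
        f1 p (w s) = -t / f1 a a * f1 p a + s * f1 p n := fun s p hp => by
      simp only [hw, O.h1.add_right, O.h1.smul_right, hPR p hp wR hwR, add_zero]
    have hwr : ∀ (s : F) (e : ι → F), e ∈ RR → f1 e (w s) = f1 e wR := fun s e he => by
      simp only [hw, O.h1.add_right, O.h1.smul_right, O.h1.symm0 (hPR a haP e he),
        O.h1.symm0 (hPR n hnP e he), mul_zero, zero_add]
    obtain ⟨s, hs0, hws⟩ : ∃ s : F, s ≠ 0 ∧ f1 (w s) (w s) ≠ 0 := by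
      have hq' : ∀ s, f1 (w s) (w s) = t ^ 2 / f1 a a + s ^ 2 * f1 n n + f1 wR wR := fun s => by
        simp only [hw, O.h1.add_left, O.h1.add_right, O.h1.smul_left, O.h1.smul_right, hna,
          O.h1.symm0 hna, hPR a haP wR hwR, hPR n hnP wR hwR, O.h1.symm0 (hPR a haP wR hwR),
          O.h1.symm0 (hPR n hnP wR hwR)]
        field_simp
        ring
      obtain ⟨s, hs⟩ : ∃ s : F, s ∉ ({0, 1, -1} : Finset F) := by
        by_contra hall
        push Not at hall
        have := Finset.card_le_three (a := (0 : F)) (b := 1) (c := -1)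
        have h5 : Fintype.card F ≤ ({0, 1, -1} : Finset F).card := by
          rw [← Finset.card_univ]
          exact Finset.card_le_card fun x _ => hall x
        omega
      simp only [Finset.mem_insert, Finset.mem_singleton, not_or] at hs
      by_contra hc
      push Not at hc
      have h1 := hc s hs.1
      have h2 := hc 1 one_ne_zero
      rw [hq'] at h1 h2
      exact mul_ne_zero (mul_ne_zero (sub_ne_zero.2 hs.2.1) (sub_ne_zero.2 hs.2.2)) hqn
        (show (s - 1) * (s - -1) * f1 n n = 0 by linear_combination h1 - h2)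
    obtain ⟨R, hR, hRc, -⟩ := rf O hws
    have hB : ∀ x d, f (R (u₀ (vecMulVec x v))) (u₀ (vecMulVec d v)) = -(2 / f1 (w s) (w s)) *
        (f1 (θ x) (w s) * f1 (ρ d) (w s) - f1 (ρ x) (w s) * f1 (θ d) (w s)) := fun x d => by
      rw [hu, hu, map_add, hRc, hRc]
      simp only [O.h.add_left, O.h.add_right, O.f_pure, O.h2.self, hy₀, O.h2.swap y₀ v,
        O.h1.refl_apply, O.h1.sub_left, O.h1.smul_left, O.h1.symm (ρ d) (w s), O.h1.symm (θ d) (w s)]
      linear_combination hrel x d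
    have hna' : f1 a n = 0 := O.h1.symm0 hna
    refine four_kernel O hex hκ hι hnop hmin hv hu₀ hR (c₁ := a + b)
      (c₂ := (s * f1 n n) • a + t • n) ?_ ?_ (fun x => ?_) (fun x => ?_) ?_
    · simp only [O.h1.add_left, O.h1.add_right, hPR a haP b hbR, O.h1.symm0 (hPR a haP b hbR), hab]
      ring
    · simp only [O.h1.add_left, O.h1.add_right, O.h1.smul_right, O.h1.symm0 (hPR a haP b hbR),
        O.h1.symm0 (hPR n hnP b hbR), hna', mul_zero, add_zero]
      exact mul_ne_zero (mul_ne_zero hs0 hqn) hqa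
    · rw [hB, map_add, map_add, hθP a haP, hρP a haP, zero_add, hwr s _ (hθR b), O.h1.symm0 hwb,
        O.h1.add_left a (ρ b) (w s), hwp s a haP, hwr s _ (hρR b hbR), hna', ← ht]
      field_simp
      ring
    · have hc2 : (s * f1 n n) • a + t • n ∈ P := P.add_mem (P.smul_mem _ haP) (P.smul_mem _ hnP)
      rw [hB, hθP _ hc2, hρP _ hc2, O.h1.zero_left, O.h1.add_left ((s * f1 n n) • a) (t • n) (w s),
        O.h1.smul_left _ a (w s), O.h1.smul_left _ n (w s),
        hwp s a haP, hwp s n hnP, hna, hna']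
      field_simp
      ring
    · obtain ⟨r, hrR, hrw⟩ : ∃ r ∈ RR, f1 r wR ≠ 0 := by
        by_contra hc
        push Not at hc
        exact hwR0 (hRnd wR hwR fun e he => O.h1.symm0 (hc e he))
      obtain ⟨x, -, hx⟩ := hθonto r hrR
      refine ⟨x, n, ?_⟩
      rw [hB, hx, hθP n hnP, hρP n hnP, O.h1.zero_left, mul_zero, sub_zero, hwr s r hrR, hwp s n hnP,
        hna, mul_zero, zero_add]
      exact mul_ne_zero (neg_ne_zero.2 (div_ne_zero O.h1.two hws)) (mul_ne_zero hrw (mul_ne_zero hs0 hqn))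
  · -- three elements
    have hF : Fintype.card F = 3 := by
      have h1 := Fintype.one_lt_card (α := F)
      have h2 : Fintype.card F ≠ 2 := fun h => O.h1.two (by
        have e := FiniteField.cast_card_eq_zero F
        rwa [h] at e)
      have h4 : Fintype.card F ≠ 4 := fun h => O.h1.two (by
        have e := FiniteField.cast_card_eq_zero F
        rw [h] at e
        push_cast at e
        exact (mul_eq_zero.1 (show (2 : F) * 2 = 0 by linear_combination e)).elim id id)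
      omega
    let φ : ZMod 3 →+* F := (ZMod.ringEquivOfPrime F (by norm_num) hF).toRingHom
    have h3 : (3 : F) = 0 := by
      have e := FiniteField.cast_card_eq_zero F
      rwa [hF] at e
    have hsq : ∀ x : F, x ≠ 0 → x * x = 1 := fun x hx => by
      have e := FiniteField.pow_card_sub_one_eq_one x hx
      rw [hF] at e
      rw [← e]
      exact (sq x).symm
    have hpm : ∀ x y : F, x ≠ 0 → y ≠ 0 → y = x ∨ y = -x := fun x y hx hy =>
      mul_self_eq_mul_self_iff.1 ((hsq y hy).trans (hsq x hx).symm)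
    have hpair : ∀ S : Submodule F (ι → F), finrank F S = 2 →
        (∀ x ∈ S, (∀ y ∈ S, f1 x y = 0) → x = 0) →
        ∃ x ∈ S, ∃ y ∈ S, f1 x x ≠ 0 ∧ f1 y y ≠ 0 ∧ f1 x y = 0 := fun S hS hnd => by
      obtain ⟨z, hz, hz0⟩ := (Submodule.ne_bot_iff S).1 fun e => by
        rw [e, finrank_bot] at hS
        omega
      obtain ⟨x, hx, hxx⟩ : ∃ x ∈ S, f1 x x ≠ 0 := by
        by_contra hc
        push Not at hc
        exact hz0 (hnd z hz fun y hy => O.h1.polar_zero hc hz hy)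
      obtain ⟨Z, hZ, hZdim⟩ := O.h1.exists_perp_sub (F ∙ x)
      rw [finrank_ι O, hι, finrank_span_singleton (O.h1.ne_zero hxx)] at hZdim
      have h1 := Submodule.finrank_sup_add_finrank_inf_eq S Z
      have h2 := Submodule.finrank_le (S ⊔ Z)
      rw [finrank_ι O, hι] at h2
      obtain ⟨y, ⟨hy, hyZ⟩, hy0⟩ := (Submodule.ne_bot_iff (S ⊓ Z)).1 fun e => by
        rw [e, finrank_bot] at h1
        omega
      have hxy : f1 x y = 0 := O.h1.symm0 ((hZ y).1 hyZ x (Submodule.mem_span_singleton_self x))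
      refine ⟨x, hx, y, hy, hxx, fun hyy => hy0 (hnd y hy fun u hu => ?_), hxy⟩
      have hli : LinearIndependent F ![x, y] := LinearIndependent.pair_iff.2 fun s t e => by
        have e1 := congrArg (fun u => f1 u x) e
        simp only [O.h1.add_left, O.h1.smul_left, O.h1.symm0 hxy, mul_zero, add_zero,
          O.h1.zero_left] at e1
        have hs : s = 0 := (mul_eq_zero.1 e1).resolve_right hxx
        rw [hs, zero_smul, zero_add] at e
        exact ⟨hs, (smul_eq_zero.1 e).resolve_right hy0⟩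
      have hsp : Submodule.span F (Set.range ![x, y]) = S :=
        Submodule.eq_of_le_of_finrank_eq (Submodule.span_le.2 (by
          rintro _ ⟨i, rfl⟩
          fin_cases i <;> assumption)) ((finrank_span_eq_card hli).trans hS.symm)
      rw [← hsp, Matrix.range_cons, Matrix.range_cons, Matrix.range_empty, Set.union_empty,
        Set.singleton_union] at hu
      obtain ⟨s, t, rfl⟩ := Submodule.mem_span_pair.1 hu
      simp [O.h1.add_right, O.h1.smul_right, O.h1.symm0 hxy, hyy]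
    have hPnd : ∀ x ∈ P, (∀ y ∈ P, f1 x y = 0) → x = 0 := fun x hx h =>
      hpa x ((hP x).1 hx) (h x hx)
    obtain ⟨p₁, hp₁, p₂, hp₂, hk, hk2, hp12⟩ := hpair P (by omega) hPnd
    set k := f1 p₁ p₁ with hkd
    have hp22 : f1 p₂ p₂ = k := by
      refine (hpm k _ hk hk2).resolve_right fun e => ?_
      have h0 := hpa (p₁ + p₂) ((hP _).1 (P.add_mem hp₁ hp₂)) (by
        simp only [O.h1.add_left, O.h1.add_right, hp12, O.h1.symm0 hp12, e, ← hkd]
        ring)
      have h1 := congrArg (fun u => f1 u p₁) h0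
      simp only [O.h1.add_left, O.h1.symm0 hp12, O.h1.zero_left, add_zero] at h1
      exact hk h1
    have hPR : ∀ p ∈ P, ∀ e ∈ RR, f1 p e = 0 := fun p hp => (hP p).1 hp
    obtain ⟨e₁, he₁, e₂, he₂, he11, he22, he12⟩ :
        ∃ x ∈ RR, ∃ y ∈ RR, f1 x x = k ∧ f1 y y = -k ∧ f1 x y = 0 := by
      obtain ⟨x, hx, y, hy, hxx, hyy, hxy⟩ := hpair RR hR2 hRnd
      have hno : f1 x x ≠ f1 y y := fun e => by
        have hu : ∀ u₁ u₂ : ι → F, f1 u₁ u₁ = 0 → f1 u₂ u₂ = 0 → f1 u₁ u₂ = 0 →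
            f1 u₁ x ≠ 0 → f1 u₂ x = 0 → f1 u₂ y ≠ 0 → False := fun u₁ u₂ h11 h22 h12 a1 a2 b2 => by
          have hli : LinearIndependent F ![u₁, u₂] := LinearIndependent.pair_iff.2 fun s t e => by
            have e1 := congrArg (fun u => f1 u x) e
            simp only [O.h1.add_left, O.h1.smul_left, a2, mul_zero, add_zero, O.h1.zero_left] at e1
            have hs : s = 0 := (mul_eq_zero.1 e1).resolve_right a1
            rw [hs, zero_smul, zero_add] at e
            refine ⟨hs, (smul_eq_zero.1 e).resolve_right fun e0 => b2 ?_⟩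
            rw [e0, O.h1.zero_left]
          have h2 := hnop (Submodule.span F (Set.range ![u₁, u₂])) fun a ha b hb => by
            rw [Matrix.range_cons, Matrix.range_cons, Matrix.range_empty, Set.union_empty,
              Set.singleton_union] at ha hb
            obtain ⟨s, t, rfl⟩ := Submodule.mem_span_pair.1 ha
            obtain ⟨s', t', rfl⟩ := Submodule.mem_span_pair.1 hb
            simp [O.h1.add_left, O.h1.add_right, O.h1.smul_left, O.h1.smul_right, h11, h22, h12,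
              O.h1.symm0 h12]
          rw [finrank_span_eq_card hli, Fintype.card_fin] at h2
          omega
        have z1 := hPR p₁ hp₁ x hx
        have z2 := hPR p₁ hp₁ y hy
        have z3 := hPR p₂ hp₂ x hx
        have z4 := hPR p₂ hp₂ y hy
        rcases hpm k _ hk hxx with hx' | hx'
        · refine hu (p₁ + p₂ + x) (p₁ - p₂ + y) ?_ ?_ ?_ ?_ ?_ ?_ <;>
            simp only [O.h1.add_left, O.h1.add_right, O.h1.sub_left, O.h1.sub_right, hp12,
              O.h1.symm0 hp12, hp22, z1, z2, z3, z4, O.h1.symm0 z1, O.h1.symm0 z2, O.h1.symm0 z3,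
              O.h1.symm0 z4, hxy, O.h1.symm0 hxy, ← e, hx', ← hkd]
          · linear_combination k * h3
          · linear_combination k * h3
          · ring
          · simpa using hk
          · ring
          · simpa using hk
        · refine hu (p₁ + x) (p₂ + y) ?_ ?_ ?_ ?_ ?_ ?_ <;>
            simp only [O.h1.add_left, O.h1.add_right, hp12, O.h1.symm0 hp12, hp22, z1, z2, z3, z4,
              O.h1.symm0 z1, O.h1.symm0 z2, O.h1.symm0 z3, O.h1.symm0 z4, hxy, O.h1.symm0 hxy, ← e,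
              hx', ← hkd, add_zero, zero_add, add_neg_cancel]
          · simpa using hk
          · simpa using hk
      rcases hpm k _ hk hxx with hx' | hx' <;> rcases hpm k _ hk hyy with hy' | hy'
      · exact absurd (hx'.trans hy'.symm) hno
      · exact ⟨x, hx, y, hy, hx', hy', hxy⟩
      · exact ⟨y, hy, x, hx, hy', hx', O.h1.symm0 hxy⟩
      · exact absurd (hx'.trans hy'.symm) hno
    obtain ⟨b₁, hb₁, hθ₁⟩ := hθonto e₁ he₁
    obtain ⟨b₂, hb₂, hθ₂⟩ := hθonto e₂ he₂
    let lc : (ι → F) → (ι → F) → (ι → F) → (ι → F) → F3.V4 F → (ι → F) := fun x₁ x₂ x₃ x₄ c =>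
      c.1 • x₁ + c.2.1 • x₂ + c.2.2.1 • x₃ + c.2.2.2 • x₄
    let ep : F3.V4 F →ₗ[F] (ι → F) :=
      { toFun := lc p₁ p₂ e₁ e₂
        map_add' := fun c d => by simp only [lc, Prod.fst_add, Prod.snd_add, add_smul]; abel
        map_smul' := fun s c => by simp [lc, smul_smul] }
    let pt : F3.V4 F →ₗ[F] (ι → F) :=
      { toFun := lc p₁ p₂ b₁ b₂
        map_add' := fun c d => by simp only [lc, Prod.fst_add, Prod.snd_add, add_smul]; abel
        map_smul' := fun s c => by simp [lc, smul_smul] }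
    have z := hPR p₁ hp₁
    have z' := hPR p₂ hp₂
    have hep : ∀ c d, f1 (ep c) (ep d) = k * F3.form c d := fun c d => by
      show f1 (lc p₁ p₂ e₁ e₂ c) (lc p₁ p₂ e₁ e₂ d) = _
      simp only [lc, F3.form, O.h1.add_left, O.h1.add_right, O.h1.smul_left, O.h1.smul_right, hp12,
        O.h1.symm0 hp12, ← hkd, hp22, z e₁ he₁, z e₂ he₂, z' e₁ he₁, z' e₂ he₂, O.h1.symm0 (z e₁ he₁),
        O.h1.symm0 (z e₂ he₂), O.h1.symm0 (z' e₁ he₁), O.h1.symm0 (z' e₂ he₂), he11, he22, he12,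
        O.h1.symm0 he12]
      ring
    have hV4 : finrank F (F3.V4 F) = finrank F (ι → F) := by
      rw [finrank_ι O, hι]
      simp [F3.V4]
    have hepinj : Function.Injective ep := (injective_iff_map_eq_zero ep).2 fun c hc => by
      have e := fun d => (hep c d).symm.trans (by rw [hc, O.h1.zero_left])
      have e1 := e (1, 0, 0, 0)
      have e2 := e (0, 1, 0, 0)
      have e3 := e (0, 0, 1, 0)
      have e4 := e (0, 0, 0, 1)
      simp [F3.form, hk] at e1 e2 e3 e4
      exact Prod.ext e1 (Prod.ext e2 (Prod.ext e3 e4))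
    have hepsurj : Function.Surjective ep :=
      (LinearMap.injective_iff_surjective_of_finrank_eq_finrank hV4).1 hepinj
    have hexp : ∀ x ∈ RR, x = ep (0, 0, f1 x e₁ / k, -(f1 x e₂) / k) := fun x hx => by
      obtain ⟨c, rfl⟩ := hepsurj x
      have q : ∀ d, f1 (ep c) (ep d) / k = F3.form c d := fun d => by
        rw [hep, mul_div_cancel_left₀ _ hk]
      have i1 : ep (1, 0, 0, 0) = p₁ := by simp [ep, lc]
      have i2 : ep (0, 1, 0, 0) = p₂ := by simp [ep, lc]
      have i3 : ep (0, 0, 1, 0) = e₁ := by simp [ep, lc]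
      have i4 : ep (0, 0, 0, 1) = e₂ := by simp [ep, lc]
      have q1 := q (1, 0, 0, 0)
      have q2 := q (0, 1, 0, 0)
      rw [i1, O.h1.symm0 (z _ hx), zero_div] at q1
      rw [i2, O.h1.symm0 (z' _ hx), zero_div] at q2
      conv_rhs => rw [← i3, ← i4, neg_div, q, q]
      congr 1
      simp [F3.form] at q1 q2 ⊢
      exact Prod.ext q1.symm (Prod.ext q2.symm (Prod.ext rfl rfl))
    set m : F × F × F := (f1 (ρ b₁) e₁ / k, -(f1 (ρ b₁) e₂) / k, -(f1 (ρ b₂) e₂) / k) with hm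
    have hρ₁ : ρ b₁ = ep (0, 0, m.1, m.2.1) := hexp _ (hρR b₁ hb₁)
    have hρ₂ : ρ b₂ = ep (0, 0, -m.2.1, m.2.2) := by
      have e : f1 (ρ b₂) e₁ = f1 (ρ b₁) e₂ := by
        rw [O.h1.symm, ← hθ₁, hrel, hθ₂]
      rw [hexp _ (hρR b₂ hb₂), e]
      simp [hm, neg_div]
    have hθpt : ∀ c, θ (pt c) = ep (F3.compY c) := fun c => by
      show θ (lc p₁ p₂ b₁ b₂ c) = lc p₁ p₂ e₁ e₂ (F3.compY c)
      simp only [lc, F3.compY, map_add, map_smul, hθP p₁ hp₁, hθP p₂ hp₂, hθ₁, hθ₂, smul_zero,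
        zero_smul]
    have hρpt : ∀ c, ρ (pt c) = ep (F3.compV m c) := fun c => by
      show ρ (lc p₁ p₂ b₁ b₂ c) = lc p₁ p₂ e₁ e₂ (F3.compV m c)
      simp only [lc, map_add, map_smul, hρP p₁ hp₁, hρP p₂ hp₂, hρ₁, hρ₂]
      show _ • p₁ + _ • p₂ + _ • lc p₁ p₂ e₁ e₂ _ + _ • lc p₁ p₂ e₁ e₂ _ = _
      simp only [lc, F3.compV]
      module
    have hptinj : Function.Injective pt := (injective_iff_map_eq_zero pt).2 fun c hc => by
      have h1 := hθpt c
      rw [hc, map_zero, eq_comm, map_eq_zero_iff ep hepinj] at h1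
      have h2 := hρpt c
      rw [hc, map_zero, eq_comm, map_eq_zero_iff ep hepinj] at h2
      simp only [F3.compY, F3.compV, Prod.ext_iff, Prod.fst_zero, Prod.snd_zero] at h1 h2
      exact Prod.ext h2.1 (Prod.ext h2.2.1 (Prod.ext h1.2.2.1 h1.2.2.2))
    have hptsurj : Function.Surjective pt :=
      (LinearMap.injective_iff_surjective_of_finrank_eq_finrank hV4).1 hptinj
    set g : F × F × F := (f1 b₁ b₁ / k, f1 b₁ b₂ / k, f1 b₂ b₂ / k) with hg
    have hpg : ∀ c d, f1 (pt c) (pt d) = k * F3.pulled g c d := fun c d => by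
      show f1 (lc p₁ p₂ b₁ b₂ c) (lc p₁ p₂ b₁ b₂ d) = _
      simp only [lc, F3.pulled, hg, O.h1.add_left, O.h1.add_right, O.h1.smul_left, O.h1.smul_right,
        hp12, O.h1.symm0 hp12, ← hkd, hp22, z b₁ hb₁, z b₂ hb₂, z' b₁ hb₁, z' b₂ hb₂,
        O.h1.symm0 (z b₁ hb₁), O.h1.symm0 (z b₂ hb₂), O.h1.symm0 (z' b₁ hb₁), O.h1.symm0 (z' b₂ hb₂),
        O.h1.symm b₁ b₂]
      field_simp
      ring
    have hdet : g.1 * g.2.2 - g.2.1 * g.2.1 = 2 := by
      obtain ⟨x₁, x₂, hbx⟩ : ∃ x₁ x₂, b₁ = ep (0, 0, x₁, x₂) := ⟨_, _, hexp b₁ hb₁⟩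
      obtain ⟨w₁, w₂, hbw⟩ : ∃ w₁ w₂, b₂ = ep (0, 0, w₁, w₂) := ⟨_, _, hexp b₂ hb₂⟩
      have hd : x₁ * w₂ - x₂ * w₁ ≠ 0 := fun h0 => by
        have e1 : pt (0, 0, w₁, -x₁) = ep (0, 0, 0, w₁ * x₂ - x₁ * w₂) := by
          show lc p₁ p₂ b₁ b₂ _ = lc p₁ p₂ e₁ e₂ _
          rw [hbx, hbw]
          show _ • p₁ + _ • p₂ + _ • lc p₁ p₂ e₁ e₂ _ + _ • lc p₁ p₂ e₁ e₂ _ = _
          simp only [lc]
          module
        have e2 : pt (0, 0, w₂, -x₂) = ep (0, 0, x₁ * w₂ - x₂ * w₁, 0) := by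
          show lc p₁ p₂ b₁ b₂ _ = lc p₁ p₂ e₁ e₂ _
          rw [hbx, hbw]
          show _ • p₁ + _ • p₂ + _ • lc p₁ p₂ e₁ e₂ _ + _ • lc p₁ p₂ e₁ e₂ _ = _
          simp only [lc]
          module
        rw [show w₁ * x₂ - x₁ * w₂ = 0 by linear_combination -h0,
          show ((0 : F), (0 : F), (0 : F), (0 : F)) = 0 from rfl, map_zero,
          map_eq_zero_iff pt hptinj] at e1
        rw [h0, show ((0 : F), (0 : F), (0 : F), (0 : F)) = 0 from rfl, map_zero,
          map_eq_zero_iff pt hptinj] at e2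
        simp [Prod.ext_iff] at e1 e2
        have : b₁ = 0 := by
          rw [hbx, e1.2, e2.2]
          exact map_zero ep
        rw [this, map_zero] at hθ₁
        rw [← hθ₁, O.h1.zero_left] at he11
        exact hk he11.symm
      simp only [hg, hbx, hbw, hep]
      rw [mul_div_cancel_left₀ _ hk, mul_div_cancel_left₀ _ hk, mul_div_cancel_left₀ _ hk]
      simp only [F3.form]
      linear_combination -hsq _ hd + (-1 : F) * h3
    -- the witness
    obtain ⟨⟨m₁, m₂, m₃⟩, hm'⟩ : ∃ m' : ZMod 3 × ZMod 3 × ZMod 3, (φ m'.1, φ m'.2.1, φ m'.2.2) = m :=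
      let e := ZMod.ringEquivOfPrime F (by norm_num : Nat.Prime 3) hF
      ⟨(e.symm m.1, e.symm m.2.1, e.symm m.2.2), by simp [φ, e]⟩
    obtain ⟨⟨g₁, g₂, g₃⟩, hg'⟩ : ∃ g' : ZMod 3 × ZMod 3 × ZMod 3, (φ g'.1, φ g'.2.1, φ g'.2.2) = g :=
      let e := ZMod.ringEquivOfPrime F (by norm_num : Nat.Prime 3) hF
      ⟨(e.symm g.1, e.symm g.2.1, e.symm g.2.2), by simp [φ, e]⟩
    have hφinj : Function.Injective φ := φ.injective
    obtain ⟨r, hrT, hrm, hrc, hrd⟩ := F3.table_cover (m₁, m₂, m₃) (g₁, g₂, g₃) (hφinj (by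
      rw [map_sub, map_mul, map_mul, map_ofNat]
      have := hdet
      rw [← hg'] at this
      exact this))
    set W := F3.m4 φ r.w with hW
    set l := F3.m4 φ r.l with hl
    obtain ⟨R, hR, hRc⟩ : ∃ R ∈ G, ∀ a x, R (vecMulVec (ep a) x) = vecMulVec (ep (F3.refl W a)) x := by
      rcases F3.table_refl r hrT with h0 | h0
      · refine ⟨1, one_mem G, fun a x => ?_⟩
        have : W = 0 := by simp [hW, h0, F3.m4]
        simp [this, F3.refl, F3.form]
      · have hn : F3.form W W ≠ 0 := by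
          have : φ (F3.form r.w r.w) = F3.form W W := by simp [hW, F3.form, F3.m4]
          rw [← this]
          exact (map_ne_zero_iff φ hφinj).2 h0
        obtain ⟨R, hR, hRc, -⟩ := rf O (w := ep W) (by rw [hep]; exact mul_ne_zero hk hn)
        refine ⟨R, hR, fun a x => ?_⟩
        rw [hRc, O.h1.refl_apply, hep, hep]
        congr 1
        have e : 2 / (k * F3.form W W) * (k * F3.form a W) = -(F3.form W W * F3.form a W) := by
          field_simp
          linear_combination F3.form a W * hsq _ hn + F3.form a W * h3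
        rw [e, show F3.refl W a = a + (F3.form W W * F3.form a W) • W from rfl, map_add, map_smul,
          neg_smul, sub_neg_eq_add]
    obtain ⟨t₁, ht₁, ht₁c⟩ := O.right v l.1
    obtain ⟨t₂, ht₂, ht₂c⟩ := O.right y₀ l.2.1
    obtain ⟨t₃, ht₃, ht₃c⟩ := O.right v l.2.2.1
    obtain ⟨t₄, ht₄, ht₄c⟩ := O.right y₀ l.2.2.2
    have hpure : ∀ a x₁ x₂, (R * t₁ * t₂ * t₃ * t₄) (vecMulVec (ep a) (x₁ • y₀ + x₂ • v)) =
        vecMulVec (ep (F3.refl W a))
          ((F3.word l (x₁, x₂)).1 • y₀ + (F3.word l (x₁, x₂)).2 • v) := fun a x₁ x₂ => by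
      have sV : ∀ (s x₁ x₂ : F), x₁ • y₀ + x₂ • v + (s * f2 (x₁ • y₀ + x₂ • v) v) • v =
          (F3.tV s (x₁, x₂)).1 • y₀ + (F3.tV s (x₁, x₂)).2 • v := fun s x₁ x₂ => by
        rw [O.h2.add_left, O.h2.smul_left, O.h2.smul_left, O.h2.self, hy₀]
        simp only [F3.tV]
        module
      have sY : ∀ (s x₁ x₂ : F), x₁ • y₀ + x₂ • v + (s * f2 (x₁ • y₀ + x₂ • v) y₀) • y₀ =
          (F3.tY s (x₁, x₂)).1 • y₀ + (F3.tY s (x₁, x₂)).2 • v := fun s x₁ x₂ => by
        rw [O.h2.add_left, O.h2.smul_left, O.h2.smul_left, O.h2.self, O.h2.swap y₀ v, hy₀]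
        simp only [F3.tY]
        module
      show R (t₁ (t₂ (t₃ (t₄ _)))) = _
      rw [ht₄c, sY, ht₃c, sV, ht₂c, sY, ht₁c, sV, hRc]
      rfl
    have hpair' : ∀ c d, f ((R * t₁ * t₂ * t₃ * t₄) (u₀ (vecMulVec (pt c) v))) (u₀ (vecMulVec (pt d) v)) =
        k * F3.pairing m W l c d := fun c d => by
      have e1 := hpure (F3.compY c) 1 0
      have e2 := hpure (F3.compV m c) 0 1
      rw [one_smul, zero_smul, add_zero] at e1
      rw [one_smul, zero_smul, zero_add] at e2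
      rw [hu, hu, hθpt, hρpt, hθpt, hρpt, map_add, e1, e2]
      simp only [O.h.add_left, O.h.add_right, O.f_pure, O.h2.add_left, O.h2.smul_left, O.h2.self, hy₀,
        O.h2.swap y₀ v, hep, F3.pairing]
      ring
    have hexpand : ∀ a c : F3.V4 F, F3.pairing m W l a c = a.1 * F3.pairing m W l (1, 0, 0, 0) c +
        a.2.1 * F3.pairing m W l (0, 1, 0, 0) c + a.2.2.1 * F3.pairing m W l (0, 0, 1, 0) c +
        a.2.2.2 * F3.pairing m W l (0, 0, 0, 1) c := fun a c => by
      simp only [F3.pairing, F3.form, F3.refl, F3.compY, F3.compV]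
      ring
    have hmap : ∀ c d : F3.V4 (ZMod 3),
        F3.pairing m W l (F3.m4 φ c) (F3.m4 φ d) = φ (F3.pairing r.m r.w r.l c d) := fun c d => by
      rw [F3.map_pairing, hrm, ← hm']
    have hkill : ∀ c : F3.V4 (ZMod 3), (∀ e ∈ F3.basis (ZMod 3), F3.pairing r.m r.w r.l e c = 0) →
        ∀ a, f ((R * t₁ * t₂ * t₃ * t₄) (u₀ (vecMulVec a v))) (u₀ (vecMulVec (pt (F3.m4 φ c)) v)) = 0 := by
      intro c hc a
      obtain ⟨a, rfl⟩ := hptsurj a
      have hb : ∀ e ∈ F3.basis (ZMod 3), F3.pairing m W l (F3.m4 φ e) (F3.m4 φ c) = 0 := fun e he => by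
        rw [hmap, hc e he, map_zero]
      have b1 := hb (1, 0, 0, 0) (by simp [F3.basis])
      have b2 := hb (0, 1, 0, 0) (by simp [F3.basis])
      have b3 := hb (0, 0, 1, 0) (by simp [F3.basis])
      have b4 := hb (0, 0, 0, 1) (by simp [F3.basis])
      simp only [F3.m4, map_zero, map_one] at b1 b2 b3 b4
      rw [hpair', hexpand]
      simp only [F3.m4, b1, b2, b3, b4]
      ring
    refine four_kernel O hex hκ hι hnop hmin hv hu₀
      (mul_mem (mul_mem (mul_mem (mul_mem hR ht₁) ht₂) ht₃) ht₄)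
      (c₁ := pt (F3.m4 φ r.c)) (c₂ := pt (F3.m4 φ r.d)) ?_ ?_
      (hkill r.c fun e he => (F3.table_kernel r hrT e he).1)
      (hkill r.d fun e he => (F3.table_kernel r hrT e he).2) ?_
    · rw [hpg, ← hg', ← F3.map_pulled φ (g₁, g₂, g₃), hrc, map_zero, mul_zero]
    · rw [hpg, ← hg', ← F3.map_pulled φ (g₁, g₂, g₃)]
      exact mul_ne_zero hk ((map_ne_zero_iff φ hφinj).2 hrd)
    · obtain ⟨a, -, b, -, hab⟩ := F3.table_moves r hrT
      refine ⟨pt (F3.m4 φ a), pt (F3.m4 φ b), ?_⟩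
      rw [hpair', hmap]
      exact mul_ne_zero hk ((map_ne_zero_iff φ hφinj).2 hab)

end

end CfsgLib.MaxSub.TensorSympOrth
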