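/-
A symplectic factor of dimension at least three: the transvections of a pure member and of a member
pairing with it non-degenerately generate an involution that is not pure.
-/
import Cfsg.Agent.Lib.MaxSub.TensorSympOrth.Stab
import Cfsg.Agent.Lib.MaxSub.TensorSympOrth.Involution

set_option autoImplicit false
set_option maxHeartbeats 800000
set_option linter.unusedSectionVars false

namespace CfsgLib.MaxSub.TensorSympOrth

open Matrix Module
open scoped IsMulCommutative
open CfsgLib.MaxSub.TensorSymp (AForm)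
open CfsgLib.MaxSub.TensorLin (Col colMap colMap_apply mem_col finrank_col colMap_injective vmv_eq_zero
  vmv_zero NP map_map_inv)

variable {F : Type*} [Field F] [Fintype F] {ι κ : Type} [Fintype ι] [Fintype κ] [DecidableEq ι]
  [DecidableEq κ]
variable {f1 : (ι → F) → (ι → F) → F} {f2 : (κ → F) → (κ → F) → F}
  {f : Matrix ι κ F → Matrix ι κ F → F} {G : Subgroup (Matrix ι κ F ≃ₗ[F] Matrix ι κ F)}

local notation "MV" => Matrix ι κ F

section

variable (O : SO f1 f2 f G)
include O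

/-- The pure involution of a hyperbolic plane. -/
theorem exists_plane_neg {v y : κ → F} (hy : f2 y v = 1) :
    ∃ d ∈ G, Pure d ∧ (∀ X, d (d X) = X) ∧ ∀ c x,
      d (vecMulVec c x) = vecMulVec c (x + (2 * f2 x y) • v - (2 * f2 x v) • y) := by
  have hvy : f2 v y = -1 := by rw [O.h2.swap y v, hy]
  obtain ⟨t₁, ht₁, h1⟩ := O.right v 1
  obtain ⟨t₂, ht₂, h2⟩ := O.right y 1
  have hw : ∀ c x, (t₁ * t₂ * t₁) (vecMulVec c x) =
      vecMulVec c (x + (f2 x v + f2 x y) • v + (f2 x y - f2 x v) • y) := fun c x => by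
    show t₁ (t₂ (t₁ _)) = _
    rw [h1, h2, h1]
    congr 1
    simp only [O.h2.add_left, O.h2.smul_left, O.h2.self, hy, hvy]
    module
  have hd : ∀ c x, (t₁ * t₂ * t₁ * (t₁ * t₂ * t₁)) (vecMulVec c x) =
      vecMulVec c (x + (2 * f2 x y) • v - (2 * f2 x v) • y) := fun c x => by
    rw [LinearEquiv.mul_apply, hw, hw]
    congr 1
    simp only [O.h2.add_left, O.h2.smul_left, O.h2.self, hy, hvy]
    module
  have hw0 := mul_mem (mul_mem ht₁ ht₂) ht₁
  refine ⟨_, mul_mem hw0 hw0, ⟨_, hd⟩, fun X => ?_, hd⟩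
  refine ext_pure (A := (t₁ * t₂ * t₁ * (t₁ * t₂ * t₁)).toLinearMap ∘ₗ
    (t₁ * t₂ * t₁ * (t₁ * t₂ * t₁)).toLinearMap) (B := LinearMap.id) (fun c x => ?_) X
  show (t₁ * t₂ * t₁ * (t₁ * t₂ * t₁)) ((t₁ * t₂ * t₁ * (t₁ * t₂ * t₁)) _) = _
  rw [hd, hd]
  congr 1
  simp only [O.h2.add_left, O.h2.sub_left, O.h2.smul_left, O.h2.self, hy, hvy]
  module

/-- A member pairing non-degenerately with a pure one gives a non-scalar endomorphism. -/
theorem core_false (hex : ¬ Ex O) (h3 : 3 ≤ Fintype.card κ) {M : Submodule F MV} (hM : Mem G M)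
    (hnp : NP M) {v : κ → F} (hv : v ≠ 0) {A : MV →ₗ[F] MV} (hA : Tr f G M A)
    (hRnd : ∀ x ∈ M.map (cv O v), (∀ y ∈ M.map (cv O v), f1 x y = 0) → x = 0)
    (hker : ∀ c, cv O v (A (vecMulVec c v)) = 0 ↔ ∀ e ∈ M.map (cv O v), f1 c e = 0)
    (hr : rank O M v ≠ 0) : False := by
  classical
  set RR := M.map (cv O v) with hRR
  obtain ⟨π, hπR, hQ, hπ0, hπid⟩ := O.h1.exists_proj hRnd
  let πR : (ι → F) →ₗ[F] RR := π.codRestrict RR hπR
  have hπRid : ∀ r : RR, πR r = r := fun r => Subtype.ext (hπid r r.2)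
  obtain ⟨y₀, hy₀⟩ := O.h2.exists_left hv
  have hvv : f2 v v = 0 := O.h2.self v
  have hAM : ∀ m ∈ M, A m = 0 := fun m hm => hA.ker m fun m' hm' => mem_singular O hM hm hm'
  have hAP : ∀ c, A (vecMulVec (c - π c) v) = 0 := fun c => hA.ker _ fun m hm => by
    rw [f_cv' O, O.h1.symm, hQ c _ (Submodule.mem_map_of_mem hm), neg_zero]
  let φR : Module.End F RR := (cv O v ∘ₗ A ∘ₗ colMap v ∘ₗ RR.subtype).codRestrict RR
    fun r => Submodule.mem_map_of_mem (hA.mem _)
  have hφR : ∀ r : RR, (φR r : ι → F) = cv O v (A (vecMulVec (r : ι → F) v)) := fun r => rfl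
  have hφs : ∀ r s : RR, f1 (φR r : ι → F) s = f1 (r : ι → F) (φR s) := fun r s => by
    have h := hA.skew (vecMulVec (r : ι → F) v) (vecMulVec (s : ι → F) v)
    rw [f_cv O, f_cv' O, neg_neg] at h
    rw [hφR, hφR, h, O.h1.symm]
  have hφinj : Function.Injective φR := (injective_iff_map_eq_zero φR).2 fun r hr0 =>
    Subtype.ext (hRnd r r.2 ((hker r).1 (by rw [← hφR, hr0]; rfl)))
  let φE := LinearEquiv.ofInjectiveEndo φR hφinj
  have hφE : ∀ r, φE r = φR r := fun r => rfl
  let vR : RR →ₗ[F] MV := colMap v ∘ₗ RR.subtype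
  have hvR : ∀ r : RR, vR r = vecMulVec (r : ι → F) v := fun r => rfl
  let e : MV →ₗ[F] RR := πR ∘ₗ cv O v
  let K : MV →ₗ[F] RR := φE.symm.toLinearMap ∘ₗ πR ∘ₗ cv O v ∘ₗ A
  let J : RR →ₗ[F] MV := A ∘ₗ vR ∘ₗ φE.symm.toLinearMap
  let Θ : MV →ₗ[F] MV := A - J ∘ₗ φR ∘ₗ K
  let Pp : MV →ₗ[F] MV := colMap v ∘ₗ (cv O v - π ∘ₗ cv O v)
  have hPp : ∀ X, Pp X = vecMulVec (cv O v X - π (cv O v X)) v := fun X => rfl
  have hΘ : ∀ X, Θ X = A X - J (φR (K X)) := fun X => rfl
  have hcvv : ∀ c, cv O v (vecMulVec c v) = 0 := fun c => by rw [cv_pure, hvv, zero_smul]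
  have hcvJ : ∀ r : RR, cv O v (J r) = r := fun r => by
    show cv O v (A (vecMulVec ((φE.symm r : RR) : ι → F) v)) = _
    rw [← hφR, ← hφE, φE.apply_symm_apply]
  have heJ : ∀ r, e (J r) = r := fun r => by
    show πR (cv O v (J r)) = r
    rw [hcvJ, hπRid]
  have hJM : ∀ r, J r ∈ M := fun r => hA.mem _
  have hK0 : ∀ X, A X = 0 → K X = 0 := fun X h => by
    show φE.symm (πR (cv O v (A X))) = 0
    rw [h, map_zero, map_zero, map_zero]
  have hKJ : ∀ r, K (J r) = 0 := fun r => hK0 _ (hAM _ (hJM r))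
  have hKv : ∀ r, K (vR r) = r := fun r => φE.injective (by
    show φE (φE.symm (πR (cv O v (A (vecMulVec (r : ι → F) v))))) = _
    rw [φE.apply_symm_apply, ← hφR, hπRid, hφE])
  have hev : ∀ r, e (vR r) = 0 := fun r => by
    show πR (cv O v (vecMulVec (r : ι → F) v)) = 0
    rw [hcvv, map_zero]
  have hJφ : ∀ r, J (φR r) = A (vR r) := fun r => by
    show A (vR (φE.symm (φR r))) = _
    rw [← hφE, φE.symm_apply_apply]
  have hΘcv : ∀ X, cv O v (Θ X) = 0 := fun X => by
    have h1 : (φR (K X) : ι → F) = cv O v (A X) := by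
      rw [← hφE]
      show ((φE (φE.symm (πR (cv O v (A X)))) : RR) : ι → F) = _
      rw [φE.apply_symm_apply]
      exact hπid _ (Submodule.mem_map_of_mem (hA.mem X))
    rw [hΘ, map_sub, hcvJ, h1, sub_self]
  have heΘ : ∀ X, e (Θ X) = 0 := fun X => by
    show πR (cv O v (Θ X)) = 0
    rw [hΘcv, map_zero]
  have hΘM : ∀ X, Θ X ∈ M := fun X => M.sub_mem (hA.mem X) (hJM _)
  have hKΘ : ∀ X, K (Θ X) = 0 := fun X => hK0 _ (hAM _ (hΘM X))
  have hePp : ∀ X, e (Pp X) = 0 := fun X => by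
    show πR (cv O v (vecMulVec _ v)) = 0
    rw [hcvv, map_zero]
  have hAPp : ∀ X, A (Pp X) = 0 := fun X => hAP _
  have hKPp : ∀ X, K (Pp X) = 0 := fun X => hK0 _ (hAPp X)
  have hPp0 : ∀ X, cv O v X ∈ RR → Pp X = 0 := fun X h => by
    rw [hPp, hπid _ h, sub_self, zero_vecMulVec]
  have hPpv : ∀ r, Pp (vR r) = 0 := fun r => hPp0 _ (by rw [hvR, hcvv]; exact zero_mem _)
  have hPpJ : ∀ r, Pp (J r) = 0 := fun r => hPp0 _ (by rw [hcvJ]; exact r.2)
  have hPpΘ : ∀ X, Pp (Θ X) = 0 := fun X => hPp0 _ (by rw [hΘcv]; exact zero_mem _)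
  have hPpPp : ∀ X, Pp (Pp X) = 0 := fun X => hPp0 _ (by rw [hPp, hcvv]; exact zero_mem _)
  have hΘ0 : ∀ X, A X = 0 → Θ X = 0 := fun X h => by
    rw [hΘ, h, hK0 X h, map_zero, map_zero, sub_zero]
  have hΘv : ∀ r, Θ (vR r) = 0 := fun r => by rw [hΘ, hKv, hJφ, sub_self]
  have hΘJ : ∀ r, Θ (J r) = 0 := fun r => hΘ0 _ (hAM _ (hJM r))
  have hΘΘ : ∀ X, Θ (Θ X) = 0 := fun X => hΘ0 _ (hAM _ (hΘM X))
  have hΘPp : ∀ X, Θ (Pp X) = 0 := fun X => hΘ0 _ (hAPp X)
  -- the algebra
  haveI : Finite (Module.End F RR) :=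
    Finite.of_injective (fun a : Module.End F RR => (a : RR → RR)) DFunLike.coe_injective
  set R := Algebra.adjoin F ({φR} : Set (Module.End F RR)) with hR
  letI : CommRing R := Algebra.instCommRingAdjoinSingleton φR
  have hsa : ∀ a ∈ R, ∀ r s : RR, f1 ((a r : RR) : ι → F) s = f1 (r : ι → F) (a s) := by
    intro a ha
    induction ha using Algebra.adjoin_induction with
    | mem x hx =>
      obtain rfl : x = φR := hx
      exact hφs
    | algebraMap t =>
      intro r s
      show f1 ((t • r : RR) : ι → F) s = f1 (r : ι → F) ((t • s : RR) : ι → F)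
      rw [Submodule.coe_smul, Submodule.coe_smul, O.h1.smul_left, O.h1.smul_right]
    | add x y _ _ hx hy =>
      intro r s
      simp only [LinearMap.add_apply, Submodule.coe_add, O.h1.add_left, O.h1.add_right, hx, hy]
    | mul x y hx' hy' hx hy =>
      intro r s
      have hc : x * y = y * x := congrArg Subtype.val
        (mul_comm (⟨x, hx'⟩ : R) ⟨y, hy'⟩)
      show f1 ((x (y r) : RR) : ι → F) s = f1 (r : ι → F) ((x * y) s)
      rw [hx, hy, hc]
      rfl
  let φ0 : R := ⟨φR, Algebra.subset_adjoin rfl⟩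
  haveI : Nontrivial RR := Module.nontrivial_of_finrank_pos (R := F) (Nat.pos_of_ne_zero hr)
  haveI : Nontrivial R := ⟨⟨0, 1, fun h => zero_ne_one (congrArg Subtype.val h)⟩⟩
  have hφ0 : IsUnit φ0 := by
    have hinj : Function.Injective fun a : R => φ0 * a := fun a b hab => Subtype.ext
      (LinearMap.ext fun r => hφinj (DFunLike.congr_fun (congrArg Subtype.val hab) r))
    obtain ⟨b, hb⟩ := (Finite.injective_iff_surjective.1 hinj) 1
    exact IsUnit.of_mul_eq_one b hb
  obtain ⟨m, hm, α, hαα, hα1, hmα, hmm⟩ := exists_involution (F := F) (R := R) O.h1.two hφ0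
  let op : Matrix (Fin 2) (Fin 2) R → (MV →ₗ[F] MV) := fun a =>
    vR ∘ₗ (((a 0 0 : R) : Module.End F RR) ∘ₗ K - K + ((a 0 1 : R) : Module.End F RR) ∘ₗ e) +
      J ∘ₗ (((a 1 0 : R) : Module.End F RR) ∘ₗ K + (((a 1 1 : R) : Module.End F RR) ∘ₗ e - e))
  have hop : ∀ a X, op a X =
      vR (((a 0 0 : R) : Module.End F RR) (K X) - K X + ((a 0 1 : R) : Module.End F RR) (e X)) +
      J (((a 1 0 : R) : Module.End F RR) (K X) + (((a 1 1 : R) : Module.End F RR) (e X) - e X)) :=
    fun a X => rfl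
  let Pred : Matrix.SpecialLinearGroup (Fin 2) R → F → F → Prop := fun a l t =>
    ∃ g ∈ G, ∀ X, g X = X + op a.1 X + (l • Pp X + t • Θ X)
  have hone : Pred 1 0 0 := ⟨1, one_mem G, fun X => by
    rw [hop]
    simp⟩
  have hmul : ∀ a b l t l' t', Pred a l t → Pred b l' t' → Pred (a * b) (l + l') (t + t') := by
    rintro a b l t l' t' ⟨g, hg, hgX⟩ ⟨g', hg', hg'X⟩
    refine ⟨g * g', mul_mem hg hg', fun X => ?_⟩
    rw [LinearEquiv.mul_apply, hgX, hg'X]
    simp only [hop, map_add, map_sub, map_smul, hKv, hKJ, heJ, hev, hKΘ, hKPp, heΘ, hePp, hPpv, hPpJ,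
      hPpΘ, hPpPp, hΘv, hΘJ, hΘΘ, hΘPp, Matrix.SpecialLinearGroup.coe_mul, Matrix.mul_apply,
      Fin.sum_univ_two, Subalgebra.coe_add, Subalgebra.coe_mul, Module.End.mul_apply,
      LinearMap.add_apply, smul_zero, add_zero, zero_add, sub_zero, zero_sub, map_neg, map_zero]
    module
  obtain ⟨l, t, hpred⟩ : ∃ l t, Pred m l t := by
    refine pairGrp_induction (P := fun a => ∃ l t, Pred a l t) ⟨0, 0, hone⟩
      (fun a b ⟨l, t, h⟩ ⟨l', t', h'⟩ => ⟨_, _, hmul a b l t l' t' h h'⟩) ?_ ?_ hm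
    · obtain ⟨g, hg, hgX, -⟩ := tv O v 1
      refine ⟨1, 0, g, hg, fun X => ?_⟩
      have h1 : vecMulVec (cv O v X) v = vR (e X) + Pp X := by
        rw [hPp, hvR, show ((e X : RR) : ι → F) = π (cv O v X) from rfl, ← add_vecMulVec,
          add_sub_cancel]
      rw [hgX, hop, one_smul, h1]
      simp [upR]
      abel
    · obtain ⟨g, hg, hgX⟩ := hA.elem
      refine ⟨0, 1, g, hg, fun X => ?_⟩
      rw [hgX, hop, hΘ]
      simp [loR, φ0]
  obtain ⟨p, hp⟩ := CharP.exists F
  have hpr : p.Prime := CharP.char_is_prime F p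
  have hp2 : p ≠ 2 := fun e => O.h1.two (by subst e; exact_mod_cast CharP.cast_eq_zero F 2)
  have hmul2 : ∀ n : ℕ, Pred 1 ((n : F) * (l + l)) ((n : F) * (t + t)) := fun n => by
    induction n with
    | zero => simpa using hone
    | succ n ih =>
      have := hmul _ _ _ _ _ _ ih (hmul _ _ _ _ _ _ hpred hpred)
      rw [hmm, one_mul] at this
      convert this using 1 <;> push_cast <;> ring
  obtain ⟨g, hg, hgX'⟩ : Pred m 0 0 := by
    obtain ⟨k, hk⟩ : Odd p := hpr.odd_of_ne_two hp2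
    have hk0 : (2 : F) * k + 1 = 0 := by
      have := CharP.cast_eq_zero F p
      rw [hk] at this
      push_cast at this
      exact this
    have := hmul _ _ _ _ _ _ hpred (hmul2 k)
    rw [mul_one] at this
    convert this using 1
    · linear_combination -l * hk0
    · linear_combination -t * hk0
  let αE : Module.End F RR := (α : Module.End F RR)
  have hgX : ∀ X, g X = X + (vR (αE (K X) - K X) + J (αE (e X) - e X)) := fun X => by
    rw [hgX', hop, hmα]
    simp [αE]
  -- the element of the first factor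
  let L : (ι → F) →ₗ[F] (ι → F) := LinearMap.id + RR.subtype ∘ₗ (αE - 1) ∘ₗ πR
  have hL : ∀ c, L c = c + ((αE (πR c) : RR) : ι → F) - π c := fun c => by
    show c + ((αE (πR c) - πR c : RR) : ι → F) = _
    rw [Submodule.coe_sub, add_sub_assoc]
    rfl
  have hπL : ∀ c, πR (L c) = αE (πR c) := fun c => by
    have h0 : πR (c - π c) = 0 := Subtype.ext (hπ0 _ (hQ c))
    rw [hL, add_sub_right_comm, map_add, h0, zero_add, hπRid]
  have hα2 : ∀ r, αE (αE r) = r := fun r =>
    DFunLike.congr_fun (congrArg Subtype.val hαα) r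
  have hLL : ∀ c, L (L c) = c := fun c => by
    rw [hL (L c), hπL, hα2, show π (L c) = ((πR (L c) : RR) : ι → F) from rfl, hπL, hL]
    show c + _ - π c + ((πR c : RR) : ι → F) - _ = c
    rw [show ((πR c : RR) : ι → F) = π c from rfl]
    abel
  have hLiso : ∀ c d, f1 (L c) (L d) = f1 c d := fun c d => by
    have hdec : ∀ c d, f1 c d = f1 (c - π c) (d - π d) + f1 (π c) (π d) := fun c d => by
      conv_lhs => rw [← sub_add_cancel c (π c), ← sub_add_cancel d (π d)]
      rw [O.h1.add_left, O.h1.add_right, O.h1.add_right, hQ c _ (hπR d), O.h1.symm0 (hQ d _ (hπR c))]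
      ring
    have h1 : ∀ c, π (L c) = (αE (πR c) : ι → F) := fun c => congrArg Subtype.val (hπL c)
    have h2 : ∀ c, L c - π (L c) = c - π c := fun c => by rw [h1, hL]; abel
    rw [hdec, hdec c d, h2, h2, h1, h1, hsa αE α.2, hα2]
    rfl
  have hKe : ∀ c, K (vecMulVec c v) = πR c := fun c => by
    rw [← sub_add_cancel c (π c), add_vecMulVec, map_add, hK0 _ (hAP c), zero_add,
      show vecMulVec (π c) v = vR (πR c) from rfl, hKv, sub_add_cancel]
  have hee : ∀ c x, f2 x v = 0 → e (vecMulVec c x) = 0 := fun c x hx => by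
    show πR (cv O v (vecMulVec c x)) = 0
    rw [cv_pure, hx, zero_smul, map_zero]
  have hgv : ∀ c, g (vecMulVec c v) = vecMulVec (L c) v := fun c => by
    rw [hgX, hKe, hee c v hvv, map_zero, sub_zero, map_zero, add_zero, hvR, ← add_vecMulVec]
    rfl
  have hgQ : ∀ c x, f2 x v = 0 → g (vecMulVec c x) - vecMulVec c x ∈ Col v := fun c x hx => by
    rw [hgX, hee c x hx, map_zero, sub_zero, map_zero, add_zero, add_sub_cancel_left]
    exact mem_col.2 ⟨_, rfl⟩
  obtain ⟨h, hh, hhc, -⟩ := lf O hLiso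
  obtain ⟨Z, hZv, hZ0, hZdim⟩ := exists_compl O hv
  obtain ⟨x, hxZ, hx0⟩ := (Submodule.ne_bot_iff Z).1 fun e => by
    rw [e, finrank_bot] at hZdim
    omega
  have hx := hZv x hxZ
  obtain ⟨w, hw, hwx⟩ := O.h2.exists_perp_ne hv fun h => hx0 (hZ0 x hxZ h)
  obtain ⟨s, hs⟩ := fix_scalar O hex hv (mul_mem hh hg) (fun c => by
    show h (g _) = _
    rw [hgv, hhc, hLL]) hw hx
  set σ := s / f2 x w with hσ
  have hsc : ∀ c, L c - c = σ • c := fun c => by
    obtain ⟨d, hd⟩ := mem_col.1 (hgQ c x hx)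
    have e1 := hs c
    rw [show (h * g) (vecMulVec c x) = h (g (vecMulVec c x)) from rfl,
      show g (vecMulVec c x) = vecMulVec c x + vecMulVec d v by rw [hd, add_sub_cancel],
      map_add h, hhc, hhc] at e1
    simp only [map_add, map_sub, cv_pure, O.h2.symm0 hw, zero_smul, add_zero] at e1
    rw [← smul_sub] at e1
    rw [hσ, div_eq_inv_mul, mul_smul, ← e1, smul_smul, inv_mul_cancel₀ hwx, one_smul]
  have hσ0 : σ ≠ 0 := fun h0 => hα1 (Subtype.ext (LinearMap.ext fun r => Subtype.ext (by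
    have := hsc (r : ι → F)
    rw [h0, zero_smul, sub_eq_zero, hL, hπRid, hπid _ r.2, add_sub_cancel_left] at this
    exact this)))
  have htop : ∀ c, c ∈ RR := fun c => by
    have h1 : L c - c ∈ RR := by
      rw [hL, add_sub_assoc, add_sub_cancel_left]
      exact RR.sub_mem (αE (πR c)).2 (hπR c)
    rw [hsc, Submodule.smul_mem_iff _ hσ0] at h1
    exact h1
  have hσ2 : σ = -2 := by
    obtain ⟨c, hc⟩ : ∃ c : ι → F, c ≠ 0 := by
      obtain ⟨r, hr0⟩ := exists_ne (0 : RR)
      exact ⟨r, fun e => hr0 (Subtype.ext e)⟩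
    have h1 : ∀ c, L c = (1 + σ) • c := fun c => by
      rw [add_smul, one_smul, ← hsc, add_sub_cancel]
    have h2 := hLL c
    rw [h1, h1, smul_smul] at h2
    have h3 : ((1 + σ) * (1 + σ) - 1) • c = 0 := by rw [sub_smul, h2, one_smul, sub_self]
    have h4 := (smul_eq_zero.1 h3).resolve_right hc
    refine eq_neg_of_add_eq_zero_left ((mul_eq_zero.1 ?_).resolve_left hσ0)
    linear_combination h4
  have hαneg : ∀ r, αE r - r = (-2 : F) • r := fun r => Subtype.ext (by
    have := hsc (r : ι → F)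
    rw [hL, hπRid, hπid _ r.2, hσ2] at this
    rw [Submodule.coe_sub, Submodule.coe_smul, ← this]
    abel)
  have hgX2 : ∀ X, g X = X + (-2 : F) • (vR (K X) + J (e X)) := fun X => by
    rw [hgX, hαneg, hαneg, map_smul, map_smul, smul_add]
  obtain ⟨d₀, hd₀, hd₀p, hd₀i, hd₀c⟩ := exists_plane_neg O hy₀
  have hgv' : ∀ c, g (vecMulVec c v) = -vecMulVec c v := fun c => by
    rw [hgv, ← neg_vmv]
    congr 1
    rw [← sub_add_cancel (L c) c, hsc, hσ2]
    module
  have hd₀v : ∀ c, d₀ (vecMulVec c v) = -vecMulVec c v := fun c => by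
    rw [hd₀c, hvv, O.h2.swap y₀ v, hy₀, ← vmv_neg]
    congr 1
    module
  rcases qel O (mul_mem hd₀ hg) hv (fun c => by
      show d₀ (g _) = _
      rw [hgv', map_neg, hd₀v, neg_neg]) (fun c x hx => by
      obtain ⟨d, hd⟩ := mem_col.1 (hgQ c x hx)
      show d₀ (g _) - _ ∈ _
      rw [show g (vecMulVec c x) = vecMulVec c x + vecMulVec d v by rw [hd, add_sub_cancel], map_add,
        hd₀v, hd₀c, hx, mul_zero, zero_smul, sub_zero, vecMulVec_add, vmv_smul, add_right_comm,
        add_assoc, add_sub_cancel_left]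
      exact (Col v).add_mem ((Col v).neg_mem (mem_col.2 ⟨d, rfl⟩))
        ((Col v).smul_mem _ (mem_col.2 ⟨c, rfl⟩))) with h | h
  · exact hex h
  obtain ⟨Lg, hLg⟩ : Pure g := by
    have e : g = d₀ * (d₀ * g) := LinearEquiv.ext fun X => (hd₀i _).symm
    rw [e]
    exact pure_mul O hd₀p h
  set u := Lg y₀ - y₀
  obtain ⟨Pz, hPz, hPdim⟩ := O.h2.finrank_perp_le ![v, u]
  rw [Module.finrank_fintype_fun_eq_card] at hPdim
  obtain ⟨z, hz, hz0⟩ := (Submodule.ne_bot_iff Pz).1 fun e => by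
    rw [e, finrank_bot] at hPdim
    omega
  have hzv : f2 v z = 0 := O.h2.symm0 ((hPz z).1 hz 0)
  have hzu : f2 u z = 0 := O.h2.symm0 ((hPz z).1 hz 1)
  have hJz : ∀ r, cv O z (J r) = 0 := fun r => by
    have h1 := hgX2 (vecMulVec (r : ι → F) y₀)
    rw [hLg, show e (vecMulVec (r : ι → F) y₀) = r by
      show πR (cv O v _) = r
      rw [cv_pure, hy₀, one_smul, hπRid], ← sub_eq_iff_eq_add', ← vmv_sub] at h1
    have h2 := congrArg (cv O z) h1
    rw [cv_pure, hzu, zero_smul, map_smul, map_add, hvR, cv_pure, hzv, zero_smul, zero_add] at h2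
    exact (smul_eq_zero.1 h2.symm).resolve_left (neg_ne_zero.2 O.h1.two)
  have hinjM : ∀ X ∈ M, cv O v X = 0 → X = 0 := fun X hX h => by
    have h1 := rank_add_ker O hM v
    have h2 : RR = ⊤ := Submodule.eq_top_iff'.2 htop
    rw [rank, ← hRR, h2, finrank_top, finrank_ι O] at h1
    have h3 : (M ⊓ LinearMap.ker (cv O v) : Submodule F MV) = ⊥ := Submodule.finrank_eq_zero.1 (by omega)
    exact (Submodule.eq_bot_iff _).1 h3 X ⟨hX, LinearMap.mem_ker.2 h⟩
  have hMz : ∀ X ∈ M, cv O z X = 0 := fun X hX => by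
    obtain ⟨Y, rfl⟩ := hA.onto X hX
    have := hinjM _ (hΘM Y) (hΘcv Y)
    rw [hΘ, sub_eq_zero] at this
    rw [this, hJz]
  have hA0 : ∀ c, A (vecMulVec c z) = 0 := fun c => hA.ker _ fun m hm => by
    rw [f_cv' O, hMz m hm, O.h1.zero_left, neg_zero]
  have := stab O hex hnp hM hA hz0 fun c => by rw [hA0]; exact zero_mem _
  rw [show A ∘ₗ colMap z = 0 from LinearMap.ext hA0, LinearMap.range_zero, finrank_bot, mul_zero] at this
  have := O.b3
  omega

/-- The case of full pairing. -/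
theorem full_pair_false (hex : ¬ Ex O) (h3 : 3 ≤ Fintype.card κ) {M : Submodule F MV} (hM : Mem G M)
    (hnp : NP M) {v : κ → F} (hv : v ≠ 0) (hinj : ∀ X ∈ M, cv O v X = 0 → X = 0) : False := by
  obtain ⟨A, hA⟩ := exists_tr_one O hM
  have h1 := rank_add_ker O hM v
  rw [show (M ⊓ LinearMap.ker (cv O v) : Submodule F MV) = ⊥ from (Submodule.eq_bot_iff _).2
    fun X hX => hinj X hX.1 (LinearMap.mem_ker.1 hX.2), finrank_bot, add_zero] at h1
  have htop : M.map (cv O v) = ⊤ := Submodule.eq_top_of_finrank_eq (by rw [finrank_ι O]; exact h1)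
  refine core_false O hex h3 hM hnp hv hA (fun x _ h => O.h1.nondeg x fun y =>
    h y (htop.ge Submodule.mem_top)) (fun c => ?_) (by have := O.b3; omega)
  constructor
  · rintro h _ ⟨m, hm, rfl⟩
    have := hA.perp O (hinj _ (hA.mem _) h) hm
    rw [f_cv' O, neg_eq_zero] at this
    exact O.h1.symm0 this
  · intro h
    rw [hA.ker _ fun m hm => by
      rw [f_cv' O, O.h1.symm, h _ (Submodule.mem_map_of_mem hm), neg_zero], map_zero]

/-- A member that is a tensor product with a subspace of the first factor gives one pairing fully. -/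
theorem exc_false (hex : ¬ Ex O) (h3 : 3 ≤ Fintype.card κ) {M : Submodule F MV} (hM : Mem G M)
    (hnp : NP M) {A : MV →ₗ[F] MV} (hA : Tr f G M A) {v : κ → F} (hv : v ≠ 0)
    (hN : ∀ c, A (vecMulVec c v) ∈ Col v) : False := by
  classical
  obtain ⟨φ, hφφ, hφs, hA'⟩ := shape O hex hnp hM hA hv hN
  have hb := stab O hex hnp hM hA hv hN
  have hrA : finrank F (LinearMap.range (A ∘ₗ colMap v)) = finrank F (LinearMap.range φ) := by
    rw [show A ∘ₗ colMap v = colMap v ∘ₗ φ from LinearMap.ext fun c => hA' c v, LinearMap.range_comp,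
      ← (Submodule.equivMapOfInjective _ (colMap_injective hv) _).finrank_eq]
  rw [hrA] at hb
  set R0 := LinearMap.range φ with hR0
  set n := finrank F R0
  have h2F := O.h1.two
  have hb3 := O.b3
  let bE := Module.finBasis F R0
  let ev : Fin n → (ι → F) := fun i => (bE i : ι → F)
  have hee : ∀ i j, f1 (ev i) (ev j) = 0 := fun i j => by
    obtain ⟨c, hc⟩ := (bE i).2
    obtain ⟨d, hd⟩ := (bE j).2
    show f1 (bE i : ι → F) (bE j) = 0
    rw [← hc, ← hd]
    have := hφs c (φ d)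
    rwa [hφφ, O.h1.zero_right, add_zero] at this
  have hdual : ∀ i, ∃ u, ∀ r : R0, bE.coord i r = f1 (r : ι → F) u := fun i => by
    obtain ⟨ψ, hψ⟩ := LinearMap.exists_extend (bE.coord i)
    obtain ⟨u, hu⟩ := O.h1.exists_repr ψ
    exact ⟨u, fun r => by rw [← hu, ← DFunLike.congr_fun hψ r]; rfl⟩
  choose us hus using hdual
  let sv : Fin n → (ι → F) := fun i => us i - (2 : F)⁻¹ • ∑ j, f1 (us i) (us j) • ev j
  have heu : ∀ i j, f1 (ev j) (us i) = if j = i then 1 else 0 := fun i j => by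
    rw [← hus i (bE j), Module.Basis.coord_apply, Module.Basis.repr_self, Finsupp.single_apply]
  have hes : ∀ i j, f1 (ev j) (sv i) = if j = i then 1 else 0 := fun i j => by
    show f1 (ev j) (us i - _) = _
    rw [O.h1.sub_right, O.h1.smul_right, O.h1.sum_right,
      Finset.sum_eq_zero fun k _ => by rw [O.h1.smul_right, hee, mul_zero], mul_zero, sub_zero, heu]
  have hse : ∀ i j, f1 (sv i) (ev j) = if j = i then 1 else 0 := fun i j => by
    rw [O.h1.symm, hes]
  have hss : ∀ i j, f1 (sv i) (sv j) = 0 := fun i j => by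
    show f1 (us i - _) (sv j) = 0
    rw [O.h1.sub_left, O.h1.smul_left, O.h1.sum_left]
    simp only [O.h1.smul_left, hes, mul_ite, mul_one, mul_zero, Finset.sum_ite_eq', Finset.mem_univ,
      if_true]
    show f1 (us i) (us j - _) - _ = 0
    rw [O.h1.sub_right, O.h1.smul_right, O.h1.sum_right]
    simp only [O.h1.smul_right, fun k => O.h1.symm (ev k) (us i), heu, mul_ite, mul_one, mul_zero,
      Finset.sum_ite_eq', Finset.mem_univ, if_true]
    rw [O.h1.symm (us i) (us j)]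
    field_simp
    ring
  have hexp : ∀ r ∈ R0, r = ∑ i, f1 r (sv i) • ev i := fun r hr => by
    have h := congrArg (R0.subtype) (bE.sum_repr ⟨r, hr⟩)
    rw [map_sum] at h
    have h' : r = ∑ i, bE.repr ⟨r, hr⟩ i • ev i :=
      h.symm.trans (Finset.sum_congr rfl fun i _ => rfl)
    conv_lhs => rw [h']
    refine Finset.sum_congr rfl fun i _ => ?_
    congr 1
    conv_rhs => rw [h']
    rw [O.h1.sum_left]
    simp only [O.h1.smul_left, hes, mul_ite, mul_one, mul_zero, Finset.sum_ite_eq', Finset.mem_univ,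
      if_true]
  -- the dimension of the subspace
  have hn2 : 2 ≤ n := by
    by_contra hcon
    push Not at hcon
    have hn0 : n ≠ 0 := fun e => by rw [e, mul_zero] at hb; omega
    obtain ⟨i⟩ : Nonempty (Fin n) := ⟨⟨0, by omega⟩⟩
    have hsub : Subsingleton (Fin n) := Fin.subsingleton_iff_le_one.2 (by omega)
    have hprod : ∀ c, f1 (φ c) (sv i) * f1 (ev i) c = 0 := fun c => by
      have h1 := hφs c c
      rw [O.h1.symm (φ c) c, ← two_mul, mul_eq_zero] at h1
      have h2 := h1.resolve_left h2F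
      rw [hexp (φ c) ⟨c, rfl⟩, Fintype.sum_subsingleton _ i, O.h1.smul_left] at h2
      exact h2
    obtain ⟨c0, hc0⟩ := O.h1.exists_left (show ev i ≠ 0 from fun e => bE.ne_zero i (Subtype.ext e))
    have hc0' : f1 (ev i) c0 = 1 := by rw [O.h1.symm]; exact hc0
    obtain ⟨c1, hc1⟩ := (bE i).2
    have h0 : f1 (φ c0) (sv i) = 0 := by simpa [hc0'] using hprod c0
    have h1 : f1 (φ c1) (sv i) = 1 := by
      rw [hc1]
      simpa using hes i i
    have h3 := hprod c1
    rw [h1, one_mul] at h3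
    have h4 := hprod (c0 + c1)
    rw [map_add, O.h1.add_left, O.h1.add_right, h0, h1, hc0', h3, zero_add, one_mul, add_zero] at h4
    exact one_ne_zero h4
  let i0 : Fin n := ⟨0, by omega⟩
  let i1 : Fin n := ⟨1, by omega⟩
  have hi : i1 ≠ i0 := by simp [i0, i1]
  -- an anisotropic vector perpendicular to both subspaces
  obtain ⟨a, ha, hae, has⟩ : ∃ a, f1 a a ≠ 0 ∧ (∀ i, f1 a (ev i) = 0) ∧ ∀ i, f1 a (sv i) = 0 := by
    obtain ⟨U, hU, hUdim⟩ := O.h1.exists_perp_sub
      (Submodule.span F (Set.range (Sum.elim ev sv)))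
    have hle := finrank_range_le_card (R := F) (Sum.elim ev sv)
    rw [Set.finrank, Fintype.card_sum, Fintype.card_fin] at hle
    have hlt : n * 3 ≤ Fintype.card ι := by
      rw [hb, mul_comm n 3]
      exact Nat.mul_le_mul h3 le_rfl
    obtain ⟨u, hu, hu0⟩ := (Submodule.ne_bot_iff U).1 fun e => by
      rw [e, finrank_bot, finrank_ι O] at hUdim
      omega
    have hUe : ∀ x ∈ U, ∀ j, f1 x (Sum.elim ev sv j) = 0 := fun x hx j =>
      (hU x).1 hx _ (Submodule.subset_span ⟨j, rfl⟩)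
    by_contra hc
    push Not at hc
    have hiso : ∀ x ∈ U, f1 x x = 0 := fun x hx => by
      by_contra hne
      obtain ⟨i, hi⟩ := hc x hne fun i => hUe x hx (Sum.inl i)
      exact hi (hUe x hx (Sum.inr i))
    refine hu0 (O.h1.nondeg u fun c => ?_)
    have hc' : c - ∑ i, f1 c (sv i) • ev i - ∑ i, f1 c (ev i) • sv i ∈ U := (hU _).2 fun w hw => by
      induction hw using Submodule.span_induction with
      | mem w hw =>
        obtain ⟨j | j, rfl⟩ := hw
        · simp [O.h1.sub_left, O.h1.sum_left, O.h1.smul_left, hee, hse, hes]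
        · simp [O.h1.sub_left, O.h1.sum_left, O.h1.smul_left, hss, hse, hes]
      | zero => exact O.h1.zero_right _
      | add a b _ _ ha hb => rw [O.h1.add_right, ha, hb, add_zero]
      | smul t a _ ha => rw [O.h1.smul_right, ha, mul_zero]
    have h5 := O.h1.polar_zero hiso hu hc'
    have h6 : ∀ i, f1 u (ev i) = 0 := fun i => hUe u hu (Sum.inl i)
    have h7 : ∀ i, f1 u (sv i) = 0 := fun i => hUe u hu (Sum.inr i)
    simpa [O.h1.sub_right, O.h1.sum_right, O.h1.smul_right, h6, h7] using h5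
  set w := a + ev i1 with hw
  have hww : f1 w w ≠ 0 := by
    rw [hw]
    simp only [O.h1.add_left, O.h1.add_right, hae, O.h1.symm0 (hae i1), hee, add_zero]
    exact ha
  have hwe : ∀ i, f1 (ev i) w = 0 := fun i => by
    rw [hw, O.h1.add_right, O.h1.symm0 (hae i), hee, add_zero]
  have hws : ∀ i, f1 (sv i) w = if i1 = i then 1 else 0 := fun i => by
    rw [hw, O.h1.add_right, O.h1.symm0 (has i), hse, zero_add]
  -- the swap
  let ws : Fin n → (ι → F) := fun i => ev i - sv i
  let L : (ι → F) →ₗ[F] (ι → F) := LinearMap.id + ∑ i, (O.h1.lin (ws i)).smulRight (ws i)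
  have hLc : ∀ c, L c = c + ∑ i, f1 c (ws i) • ws i := fun c => by
    simp [L, SForm.lin_apply]
  have hwsw : ∀ i j, f1 (ws i) (ws j) = if i = j then -2 else 0 := fun i j => by
    show f1 (ev i - sv i) (ev j - sv j) = _
    have hd : ∀ a b c d, f1 (a - b) (c - d) = f1 a c - f1 a d - f1 b c + f1 b d := fun a b c d => by
      rw [O.h1.sub_left, O.h1.sub_right, O.h1.sub_right]
      ring
    rw [hd, hee, hss, hes, hse]
    by_cases h : i = j
    · subst h
      simp
      norm_num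
    · simp [h, Ne.symm h]
  have hLiso : ∀ c d, f1 (L c) (L d) = f1 c d := fun c d => by
    set S := ∑ i, f1 c (ws i) * f1 d (ws i) with hS
    have e1 : f1 c (∑ i, f1 d (ws i) • ws i) = S := by
      rw [O.h1.sum_right, hS]
      exact Finset.sum_congr rfl fun i _ => by rw [O.h1.smul_right, mul_comm]
    have e2 : f1 (∑ i, f1 c (ws i) • ws i) d = S := by
      rw [O.h1.sum_left, hS]
      exact Finset.sum_congr rfl fun i _ => by rw [O.h1.smul_left, O.h1.symm d (ws i)]
    have e3 : f1 (∑ i, f1 c (ws i) • ws i) (∑ i, f1 d (ws i) • ws i) = -2 * S := by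
      rw [O.h1.sum_left, hS, Finset.mul_sum]
      refine Finset.sum_congr rfl fun i _ => ?_
      rw [O.h1.smul_left, O.h1.sum_right, Finset.sum_eq_single i (fun j _ hj => by
        rw [O.h1.smul_right, hwsw, if_neg (Ne.symm hj), mul_zero]) (fun h => absurd (Finset.mem_univ i) h),
        O.h1.smul_right, hwsw, if_pos rfl]
      ring
    rw [hLc, hLc, O.h1.add_left, O.h1.add_right, O.h1.add_right, e1, e2, e3]
    ring
  have hLe : ∀ i, L (ev i) = sv i := fun i => by
    rw [hLc, Finset.sum_eq_single i]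
    · simp [ws, O.h1.sub_right, hee, hes]
    · intro j _ hj
      simp [ws, O.h1.sub_right, hee, hes, Ne.symm hj]
    · simp
  have hmemR0 : ∀ X ∈ M, ∀ u, cv O u X ∈ R0 := fun X hX u => by
    obtain ⟨Y, rfl⟩ := hA.onto X hX
    refine ⟨cv O u Y, (ext_pure (A := cv O u ∘ₗ A) (B := φ ∘ₗ cv O u) (fun c x => ?_) Y).symm⟩
    show cv O u (A _) = φ (cv O u _)
    rw [hA', cv_pure, cv_pure, map_smul]
  have hinM : ∀ r ∈ R0, ∀ x, vecMulVec r x ∈ M := fun r hr x => by
    obtain ⟨c, rfl⟩ := hr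
    exact hA' c x ▸ hA.mem _
  obtain ⟨g, hg, v', hv', hgM⟩ := id hM
  -- the moved member is pure
  have key : ∀ L' : (ι → F) →ₗ[F] (ι → F), (∀ c d, f1 (L' c) (L' d) = f1 c d) →
      (∀ i j, f1 (L' (ev i)) (ev j) = if j = i then 1 else 0) →
      ∃ k ∈ G, (∀ c x, k (vecMulVec c x) = vecMulVec (L' c) x) ∧ (∀ u X, cv O u (k X) = L' (cv O u X)) ∧
        ∃ x, x ≠ 0 ∧ (M.map k.toLinearMap).map (g⁻¹ : MV ≃ₗ[F] MV).toLinearMap = Col x := by
    intro L' hL' hpair
    obtain ⟨k, hk, hkc, hkcv⟩ := lf O hL'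
    refine ⟨k, hk, hkc, hkcv, ?_⟩
    have hNm := mem_map O (mem_map O hM hk) (inv_mem hg)
    by_contra hcon
    push Not at hcon
    refine full_pair_false O hex h3 hNm (fun x hx => ?_) hv' ?_
    · rcases eq_or_ne x 0 with rfl | hx0
      · have := mem_finrank O hNm
        rw [hx, show (Col (ι := ι) (0 : κ → F)) = ⊥ from (Submodule.eq_bot_iff _).2 fun X hX => by
          obtain ⟨c, rfl⟩ := mem_col.1 hX
          exact vmv_zero c, finrank_bot] at this
        omega
      · exact hcon x hx0 hx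
    · rintro _ ⟨_, ⟨X, hX, rfl⟩, rfl⟩ h0
      have hperp : ∀ m ∈ M, f (k X) m = 0 := fun m hm => by
        rw [hgM] at hm
        obtain ⟨Y, hY, rfl⟩ := hm
        obtain ⟨d, rfl⟩ := mem_col.1 hY
        show f (k X) (g (vecMulVec d v')) = 0
        rw [← isom_symm O hg, f_cv O]
        exact (congrArg (fun u => f1 u d) h0).trans (O.h1.zero_left d)
      have hX0 : X = 0 := O.h.nondeg X fun Y => by
        have hzero : ∀ u, cv O u X = 0 := fun u => by
          rw [hexp _ (hmemR0 X hX u)]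
          refine Finset.sum_eq_zero fun j _ => ?_
          have h1 := hperp _ (hinM _ (bE j).2 u)
          rw [f_cv O, hkcv, hexp _ (hmemR0 X hX u), map_sum, O.h1.sum_left] at h1
          simp only [map_smul, O.h1.smul_left, show ∀ i, f1 (L' (ev i)) (bE j : ι → F) = _ from
            fun i => hpair i j, mul_ite, mul_one, mul_zero, Finset.sum_ite_eq, Finset.mem_univ,
            if_true] at h1
          rw [h1, zero_smul]
        rw [O.h.swap]
        refine neg_eq_zero.2 (ext_pure (A := O.h.lin X) (B := (0 : MV →ₗ[F] F)) (fun c x => ?_) Y)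
        rw [AForm.lin_apply, f_cv' O, hzero, O.h1.zero_left, neg_zero]
        rfl
      show g.symm (k X) = 0
      rw [hX0, map_zero, map_zero]
  let L2 : (ι → F) →ₗ[F] (ι → F) := O.h1.refl w ∘ₗ L
  obtain ⟨k, hk, hkc, hkcv, x, hx0, hx⟩ := key L hLiso fun i j => by rw [hLe, hse]
  obtain ⟨k', -, hk'c, -, x', hx'0, hx'⟩ := key L2 (fun c d => by
      show f1 (O.h1.refl w _) (O.h1.refl w _) = _
      rw [O.h1.refl_isom hww, hLiso]) fun i j => by
    show f1 (O.h1.refl w (L (ev i))) (ev j) = _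
    rw [← O.h1.refl_perp (hwe j), O.h1.refl_isom hww, hLe, hse]
  have hks : ∀ z, k (vecMulVec (ev i0) z) = vecMulVec (sv i0) z := fun z => by rw [hkc, hLe]
  have hk's : ∀ z, k' (vecMulVec (ev i0) z) = vecMulVec (sv i0) z := fun z => by
    rw [hk'c]
    show vecMulVec (O.h1.refl w (L (ev i0))) z = _
    rw [hLe, O.h1.refl_perp (by rw [hws, if_neg hi])]
  obtain ⟨z, hz⟩ : ∃ z : κ → F, z ≠ 0 := ⟨v, hv⟩
  have hsame : Col (ι := ι) x' = Col x := by
    obtain ⟨c, hc⟩ := mem_col.1 (hx ▸ Submodule.mem_map_of_mem (Submodule.mem_map_of_mem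
      (hinM _ (bE i0).2 z)) : g.symm (k (vecMulVec (ev i0) z)) ∈ Col x)
    obtain ⟨d, hd⟩ := mem_col.1 (hx' ▸ Submodule.mem_map_of_mem (Submodule.mem_map_of_mem
      (hinM _ (bE i0).2 z)) : g.symm (k' (vecMulVec (ev i0) z)) ∈ Col x')
    rw [hks] at hc
    rw [hk's, ← hc] at hd
    have hd0 : d ≠ 0 := fun e0 => by
      rw [e0, zero_vecMulVec, hc, eq_comm, g.symm.map_eq_zero_iff] at hd
      refine vmv_ne_zero (fun e1 => ?_) hz hd
      have := hes i0 i0
      rw [e1, O.h1.zero_right] at this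
      simp at this
    exact col_eq_of_span hx'0 (mem_span_of_col O hd0 hx0 (hd ▸ mem_col.2 ⟨c, rfl⟩))
  have heq : M.map k'.toLinearMap = M.map k.toLinearMap :=
    Submodule.map_injective_of_injective (f := (g⁻¹ : MV ≃ₗ[F] MV).toLinearMap)
      (g⁻¹ : MV ≃ₗ[F] MV).injective (hx'.trans (hsame.trans hx.symm))
  obtain ⟨Y, hY, hYe⟩ := heq.le (Submodule.mem_map_of_mem (hinM _ (bE i1).2 z))
  obtain ⟨u, hu⟩ := O.h2.exists_right hz
  have h1 := congrArg (fun X => f1 (cv O u X) a) hYe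
  simp only [LinearEquiv.coe_coe, hkcv, hk'c, cv_pure, hu, one_smul] at h1
  have hL2a : f1 (L2 (ev i1)) a = 0 := by
    refine h1.symm.trans ?_
    rw [hexp _ (hmemR0 Y hY u), map_sum, O.h1.sum_left]
    exact Finset.sum_eq_zero fun i _ => by
      rw [map_smul, hLe, O.h1.smul_left, O.h1.symm0 (has i), mul_zero]
  have hcomp : f1 (L2 (ev i1)) a = -(2 / f1 w w) * f1 a a := by
    show f1 (O.h1.refl w (L (ev i1))) a = _
    rw [hLe, O.h1.refl_apply, O.h1.sub_left, O.h1.smul_left, O.h1.symm0 (has i1), hws, if_pos rfl,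
      show f1 w a = f1 a a by rw [hw, O.h1.add_left, O.h1.symm0 (hae i1), add_zero]]
    ring
  rw [hcomp, mul_eq_zero, neg_eq_zero, div_eq_zero_iff] at hL2a
  rcases hL2a with (h | h) | h
  · exact h2F h
  · exact hww h
  · exact ha h

end

end CfsgLib.MaxSub.TensorSympOrth
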