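/-
A member that is not pure gives a non-scalar endomorphism: induction on the rank of its pairing with a
space of pure tensors.
-/
import Cfsg.Agent.Lib.MaxSub.TensorSympOrth.FourMove
import Cfsg.Agent.Lib.MaxSub.TensorSympOrth.Wide

set_option autoImplicit false
set_option maxHeartbeats 800000
set_option linter.unusedSectionVars false

namespace CfsgLib.MaxSub.TensorSympOrth

open Matrix Module
open CfsgLib.MaxSub.TensorSymp (AForm)
open CfsgLib.MaxSub.TensorLin (Col colMap colMap_apply mem_col finrank_col colMap_injective vmv_eq_zero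
  vmv_zero NP map_map_inv)

variable {F : Type*} [Field F] {ι κ : Type} [Fintype ι] [Fintype κ] [DecidableEq ι] [DecidableEq κ]
variable {f1 : (ι → F) → (ι → F) → F} {f2 : (κ → F) → (κ → F) → F}
  {f : Matrix ι κ F → Matrix ι κ F → F} {G : Subgroup (Matrix ι κ F ≃ₗ[F] Matrix ι κ F)}

local notation "MV" => Matrix ι κ F

section

variable (O : SO f1 f2 f G)
include O

/-- A member that is not pure gives a non-scalar endomorphism. -/
theorem ex_of_np [Fintype F] {M : Submodule F MV} (hM : Mem G M) (hnp : NP M) : Ex O := by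
  by_contra hex
  suffices hall : ∀ r, ∀ L, Mem G L → NP L → ∀ v, v ≠ 0 → rank O L v ≠ r by
    obtain ⟨j⟩ : Nonempty κ := Fintype.card_pos_iff.1 (by have := O.a2; omega)
    exact hall _ M hM hnp (Pi.single j 1) (by simp) rfl
  intro r
  induction r using Nat.strong_induction_on with
  | _ r ih =>
  have hmin : MinRank O r := fun L hL hn v hv h => ih _ h L hL hn v hv rfl
  clear ih M hM hnp
  intro M hM hnp v hv hr
  obtain ⟨A, hA⟩ := exists_tr_one O hM
  have hb := O.b3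
  rcases Nat.eq_zero_or_pos r with rfl | hr0
  · have h0 : ∀ c, A (vecMulVec c v) = 0 := fun c => hA.ker _ fun m hm => by
      rw [f_cv' O, (rank_eq_zero O).1 hr m hm, O.h1.zero_left, neg_zero]
    have h1 := stab O hex hnp hM hA hv fun c => by rw [h0]; exact zero_mem _
    rw [show A ∘ₗ colMap v = 0 from LinearMap.ext h0, LinearMap.range_zero, finrank_bot, mul_zero] at h1
    omega
  have hle : r ≤ Fintype.card ι := hr ▸ rank_le O M hM v
  by_cases hrb' : r = Fintype.card ι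
  · rcases O.dims with ⟨h2, -⟩ | h3
    · exact refl_case O hmin hM hnp (by omega) (Or.inl h2)
    · refine full_pair_false O hex h3 hM hnp hv fun X hX h => ?_
      have h1 := rank_add_ker O hM v
      have h4 : (M ⊓ LinearMap.ker (cv O v) : Submodule F MV) = ⊥ :=
        Submodule.finrank_eq_zero.1 (by omega)
      exact (Submodule.eq_bot_iff _).1 h4 X ⟨hX, LinearMap.mem_ker.2 h⟩
  have hrb : r < Fintype.card ι := by omega
  by_cases hbig : Fintype.card κ = 2 ∧ 3 ≤ r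
  · exact refl_case O hmin hM hnp hbig.2 (Or.inl hbig.1)
  have hd : ∀ {L : Submodule F MV}, Mem G L → NP L → ∀ {u : κ → F}, u ≠ 0 → rank O L u = r →
      ∀ {B : MV →ₗ[F] MV}, Tr f G L B → ¬ ∀ c, B (vecMulVec c u) ∈ Col u := by
    intro L hL hnL u hu hru B hB hN
    rcases O.dims with ⟨h2, h5⟩ | h3
    · by_cases h4 : Fintype.card ι = 4
      · refine not_stab_four O hex h2 h4 ?_ hL hnL hu hB hN
        rcases h5 with h5 | h5 | h5
        · omega
        · omega
        · exact h5.2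
      · refine not_stab O hex ?_ hL hnL hu hru hB hN
        rcases h5 with h5 | h5 | ⟨h5, -⟩ <;> (rw [h2] at hbig ⊢; omega)
    · exact exc_false O hex h3 hL hnL hB hu hN
  obtain ⟨-, M₁, hM₁, hnp₁, hmap₁, -, hin₁, -⟩ := side O hex hmin hr0 hrb hM hnp hv hr hA
    (hd hM hnp hv hr hA)
  clear hA A
  have hr₁ : rank O M₁ v = r := by rw [rank, hmap₁]; exact hr
  obtain ⟨g, hg, v', hv', hgM⟩ := id hM₁
  have hA₁ := tr_of O hg hv' (one_ne_zero (α := F))
  rw [← hgM, one_smul] at hA₁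
  obtain ⟨hker₁, -⟩ := side O hex hmin hr0 hrb hM₁ hnp₁ hv hr₁ hA₁ (hd hM₁ hnp₁ hv hr₁ hA₁)
  -- the transposed member
  let ψ : (ι → F) →ₗ[F] (ι → F) := cv O v' ∘ₗ g.symm.toLinearMap ∘ₗ colMap v
  set L := (Col (ι := ι) v).map (g⁻¹ : MV ≃ₗ[F] MV).toLinearMap with hL
  have hLm : Mem G L := mem_map O (mem_col_self O hv) (inv_mem hg)
  have hψmap : L.map (cv O v') = LinearMap.range ψ := by
    ext x
    constructor
    · rintro ⟨_, ⟨X, hX, rfl⟩, rfl⟩
      obtain ⟨c, rfl⟩ := mem_col.1 hX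
      exact ⟨c, rfl⟩
    · rintro ⟨c, rfl⟩
      exact ⟨_, ⟨_, mem_col.2 ⟨c, rfl⟩, rfl⟩, rfl⟩
  have hadj : ∀ x d, f (g (vecMulVec d v')) (vecMulVec x v) = -f1 (ψ x) d := fun x d => by
    rw [O.h.swap, ← isom_symm O hg, f_cv O]
    rfl
  have hψker : ∀ x, ψ x = 0 ↔ ∀ e ∈ M₁.map (cv O v), f1 x e = 0 := fun x => by
    constructor
    · rintro h0 _ ⟨m, hm, rfl⟩
      rw [hgM] at hm
      obtain ⟨Y, hY, rfl⟩ := hm
      obtain ⟨d, rfl⟩ := mem_col.1 hY
      rw [O.h1.symm, ← f_cv O]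
      show f (g (vecMulVec d v')) _ = 0
      rw [hadj, h0, O.h1.zero_left, neg_zero]
    · intro h
      refine O.h1.nondeg _ fun d => ?_
      rw [← neg_eq_zero, ← hadj, f_cv O]
      exact O.h1.symm0 (h _ (Submodule.mem_map_of_mem
        (hgM ▸ Submodule.mem_map_of_mem (mem_col.2 ⟨d, rfl⟩))))
  have hrL : rank O L v' = r := by
    obtain ⟨P, hP, -⟩ := O.h1.exists_perp_sub (M₁.map (cv O v))
    have h1 := O.h1.finrank_perp hP
    rw [finrank_ι O, show finrank F (M₁.map (cv O v)) = r from hr₁] at h1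
    have h2 := LinearMap.finrank_range_add_finrank_ker ψ
    rw [show LinearMap.ker ψ = P from Submodule.ext fun x => by
      rw [LinearMap.mem_ker, hψker, hP], finrank_ι O] at h2
    show finrank F (L.map (cv O v')) = r
    rw [hψmap]
    omega
  obtain ⟨c₀, hc₀P, hc₀⟩ : ∃ c, (∀ e ∈ M₁.map (cv O v), f1 c e = 0) ∧ c ≠ 0 := by
    obtain ⟨P, hP, hdim⟩ := O.h1.exists_perp_sub (M₁.map (cv O v))
    rw [finrank_ι O, show finrank F (M₁.map (cv O v)) = r from hr₁] at hdim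
    obtain ⟨c, hc, hc0⟩ := (Submodule.ne_bot_iff P).1 fun e => by
      rw [e, finrank_bot] at hdim
      omega
    exact ⟨c, (hP c).1 hc, hc0⟩
  have hback : ∀ c, (∀ e ∈ M₁.map (cv O v), f1 c e = 0) → g.symm (vecMulVec c v) ∈ Col v' := fun c hc => by
    have hc' := hin₁ c (by rw [← hmap₁]; exact hc)
    rw [hgM] at hc'
    obtain ⟨Y, hY, hYe⟩ := hc'
    rw [← hYe]
    show g.symm (g Y) ∈ _
    rwa [g.symm_apply_apply]
  have hLnp : NP L := by
    refine np_of_meet O (w := v') (fun e => hnp₁ v ?_) (X := g.symm (vecMulVec c₀ v))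
      (fun e => vmv_ne_zero hc₀ hv (g.symm.map_eq_zero_iff.1 e))
      ⟨_, mem_col.2 ⟨c₀, rfl⟩, rfl⟩ (hback c₀ hc₀P)
    rw [hgM, ← e, hL, ← Submodule.map_comp]
    convert Submodule.map_id _
    exact LinearMap.ext fun X => g.apply_symm_apply X
  have hR0 : ∀ x ∈ L.map (cv O v'), (∀ y ∈ L.map (cv O v'), f1 x y = 0) → x = 0 := fun x hx h => by
    rw [hψmap] at hx h
    obtain ⟨e, rfl⟩ := hx
    refine (hψker e).2 ((hker₁ e).1 (O.h1.nondeg _ fun d => ?_))
    rw [← f_cv O]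
    show f (g (vecMulVec (cv O v' (g.symm (vecMulVec e v))) v')) (vecMulVec d v) = 0
    rw [hadj, O.h1.symm]
    exact neg_eq_zero.2 (h _ ⟨d, rfl⟩)
  obtain ⟨AL, hAL⟩ := exists_tr_one O hLm
  obtain ⟨hkerL, M₂, hM₂, hnp₂, hmap₂, hperf₂, hin₂,
    y₂, hy₂, hMy₂, hfix₂⟩ := side O hex hmin hr0 hrb hLm hLnp hv' hrL hAL
    (hd hLm hLnp hv' hrL hAL)
  rcases O.dims with ⟨h2, h5⟩ | h3
  swap
  · exact core_false O hex h3 hLm hLnp hv' hAL hR0 hkerL (by omega)
  rw [← hmap₂] at hR0 hperf₂ hin₂ hfix₂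
  have hr₂ : rank O M₂ v' = r := by rw [rank, hmap₂]; exact hrL
  rcases h5 with h3 | h5 | ⟨h4, hnop⟩
  · obtain rfl | rfl : r = 1 ∨ r = 2 := by rw [h2] at hbig; omega
    · exact three_one O hex h2 h3 hmin hM₂ hnp₂ hv' hr₂ hR0 hperf₂ hin₂
    · exact three_two O h2 h3 hmin hM₂ hv' hr₂ hR0 hin₂
  · exact ex_of_two O hex h2 (by rw [h2] at hbig; omega) hmin hr0 (by rw [h2] at hbig; omega) hM₂ hnp₂
      hv' hr₂ hR0 hperf₂ hin₂
  · obtain rfl | rfl : r = 1 ∨ r = 2 := by rw [h2] at hbig; omega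
    · exact ex_of_two O hex h2 (by omega) hmin hr0 (by omega) hM₂ hnp₂ hv' hr₂ hR0 hperf₂ hin₂
    · exact four_false O hex h2 h4 hnop hmin hM₂ hnp₂ hv' hr₂ hR0 hperf₂ hy₂ hMy₂ hfix₂

end

end CfsgLib.MaxSub.TensorSympOrth
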