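/-
A non-scalar endomorphism gives all transvections of the whole space.
-/
import Cfsg.Agent.Lib.MaxSub.TensorSympOrth.Qel

set_option autoImplicit false
set_option maxHeartbeats 400000
set_option linter.unusedSectionVars false

namespace CfsgLib.MaxSub.TensorSympOrth

open Matrix Module
open CfsgLib.MaxSub.TensorSymp (AForm)
open CfsgLib.MaxSub.TensorLin (Col colMap colMap_apply mem_col vmv_eq_zero vmv_zero)

variable {F : Type*} [Field F] {ι κ : Type*} [Fintype ι] [Fintype κ] [DecidableEq ι] [DecidableEq κ]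
variable {f1 : (ι → F) → (ι → F) → F} {f2 : (κ → F) → (κ → F) → F}
  {f : Matrix ι κ F → Matrix ι κ F → F} {G : Subgroup (Matrix ι κ F ≃ₗ[F] Matrix ι κ F)}

local notation "MV" => Matrix ι κ F

/-- A centre of transvections. -/
def Ctr (_O : SO f1 f2 f G) (Z : MV) : Prop := ∀ l : F, ∃ g ∈ G, ∀ X, g X = X + (l * f X Z) • Z

/-- Two vectors with a common neighbour that is a centre. -/
def Com (O : SO f1 f2 f G) (x y : MV) : Prop := ∃ k, Ctr O k ∧ f x k ≠ 0 ∧ f y k ≠ 0

section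

variable (O : SO f1 f2 f G)
include O

/-- An endomorphism at all vectors. -/
def AllIn (T : (ι → F) →ₗ[F] (ι → F)) : Prop := ∀ x : κ → F, x ≠ 0 → InG O x T

theorem ing_add {v : κ → F} {T T' : (ι → F) →ₗ[F] (ι → F)} (h : InG O v T) (h' : InG O v T') :
    InG O v (T + T') := by
  obtain ⟨g, hg, hgX⟩ := h
  obtain ⟨g', hg', hgX'⟩ := h'
  refine ⟨g * g', mul_mem hg hg', fun X => ?_⟩
  rw [LinearEquiv.mul_apply, hgX, hgX', map_add (cv O v), cv_pure, O.h2.self, zero_smul, add_zero,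
    LinearMap.add_apply, add_vecMulVec, add_assoc, add_comm (vecMulVec (T' _) v)]

theorem ing_neg {v : κ → F} {T : (ι → F) →ₗ[F] (ι → F)} (h : InG O v T) : InG O v (-T) := by
  obtain ⟨g, hg, hgX⟩ := h
  refine ⟨g⁻¹, inv_mem hg, fun X => ?_⟩
  refine g.injective ?_
  show g (g.symm X) = _
  rw [g.apply_symm_apply, hgX, map_add (cv O v), cv_pure, O.h2.self, zero_smul, add_zero,
    LinearMap.neg_apply, neg_vmv, add_assoc, neg_add_cancel, add_zero]

/-- The endomorphism is self-adjoint. -/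
theorem ing_symm {v : κ → F} (hv : v ≠ 0) {T : (ι → F) →ₗ[F] (ι → F)} (h : InG O v T) (c d : ι → F) :
    f1 (T c) d = f1 c (T d) := by
  obtain ⟨g, hg, hgX⟩ := h
  obtain ⟨y, hy⟩ := O.h2.exists_left hv
  have := O.isom g hg (vecMulVec c y) (vecMulVec d y)
  rw [hgX, hgX, cv_pure, cv_pure, hy, one_smul, one_smul, O.h.add_left, O.h.add_right, O.h.add_right,
    O.f_pure (T c), O.f_pure c (T d), O.f_pure (T c), O.f_pure c d, O.h2.self, O.h2.self, O.h2.swap y v,
    hy] at this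
  linear_combination -this

/-- Conjugation. -/
theorem ing_map {v v' : κ → F} {T : (ι → F) →ₗ[F] (ι → F)} (h : InG O v T) {e : MV ≃ₗ[F] MV}
    (he : e ∈ G) (hev : ∀ d, e (vecMulVec d v) = vecMulVec d v') : InG O v' T := by
  obtain ⟨g, hg, hgX⟩ := h
  refine ⟨e * g * e⁻¹, mul_mem (mul_mem he hg) (inv_mem he), fun X => ?_⟩
  show e (g (e.symm X)) = _
  have h1 : cv O v (e.symm X) = cv O v' X := O.h1.ext_left fun d => by
    rw [← f_cv O, isom_symm O he, hev, f_cv O]
  rw [hgX, map_add, e.apply_symm_apply, hev, h1]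

theorem ing_move {v z : κ → F} (hvz : f2 v z ≠ 0) {T : (ι → F) →ₗ[F] (ι → F)} (h : InG O v T) :
    InG O z T := by
  obtain ⟨e, he, heX⟩ := O.right (z - v) (f2 v z)⁻¹
  refine ing_map O h he fun d => ?_
  rw [heX, O.h2.sub_right, O.h2.self, sub_zero, inv_mul_cancel₀ hvz, one_smul, add_sub_cancel]

/-- One vector suffices. -/
theorem allIn_of {v : κ → F} (hv : v ≠ 0) {T : (ι → F) →ₗ[F] (ι → F)} (h : InG O v T) : AllIn O T :=
  fun x hx => by
    obtain ⟨z, hzv, hzx⟩ := avoid_two O.h2 hv hx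
    exact ing_move O hzx (ing_move O (O.h2.symm_ne hzv) h)

theorem exists_vec : ∃ v : κ → F, v ≠ 0 := by
  obtain ⟨j⟩ : Nonempty κ := Fintype.card_pos_iff.1 (by have := O.a2; omega)
  exact ⟨Pi.single j 1, by simp⟩

variable {O} in
theorem AllIn.add {T T' : (ι → F) →ₗ[F] (ι → F)} (h : AllIn O T) (h' : AllIn O T') : AllIn O (T + T') :=
  fun x hx => ing_add O (h x hx) (h' x hx)

variable {O} in
theorem AllIn.smul {T : (ι → F) →ₗ[F] (ι → F)} (h : AllIn O T) (t : F) : AllIn O (t • T) := fun x hx => by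
  have sq : ∀ α : F, InG O x ((α * α) • T) := fun α => by
    rcases eq_or_ne α 0 with rfl | hα
    · exact ⟨1, one_mem G, fun X => by simp⟩
    obtain ⟨g, hg, hgX⟩ := h (α • x) (smul_ne_zero hα hx)
    refine ⟨g, hg, fun X => ?_⟩
    rw [hgX, cv_smul_vec, map_smul, vmv_smul, smul_vecMulVec, smul_smul, LinearMap.smul_apply,
      smul_vecMulVec]
  have h2 := O.h1.two
  have := ing_add O (sq ((t + 1) / 2)) (ing_neg O (sq ((t - 1) / 2)))
  convert this using 1
  match_scalars
  field_simp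
  ring

variable {O} in
theorem AllIn.sub {T T' : (ι → F) →ₗ[F] (ι → F)} (h : AllIn O T) (h' : AllIn O T') : AllIn O (T - T') :=
  fun x hx => sub_eq_add_neg T T' ▸ ing_add O (h x hx) (ing_neg O (h' x hx))

variable {O} in
/-- Conjugation by the first factor. -/
theorem AllIn.map {T T' : (ι → F) →ₗ[F] (ι → F)} (h : AllIn O T) {L : (ι → F) →ₗ[F] (ι → F)}
    (hL : ∀ c d, f1 (L c) (L d) = f1 c d) (hT : ∀ c, T' (L c) = L (T c)) : AllIn O T' := fun x hx => by
  obtain ⟨e, he, heX, hecv⟩ := lf O hL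
  obtain ⟨g, hg, hgX⟩ := h x hx
  refine ⟨e * g * e⁻¹, mul_mem (mul_mem he hg) (inv_mem he), fun X => ?_⟩
  show e (g (e.symm X)) = _
  conv_rhs => rw [← e.apply_symm_apply X, hecv, hT]
  rw [hgX, map_add, heX]

/-- The self-adjoint map of two vectors. -/
def sm (x w : ι → F) : (ι → F) →ₗ[F] (ι → F) := (O.h1.lin x).smulRight w + (O.h1.lin w).smulRight x

theorem sm_apply (x w c : ι → F) : sm O x w c = f1 c x • w + f1 c w • x := rfl

theorem sm_comm (x w : ι → F) : sm O x w = sm O w x := by rw [sm, sm, add_comm]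

theorem sm_map (x w : ι → F) {L : (ι → F) →ₗ[F] (ι → F)} (hL : ∀ c d, f1 (L c) (L d) = f1 c d)
    (c : ι → F) : sm O (L x) (L w) (L c) = L (sm O x w c) := by
  rw [sm_apply, sm_apply, hL, hL, map_add, map_smul, map_smul]

/-- The perpendicular vectors paired with a given one. -/
def Pairs (w : ι → F) : Submodule F (ι → F) where
  carrier := {x | f1 x w = 0 ∧ AllIn O (sm O x w)}
  zero_mem' := ⟨O.h1.zero_left w, fun y _ => ⟨1, one_mem G, fun X => by
    simp [sm_apply, O.h1.zero_right]⟩⟩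
  add_mem' := fun {a b} ha hb => ⟨by rw [O.h1.add_left, ha.1, hb.1, add_zero], by
    convert ha.2.add hb.2 using 1
    refine LinearMap.ext fun c => ?_
    simp only [sm_apply, LinearMap.add_apply, O.h1.add_right, add_smul, smul_add]
    abel⟩
  smul_mem' := fun t a ha => ⟨by rw [O.h1.smul_left, ha.1, mul_zero], by
    convert ha.2.smul t using 1
    refine LinearMap.ext fun c => ?_
    simp only [sm_apply, LinearMap.smul_apply, O.h1.smul_right, smul_add, smul_smul]
    module⟩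

theorem pairs_step {w x a : ι → F} (hx : x ∈ Pairs O w) (ha : f1 a a ≠ 0) (haw : f1 a w = 0)
    (hxa : f1 x a ≠ 0) : a ∈ Pairs O w := by
  have h1 : O.h1.refl a x ∈ Pairs O w := by
    refine ⟨?_, hx.2.map (O.h1.refl_isom ha) fun c => ?_⟩
    · conv_lhs => rw [← O.h1.refl_perp (O.h1.symm0 haw)]
      rw [O.h1.refl_isom ha, hx.1]
    · have := sm_map O x w (O.h1.refl_isom ha) c
      rwa [O.h1.refl_perp (O.h1.symm0 haw)] at this
  have h2 := (Pairs O w).sub_mem hx h1
  rw [O.h1.refl_apply, sub_sub_cancel] at h2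
  exact (Submodule.smul_mem_iff _ (mul_ne_zero (div_ne_zero O.h1.two ha) hxa)).1 h2

/-- A non-zero pair spreads to the whole perpendicular. -/
theorem pairs_full [Finite F] {w x₀ : ι → F} (hw : f1 w w ≠ 0) (hx₀ : x₀ ∈ Pairs O w) (hx₀0 : x₀ ≠ 0)
    {c : ι → F} (hc : f1 c w = 0) : c ∈ Pairs O w := by
  let W' : Submodule F (ι → F) := LinearMap.ker (O.h1.lin w)
  have hW' : ∀ a, a ∈ W' ↔ f1 a w = 0 := fun a => LinearMap.mem_ker
  have hproj : ∀ d, d - (f1 d w / f1 w w) • w ∈ W' := fun d => (hW' _).2 (by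
    rw [O.h1.sub_left, O.h1.smul_left, div_mul_cancel₀ _ hw, sub_self])
  have hnd : ∀ a ∈ W', (∀ b ∈ W', f1 a b = 0) → a = 0 := fun a ha h => O.h1.nondeg a fun d => by
    have := h _ (hproj d)
    rwa [O.h1.sub_right, O.h1.smul_right, (hW' a).1 ha, mul_zero, sub_zero] at this
  have HW := O.h1.restrict hnd
  have hdW : Fintype.card ι ≤ finrank F W' + 1 := by
    have h1 := LinearMap.finrank_range_add_finrank_ker (O.h1.lin w)
    have h2 := Submodule.finrank_le (LinearMap.range (O.h1.lin w))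
    rw [Module.finrank_self] at h2
    rw [finrank_ι O] at h1
    show _ ≤ finrank F (LinearMap.ker (O.h1.lin w)) + 1
    omega
  let Pr : W' → Prop := fun a => (a : ι → F) ∈ Pairs O w
  have step : ∀ n m : W', f1 (n : ι → F) n ≠ 0 → f1 (m : ι → F) m ≠ 0 → f1 (n : ι → F) m ≠ 0 →
      Pr n → Pr m := fun n m _ hm hnm h => pairs_step O h hm ((hW' _).1 m.2) hnm
  have spread : ∀ n m : W', f1 (n : ι → F) n ≠ 0 → f1 (m : ι → F) m ≠ 0 → Pr n → Pr m := by
    intro n m hn hm h
    rcases O.small with h4 | h5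
    · exact HW.aniso_induct (by omega) step hn hm h
    by_cases hnm : f1 (n : ι → F) m = 0
    · obtain ⟨t, ht0, ht⟩ : ∃ t : F, t ≠ 0 ∧ f1 (n : ι → F) n + t * t * f1 (m : ι → F) m ≠ 0 := by
        by_contra hcon
        push Not at hcon
        classical
        have := Fintype.ofFinite F
        have hsub : (Finset.univ : Finset F) ⊆ {0, 1, -1} := fun t _ => by
          rcases eq_or_ne t 0 with rfl | ht
          · simp
          have e1 := hcon t ht
          have e2 := hcon 1 one_ne_zero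
          have e3 : (t - 1) * (t + 1) * f1 (m : ι → F) m = 0 := by linear_combination e1 - e2
          rcases mul_eq_zero.1 ((mul_eq_zero.1 e3).resolve_right hm) with e | e
          · simp [sub_eq_zero.1 e]
          · simp [eq_neg_of_add_eq_zero_left e]
        have := (Finset.card_le_card hsub).trans Finset.card_le_three
        rw [Finset.card_univ, ← Nat.card_eq_fintype_card] at this
        omega
      have ea : f1 ((n + t • m : W') : ι → F) (n + t • m : W') ≠ 0 := by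
        push_cast
        simp only [O.h1.add_left, O.h1.add_right, O.h1.smul_left, O.h1.smul_right, hnm, O.h1.symm0 hnm]
        convert ht using 1
        ring
      refine step (n + t • m) m ea hm ?_ (step n (n + t • m) hn ea ?_ h)
      · push_cast
        rw [O.h1.add_left, O.h1.smul_left, hnm, zero_add]
        exact mul_ne_zero ht0 hm
      · push_cast
        rw [O.h1.add_right, O.h1.smul_right, hnm, mul_zero, add_zero]
        exact hn
    · exact step n m hn hm hnm h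
  obtain ⟨a, ha, hax⟩ : ∃ a : W', f1 (a : ι → F) a ≠ 0 ∧ f1 x₀ a ≠ 0 := by
    by_contra hcon
    push Not at hcon
    refine hx₀0 (hnd x₀ ((hW' _).2 hx₀.1) fun b hb => ?_)
    rw [O.h1.symm]
    exact HW.ext_aniso (φ := (O.h1.lin x₀).domRestrict W') (ψ := 0)
      (fun a ha => O.h1.symm0 (hcon a ha)) ⟨b, hb⟩
  have hPa : Pr a := pairs_step O hx₀ ha ((hW' _).1 a.2) hax
  rw [← Submodule.Quotient.mk_eq_zero]
  exact HW.ext_aniso (φ := (Pairs O w).mkQ ∘ₗ W'.subtype) (ψ := 0)
    (fun b hb => (Submodule.Quotient.mk_eq_zero _).2 (spread a b ha hb hPa)) ⟨c, (hW' c).2 hc⟩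

/-- The rank one map of some singular vector. -/
theorem allIn_singular [Finite F] (hex : Ex O) {u : ι → F} (hu : u ≠ 0) (huu : f1 u u = 0) :
    AllIn O ((O.h1.lin u).smulRight u) := by
  obtain ⟨v, hv, T, hT, hin⟩ := hex
  have hTA := allIn_of O hv hin
  obtain ⟨w, hw, c₀, hc₀⟩ : ∃ w, f1 w w ≠ 0 ∧ ∃ c, T (O.h1.refl w c) ≠ O.h1.refl w (T c) := by
    by_contra hc
    push Not at hc
    obtain ⟨ρ, hρ⟩ := O.h1.eigen_scalar (hd3 O) T hc
    obtain ⟨c, hc'⟩ := hT ρ
    exact hc' (hρ c)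
  set ρ := f1 (T w) w / f1 w w with hρ
  set p := T w - ρ • w with hp
  have hpw : f1 p w = 0 := by
    rw [hp, O.h1.sub_left, O.h1.smul_left, hρ, div_mul_cancel₀ _ hw, sub_self]
  have hdiff : ∀ c, O.h1.refl w (T (O.h1.refl w c)) - T c = -(2 / f1 w w) • sm O p w c := fun c => by
    have e : f1 (T c) w = f1 c p + ρ * f1 c w := by
      rw [ing_symm O hv hin, hp, O.h1.sub_right, O.h1.smul_right]
      ring
    simp only [O.h1.refl_apply, map_sub, map_smul, O.h1.sub_left, O.h1.smul_left, e, sm_apply,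
      show T w = p + ρ • w by rw [hp, sub_add_cancel], O.h1.add_left, hpw]
    match_scalars <;> field_simp <;> ring
  have hp0 : p ≠ 0 := fun hp0 => hc₀ (by
    have h1 := hdiff c₀
    rw [hp0, sm_apply, O.h1.zero_right, zero_smul, smul_zero, add_zero, smul_zero, sub_eq_zero] at h1
    conv_rhs => rw [← h1, O.h1.refl_refl hw])
  have hpmem : p ∈ Pairs O w := by
    refine ⟨hpw, ?_⟩
    have h1 : AllIn O (O.h1.refl w ∘ₗ T ∘ₗ O.h1.refl w) := hTA.map (O.h1.refl_isom hw) fun c => by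
      simp only [LinearMap.comp_apply, O.h1.refl_refl hw]
    have h2 := (h1.sub hTA).smul (-(f1 w w / 2))
    convert h2 using 1
    refine LinearMap.ext fun c => ?_
    rw [LinearMap.smul_apply, LinearMap.sub_apply, LinearMap.comp_apply, LinearMap.comp_apply, hdiff,
      smul_smul]
    rw [show -(f1 w w / 2) * -(2 / f1 w w) = 1 by field_simp [O.h1.two], one_smul]
  -- a singular vector with a pair
  obtain ⟨u₀, hu₀, hu₀0⟩ := O.h1.exists_iso (hd3 O)
  obtain ⟨P, hP, hdim⟩ := O.h1.finrank_perp_le ![w, u₀]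
  obtain ⟨a, ha, ha0⟩ := (Submodule.ne_bot_iff P).1 fun e => by
    rw [e, finrank_bot] at hdim
    have := hd3 O
    omega
  have haw : f1 a w = 0 := (hP a).1 ha 0
  have hau : f1 a u₀ = 0 := (hP a).1 ha 1
  obtain ⟨u₁, a₁, hu₁, hu₁u, ha₁, hu₁a⟩ : ∃ u₁ a₁, u₁ ≠ 0 ∧ f1 u₁ u₁ = 0 ∧ f1 a₁ a₁ ≠ 0 ∧
      u₁ ∈ Pairs O a₁ := by
    have haP := pairs_full O hw hpmem hp0 haw
    by_cases haa : f1 a a = 0
    · exact ⟨a, w, ha0, haa, hw, haP⟩
    refine ⟨u₀, a, hu₀, hu₀0, haa, ?_⟩
    exact pairs_full O haa (x₀ := w) ⟨O.h1.symm0 haw, sm_comm O w a ▸ haP.2⟩ (O.h1.ne_zero hw)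
      (O.h1.symm0 hau)
  -- its rank one map
  let E : (ι → F) →ₗ[F] (ι → F) := LinearMap.id + ((O.h1.lin a₁).smulRight u₁ -
    (O.h1.lin u₁).smulRight a₁) - (f1 a₁ a₁ / 2) • (O.h1.lin u₁).smulRight u₁
  have hEc : ∀ c, E c = c + (f1 c a₁ • u₁ - f1 c u₁ • a₁) - (f1 a₁ a₁ / 2) • f1 c u₁ • u₁ := fun c => rfl
  have hua : f1 u₁ a₁ = 0 := hu₁a.1
  have h2 := O.h1.two
  have hEiso : ∀ c d, f1 (E c) (E d) = f1 c d := fun c d => by
    simp only [hEc, O.h1.add_left, O.h1.add_right, O.h1.sub_left, O.h1.sub_right, O.h1.smul_left,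
      O.h1.smul_right, hu₁u, hua, O.h1.symm0 hua, O.h1.symm d a₁, O.h1.symm d u₁]
    field_simp
    ring
  have hEu : E u₁ = u₁ := by
    simp [hEc, hu₁u, hua]
  have hEa : E a₁ = a₁ + f1 a₁ a₁ • u₁ := by
    simp [hEc, O.h1.symm0 hua]
  have hmoved : AllIn O (sm O u₁ (a₁ + f1 a₁ a₁ • u₁)) := hu₁a.2.map hEiso fun c => by
    have := sm_map O u₁ a₁ hEiso c
    rwa [hEu, hEa] at this
  have huu₁ : AllIn O ((O.h1.lin u₁).smulRight u₁) := by
    have h := (hmoved.sub hu₁a.2).smul (2 * f1 a₁ a₁)⁻¹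
    convert h using 1
    refine LinearMap.ext fun c => ?_
    simp only [LinearMap.smul_apply, LinearMap.sub_apply, sm_apply, O.h1.add_right, O.h1.smul_right,
      LinearMap.smulRight_apply, SForm.lin_apply]
    match_scalars <;> field_simp <;> ring
  obtain ⟨L, hL, hLu⟩ := O.h1.exists_move hu₁ hu (hu₁u.trans huu.symm)
  refine huu₁.map hL fun c => ?_
  rw [LinearMap.smulRight_apply, LinearMap.smulRight_apply, map_smul, SForm.lin_apply, SForm.lin_apply,
    ← hLu, hL]

theorem ctr_pure [Finite F] (hex : Ex O) {u : ι → F} (hu : u ≠ 0) (huu : f1 u u = 0) {x : κ → F}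
    (hx : x ≠ 0) : Ctr O (vecMulVec u x) := fun l => by
  obtain ⟨g, hg, hgX⟩ := ((allIn_singular O hex hu huu).smul l) x hx
  refine ⟨g, hg, fun X => ?_⟩
  rw [hgX, LinearMap.smul_apply, LinearMap.smulRight_apply, SForm.lin_apply, ← f_cv O, smul_smul,
    smul_vecMulVec]

theorem ctr_smul {Z : MV} (h : Ctr O Z) (a : F) : Ctr O (a • Z) := fun l => by
  obtain ⟨g, hg, hgX⟩ := h (l * a * a)
  refine ⟨g, hg, fun X => ?_⟩
  rw [hgX, O.h.smul_right, smul_smul]
  congr 2
  ring

theorem ctr_conj {Z : MV} (h : Ctr O Z) {e : MV ≃ₗ[F] MV} (he : e ∈ G) : Ctr O (e Z) := fun l => by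
  obtain ⟨g, hg, hgX⟩ := h l
  refine ⟨e * g * e⁻¹, mul_mem (mul_mem he hg) (inv_mem he), fun X => ?_⟩
  show e (g (e.symm X)) = _
  rw [hgX, map_add, map_smul, e.apply_symm_apply, isom_symm O he]

theorem ctr_move {E Z : MV} (hE : Ctr O E) (hZ : Ctr O Z) (h : f Z E ≠ 0) (c : F) :
    Ctr O (Z + c • E) := by
  obtain ⟨g, hg, hgX⟩ := hE (c / f Z E)
  have := ctr_conj O hZ hg
  rwa [hgX, div_mul_cancel₀ _ h] at this

theorem com_short {x a b y : MV} (ha : Ctr O a) (hb : Ctr O b) (hxa : f x a ≠ 0) (hab : f a b ≠ 0)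
    (hby : f b y ≠ 0) : Com O x y := by
  by_cases h1 : f x b = 0
  · by_cases h2 : f y a = 0
    · refine ⟨a + (1 : F) • b, ctr_move O hb ha hab 1, ?_, ?_⟩
      · rw [one_smul, O.h.add_right, h1, add_zero]
        exact hxa
      · rw [one_smul, O.h.add_right, h2, zero_add]
        exact O.h.symm_ne hby
    · exact ⟨a, ha, hxa, h2⟩
  · exact ⟨b, hb, h1, O.h.symm_ne hby⟩

theorem com_trans {x y z : MV} (hy : Ctr O y) (h : Com O x y) (h' : Com O y z) : Com O x z := by
  obtain ⟨k, hk, hxk, hyk⟩ := h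
  obtain ⟨k', hk', hyk', hzk'⟩ := h'
  obtain ⟨m, hm, hxm, hkm⟩ := com_short O hk hy hxk (O.h.symm_ne hyk) hyk'
  exact com_short O hm hk' hxm (O.h.symm_ne hkm) (O.h.symm_ne hzk')

/-- A singular vector perpendicular to neither of two given ones. -/
theorem avoid_singular {u u' : ι → F} (hu : u ≠ 0) (huu : f1 u u = 0) (hu' : u' ≠ 0)
    (huu' : f1 u' u' = 0) : ∃ s, s ≠ 0 ∧ f1 s s = 0 ∧ f1 s u ≠ 0 ∧ f1 s u' ≠ 0 := by
  by_cases h : f1 u u' = 0
  · obtain ⟨s, hsu, hsu'⟩ : ∃ s, f1 s u ≠ 0 ∧ f1 s u' ≠ 0 := by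
      obtain ⟨a, ha⟩ := O.h1.exists_left hu
      obtain ⟨b, hb⟩ := O.h1.exists_left hu'
      by_cases h1 : f1 a u' = 0
      · by_cases h2 : f1 b u = 0
        · exact ⟨a + b, by rw [O.h1.add_left, ha, h2, add_zero]; exact one_ne_zero,
            by rw [O.h1.add_left, h1, hb, zero_add]; exact one_ne_zero⟩
        · exact ⟨b, h2, by rw [hb]; exact one_ne_zero⟩
      · exact ⟨a, by rw [ha]; exact one_ne_zero, h1⟩
    set s' := s - (f1 s s / (2 * f1 s u)) • u with hs'
    have e1 : f1 s' u = f1 s u := by rw [hs', O.h1.sub_left, O.h1.smul_left, huu, mul_zero, sub_zero]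
    refine ⟨s', fun e => hsu (by rw [← e1, e, O.h1.zero_left]), ?_, by rwa [e1],
      by rw [hs', O.h1.sub_left, O.h1.smul_left, h, mul_zero, sub_zero]; exact hsu'⟩
    have h2 := O.h1.two
    rw [hs']
    simp only [O.h1.sub_left, O.h1.sub_right, O.h1.smul_left, O.h1.smul_right, huu, O.h1.symm s u]
    field_simp
    ring
  · obtain ⟨P, hP, hdim⟩ := O.h1.finrank_perp_le ![u, u']
    obtain ⟨k, hk, hkk⟩ : ∃ k ∈ P, f1 k k ≠ 0 := by
      by_contra hc
      push Not at hc
      obtain ⟨k, hk, hk0⟩ := (Submodule.ne_bot_iff P).1 fun e => by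
        rw [e, finrank_bot] at hdim
        have := hd3 O
        omega
      refine hk0 (O.h1.nondeg k fun d => ?_)
      have hd' : d - (f1 d u' / f1 u u') • u - (f1 d u / f1 u u') • u' ∈ P := (hP _).2 fun i => by
        fin_cases i
        · show f1 _ u = 0
          rw [O.h1.sub_left, O.h1.sub_left, O.h1.smul_left, O.h1.smul_left, huu, O.h1.symm u u',
            div_mul_cancel₀ _ h]
          ring
        · show f1 _ u' = 0
          rw [O.h1.sub_left, O.h1.sub_left, O.h1.smul_left, O.h1.smul_left, huu',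
            div_mul_cancel₀ _ h]
          ring
      have := O.h1.polar_zero hc hk hd'
      rwa [O.h1.sub_right, O.h1.sub_right, O.h1.smul_right, O.h1.smul_right,
        show f1 k u = 0 from (hP k).1 hk 0, show f1 k u' = 0 from (hP k).1 hk 1, mul_zero, mul_zero,
        sub_zero, sub_zero] at this
    have hku : f1 k u = 0 := (hP k).1 hk 0
    have hku' : f1 k u' = 0 := (hP k).1 hk 1
    refine ⟨u + (-f1 k k / (2 * f1 u u')) • u' + k, fun e => ?_, ?_, ?_, ?_⟩
    · have := congrArg (fun z => f1 z k) e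
      simp only [O.h1.add_left, O.h1.smul_left, O.h1.zero_left, O.h1.symm0 hku, O.h1.symm0 hku'] at this
      simp [hkk] at this
    · have h2 := O.h1.two
      simp only [O.h1.add_left, O.h1.add_right, O.h1.smul_left, O.h1.smul_right, huu, huu', hku, hku',
        O.h1.symm0 hku, O.h1.symm0 hku', O.h1.symm u u']
      field_simp
      ring
    · rw [O.h1.add_left, O.h1.add_left, O.h1.smul_left, huu, hku, O.h1.symm u u']
      simp [h, hkk, O.h1.two]
    · rw [O.h1.add_left, O.h1.add_left, O.h1.smul_left, huu', hku']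
      simpa using h

/-- All vectors are centres. -/
theorem ctr_all [Finite F] (hex : Ex O) (Y : MV) : Ctr O Y := by
  obtain ⟨u₀, hu₀, hu₀0⟩ := O.h1.exists_iso (hd3 O)
  have hsing : ∀ c, (∀ u, u ≠ 0 → f1 u u = 0 → f1 c u = 0) → c = 0 := fun c hc => by
    refine O.h1.nondeg c fun d => ?_
    rw [O.h1.symm]
    have hn : ∀ a, f1 a a ≠ 0 → f1 u₀ a ≠ 0 → f1 a c = 0 := fun a ha hua => by
      have hne : O.h1.refl a u₀ ≠ 0 := fun e => hu₀ (by rw [← O.h1.refl_refl ha u₀, e, map_zero])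
      have h1 := hc _ hne (by rw [O.h1.refl_isom ha, hu₀0])
      rw [O.h1.refl_apply, O.h1.sub_right, hc u₀ hu₀ hu₀0, O.h1.smul_right, zero_sub, neg_eq_zero] at h1
      rw [O.h1.symm]
      exact (mul_eq_zero.1 h1).resolve_left (mul_ne_zero (div_ne_zero O.h1.two ha) hua)
    refine O.h1.ext_aniso (φ := O.h1.lin c) (ψ := 0) (fun a ha => ?_) d
    show f1 a c = 0
    by_cases hua : f1 u₀ a = 0
    · obtain ⟨s, hs0, hss, hsu, -⟩ := avoid_singular O hu₀ hu₀0 hu₀ hu₀0
      have hus : f1 u₀ s ≠ 0 := fun e => hsu (O.h1.symm0 e)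
      have hcs : f1 s c = 0 := O.h1.symm0 (hc s hs0 hss)
      have key : ∀ t : F, t ≠ 0 → f1 (a + t • s) (a + t • s) ≠ 0 → f1 a c = 0 := fun t ht hat => by
        have := hn _ hat (by
          rw [O.h1.add_right, O.h1.smul_right, hua, zero_add]
          exact mul_ne_zero ht hus)
        rwa [O.h1.add_left, O.h1.smul_left, hcs, mul_zero, add_zero] at this
      by_cases h1 : f1 (a + (1 : F) • s) (a + (1 : F) • s) = 0
      · refine key (-1) (neg_ne_zero.2 one_ne_zero) fun h2 => ha ?_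
        simp only [O.h1.add_left, O.h1.add_right, O.h1.smul_left, O.h1.smul_right, hss] at h1 h2
        exact (mul_eq_zero.1 (show (2 : F) * f1 a a = 0 by linear_combination h1 + h2)).resolve_left
          O.h1.two
      · exact key 1 one_ne_zero h1
    · exact hn a ha hua
  let PC : Set MV := {p | ∃ u x, u ≠ 0 ∧ f1 u u = 0 ∧ x ≠ 0 ∧ p = vecMulVec u x}
  have hPC : ∀ p ∈ PC, Ctr O p := fun p ⟨u, x, hu, huu, hx, hp⟩ => hp ▸ ctr_pure O hex hu huu hx
  have hnb : ∀ X : MV, X ≠ 0 → ∃ p ∈ PC, f X p ≠ 0 := fun X hX => by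
    by_contra hc
    push Not at hc
    refine hX (O.h.nondeg X fun Z => ext_pure (A := -(O.h.lin X)) (B := 0) (fun c x => ?_) Z |>
      fun e => by
        have e' : -f Z X = 0 := e
        rw [O.h.swap, ← neg_eq_zero]
        simpa using neg_eq_zero.1 e')
    show -f (vecMulVec c x) X = 0
    rcases eq_or_ne x 0 with rfl | hx
    · rw [vmv_zero, O.h.zero_left, neg_zero]
    have : cv O x X = 0 := hsing _ fun u hu huu => by
      rw [← f_cv O]
      exact hc _ ⟨u, x, hu, huu, hx, rfl⟩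
    rw [f_cv' O, this, O.h1.zero_left, neg_zero, neg_zero]
  have hcomP : ∀ p ∈ PC, ∀ q ∈ PC, Com O p q := by
    rintro _ ⟨u, x, hu, huu, hx, rfl⟩ _ ⟨u', x', hu', huu', hx', rfl⟩
    obtain ⟨s, hs0, hss, hsu, hsu'⟩ := avoid_singular O hu huu hu' huu'
    obtain ⟨z, hzx, hzx'⟩ := avoid_two O.h2 hx hx'
    refine ⟨_, hPC _ ⟨s, z, hs0, hss, O.h2.ne_zero_left hzx, rfl⟩, ?_, ?_⟩
    · rw [O.f_pure]
      exact mul_ne_zero (fun e => hsu (O.h1.symm0 e)) (O.h2.symm_ne hzx)
    · rw [O.f_pure]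
      exact mul_ne_zero (fun e => hsu' (O.h1.symm0 e)) (O.h2.symm_ne hzx')
  have hcom : ∀ X Z, X ≠ 0 → Z ≠ 0 → Com O X Z := fun X Z hX hZ => by
    obtain ⟨p, hp, hXp⟩ := hnb X hX
    obtain ⟨q, hq, hZq⟩ := hnb Z hZ
    obtain ⟨m, hm, hpm, hqm⟩ := hcomP p hp q hq
    obtain ⟨k, hk, hXk, hqk⟩ := com_short O (hPC p hp) hm hXp hpm (O.h.symm_ne hqm)
    exact com_short O hk (hPC q hq) hXk (O.h.symm_ne hqk) (O.h.symm_ne hZq)
  have hadd : ∀ X Z, Ctr O X → Ctr O Z → Ctr O (X + Z) := by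
    intro X Z hX hZ
    rcases eq_or_ne X 0 with rfl | hX0
    · rwa [zero_add]
    rcases eq_or_ne Z 0 with rfl | hZ0
    · rwa [add_zero]
    by_cases hXZ : f X Z = 0
    swap
    · simpa using ctr_move O hZ hX hXZ 1
    rcases eq_or_ne (X + Z) 0 with e | hs
    · rw [e]
      simpa using ctr_smul O hX 0
    have good : ∀ k, Ctr O k → f X k ≠ 0 → f Z k ≠ 0 → f (X + Z) k ≠ 0 → Ctr O (X + Z) :=
      fun k hk h1 h2 h3 => by
        have hY1 := ctr_move O hk hX h1 1
        rw [one_smul] at hY1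
        have hY2 := ctr_move O hZ hY1 (by
          rw [O.h.add_left, hXZ, zero_add]
          exact O.h.symm_ne h2) 1
        rw [one_smul] at hY2
        have := ctr_move O hk hY2 (by
          rwa [O.h.add_left, O.h.add_left, O.h.self, add_zero, ← O.h.add_left]) (-1)
        convert this using 1
        module
    obtain ⟨k, hk, hXk, hZk⟩ := hcom X Z hX0 hZ0
    by_cases hk3 : f (X + Z) k = 0
    swap
    · exact good k hk hXk hZk hk3
    obtain ⟨m, hmP, hm⟩ := hnb _ hs
    have hm' := hPC m hmP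
    -- a centre changing the values at the two
    have main : ∀ A B, Ctr O A → Ctr O B → f A B = 0 → f A k ≠ 0 → f (A + B) k = 0 → f A m = 0 →
        f B m ≠ 0 → ∃ k', Ctr O k' ∧ f A k' ≠ 0 ∧ f B k' ≠ 0 ∧ f (A + B) k' ≠ 0 := by
      intro A B hA hB hAB hAk hsk hAm hBm
      obtain ⟨m', hm'', hAm', hBm', hkm⟩ : ∃ m', Ctr O m' ∧ f A m' = 0 ∧ f B m' ≠ 0 ∧ f k m' ≠ 0 := by
        by_cases hkm : f k m = 0
        · refine ⟨m + (1 : F) • B, ctr_move O hB hm' (O.h.symm_ne hBm) 1, ?_, ?_, ?_⟩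
          · rw [one_smul, O.h.add_right, hAm, hAB, add_zero]
          · rwa [one_smul, O.h.add_right, O.h.self, add_zero]
          · rw [one_smul, O.h.add_right, hkm, zero_add]
            refine fun e => hAk ?_
            rw [O.h.add_left] at hsk
            rw [O.h.symm0 e, add_zero] at hsk
            exact hsk
        · exact ⟨m, hm', hAm, hBm, hkm⟩
      have hBk : f B k = -f A k := by
        rw [O.h.add_left] at hsk
        linear_combination hsk
      obtain ⟨c, hc0, hc1⟩ : ∃ c : F, c ≠ 0 ∧ -f A k + c * f B m' ≠ 0 := by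
        by_cases h1 : -f A k + 1 * f B m' = 0
        · refine ⟨-1, neg_ne_zero.2 one_ne_zero, fun h2 => hAk ?_⟩
          exact (mul_eq_zero.1 (show (2 : F) * f A k = 0 by linear_combination -h1 - h2)).resolve_left
            O.h1.two
        · exact ⟨1, one_ne_zero, h1⟩
      refine ⟨k + c • m', ctr_move O hm'' hk hkm c, ?_, ?_, ?_⟩
      · rwa [O.h.add_right, O.h.smul_right, hAm', mul_zero, add_zero]
      · rwa [O.h.add_right, O.h.smul_right, hBk]
      · rw [O.h.add_right, hsk, zero_add, O.h.smul_right, O.h.add_left, hAm', zero_add]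
        exact mul_ne_zero hc0 hBm'
    by_cases h1 : f X m = 0
    · rw [O.h.add_left, h1, zero_add] at hm
      obtain ⟨k', a, b, c, d⟩ := main X Z hX hZ hXZ hXk hk3 h1 hm
      exact good k' a b c d
    · by_cases h2 : f Z m = 0
      · obtain ⟨k', a, b, c, d⟩ := main Z X hZ hX (O.h.symm0 hXZ) hZk (by rwa [add_comm]) h2 h1
        exact good k' a c b (by rwa [add_comm])
      · exact good m hm' h1 h2 hm
  let S : Submodule F MV :=
    { carrier := {Z | Ctr O Z}
      zero_mem' := fun l => ⟨1, one_mem G, fun X => by simp⟩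
      add_mem' := fun {a b} ha hb => hadd a b ha hb
      smul_mem' := fun t a ha => ctr_smul O ha t }
  suffices hS : ∀ c x, vecMulVec c x ∈ S by
    show Y ∈ S
    rw [← Submodule.Quotient.mk_eq_zero]
    exact ext_pure (A := S.mkQ) (B := 0) (fun c x => (Submodule.Quotient.mk_eq_zero S).2 (hS c x)) Y
  intro c x
  rcases eq_or_ne x 0 with rfl | hx
  · rw [vmv_zero]
    exact S.zero_mem
  let SP : Submodule F (ι → F) := S.comap (colMap x)
  by_contra hc
  obtain ⟨φ, hφ, hφS⟩ := Submodule.exists_dual_map_eq_bot_of_notMem (p := SP) hc inferInstance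
  obtain ⟨d, hd⟩ := O.h1.exists_repr φ
  refine hφ ?_
  rw [hd c, hsing d fun u hu huu => ?_, O.h1.zero_right]
  rw [O.h1.symm, ← hd u]
  exact (Submodule.mem_bot F).1 (hφS ▸ Submodule.mem_map_of_mem (show u ∈ SP from
    ctr_pure O hex hu huu hx))

end

end CfsgLib.MaxSub.TensorSympOrth
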