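/-
Stabilisers of tensor products of an orthogonal and a symplectic space are maximal in symplectic groups.
-/
import Cfsg.Agent.Lib.MaxSub.TensorSympOrth.Climb
import Cfsg.Agent.Lib.MaxSub.TensorSympOrth.Exit
import Cfsg.Agent.Lib.MaxSub.TensorLin.Main
import Cfsg.Agent.Lib.MaxSub.SubspaceMaximal
import Cfsg.Agent.Lib.Aschbacher.Tensor

set_option autoImplicit false
set_option maxHeartbeats 400000
set_option linter.unusedSectionVars false

namespace CfsgLib.MaxSub.TensorSympOrth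

open Matrix Module
open CfsgLib.MaxSub.TensorSymp (AForm)
open CfsgLib.MaxSub.TensorLin (Col colMap colMap_apply mem_col vmv_eq_zero vmv_zero NP exists_dot_one
  exists_dot_pair flat mmap mmap_apply mmap_kron vm mvMap)
open CfsgLib.Aschbacher (sT sT_mem sT_mulVec sympForm_alt)
open scoped Kronecker

section

variable {F : Type*} [Field F] {ι κ : Type} [Fintype ι] [Fintype κ] [DecidableEq ι] [DecidableEq κ]
variable {f1 : (ι → F) → (ι → F) → F} {f2 : (κ → F) → (κ → F) → F}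
  {f : Matrix ι κ F → Matrix ι κ F → F} {G : Subgroup (Matrix ι κ F ≃ₗ[F] Matrix ι κ F)}

local notation "MV" => Matrix ι κ F

/-- An element moving a pure member to one that is not pure, or of pure type. -/
theorem exists_np (O : SO f1 f2 f G) {g : MV ≃ₗ[F] MV} (hg : g ∈ G)
    (hnot : ¬ ∃ (A : Matrix ι ι F) (B : Matrix κ κ F), ∀ X, g X = A * X * B) :
    ∃ W, Mem G W ∧ NP W := by
  by_contra hcon
  simp only [NP, not_exists, not_and, not_forall, not_not] at hcon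
  have hpure : ∀ x : κ → F, x ≠ 0 → ∃ v, (Col x).map g.toLinearMap = Col (ι := ι) v :=
    fun x hx => hcon _ ⟨g, hg, x, hx, rfl⟩
  have := O.b3
  obtain ⟨i₀⟩ : Nonempty ι := Fintype.card_pos_iff.1 (by omega)
  choose! v hv using hpure
  have hmem : ∀ x, x ≠ 0 → ∀ c, g (vecMulVec c x) ∈ Col (ι := ι) (v x) := fun x hx c =>
    hv x hx ▸ ⟨_, mem_col.2 ⟨c, rfl⟩, rfl⟩
  have hv0 : ∀ x, x ≠ 0 → v x ≠ 0 := fun x hx h => by
    obtain ⟨c, hc⟩ := mem_col.1 (hmem x hx (Pi.single i₀ 1))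
    rw [h, vmv_zero] at hc
    exact vmv_ne_zero (by simp) hx (g.map_eq_zero_iff.1 hc.symm)
  choose! ρ hρ using fun x (hx : v x ≠ 0) => exists_dot_one hx
  let ψ : (κ → F) → (ι → F) →ₗ[F] (ι → F) := fun x => mvMap (ρ x) ∘ₗ g.toLinearMap ∘ₗ colMap x
  have hψ : ∀ x, x ≠ 0 → ∀ c, g (vecMulVec c x) = vecMulVec (ψ x c) (v x) := fun x hx c => by
    obtain ⟨c', hc'⟩ := mem_col.1 (hmem x hx c)
    show _ = vecMulVec (g (vecMulVec c x) *ᵥ ρ x) (v x)
    rw [← hc', vm, hρ x (hv0 x hx), one_smul]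
  have hinj : ∀ x, x ≠ 0 → ∀ c, ψ x c = 0 → c = 0 := fun x hx c hc => by
    have := hψ x hx c
    rw [hc, zero_vecMulVec, g.map_eq_zero_iff, vmv_eq_zero] at this
    exact this.resolve_right hx
  have hprop : ∀ x z, x ≠ 0 → z ∉ F ∙ x → ∃ t : F, ∀ c, ψ z c = t • ψ x c := by
    intro x z hx hzn
    have hz : z ≠ 0 := fun e => hzn (by rw [e]; exact zero_mem _)
    have hs0 : x + z ≠ 0 := fun e => hzn (by
      rw [eq_neg_of_add_eq_zero_right e]
      exact Submodule.neg_mem _ (Submodule.mem_span_singleton_self x))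
    have hsep : v z ∉ F ∙ v x := fun hm => by
      obtain ⟨s, hs⟩ := Submodule.mem_span_singleton.1 hm
      have h1 : g (vecMulVec (Pi.single i₀ 1) z) ∈ (Col x).map g.toLinearMap := by
        rw [hv x hx]
        exact mem_col.2 ⟨s • ψ z (Pi.single i₀ 1), by
          rw [hψ z hz, ← hs, vmv_smul, smul_vecMulVec]⟩
      obtain ⟨Y, hY, hYe⟩ := h1
      obtain ⟨d, rfl⟩ := mem_col.1 hY
      have he : vecMulVec d x = vecMulVec (Pi.single i₀ 1 : ι → F) z := g.injective hYe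
      refine hzn (Submodule.mem_span_singleton.2 ⟨d i₀, funext fun j => ?_⟩)
      have := congrFun (congrFun he i₀) j
      simpa [vecMulVec_apply] using this
    have hsep' : v x ∉ F ∙ v z := fun hm => hsep (by
      obtain ⟨s, hs⟩ := Submodule.mem_span_singleton.1 hm
      exact Submodule.mem_span_singleton.2 ⟨s⁻¹, by
        rw [← hs, smul_smul, inv_mul_cancel₀ fun e : s = 0 => hv0 x hx (by rw [← hs, e, zero_smul]),
          one_smul]⟩)
    obtain ⟨μ, hμ1, hμ2⟩ := exists_dot_pair hsep'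
    obtain ⟨μ', hμ'1, hμ'2⟩ := exists_dot_pair hsep
    set v'' := v (x + z) with hv''
    have hd : ∀ c, vecMulVec (ψ (x + z) c) v''
        = vecMulVec (ψ x c) (v x) + vecMulVec (ψ z c) (v z) := fun c => by
      rw [hv'', ← hψ _ hs0, ← hψ x hx, ← hψ z hz, vecMulVec_add, map_add]
    have e1 : ∀ c, ψ x c = (v'' ⬝ᵥ μ) • ψ (x + z) c := fun c => by
      have := congrArg (fun X : MV => X *ᵥ μ) (hd c)
      simpa [add_mulVec, vm, hμ1, hμ2] using this.symm
    have e2 : ∀ c, ψ z c = (v'' ⬝ᵥ μ') • ψ (x + z) c := fun c => by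
      have := congrArg (fun X : MV => X *ᵥ μ') (hd c)
      simpa [add_mulVec, vm, hμ'1, hμ'2] using this.symm
    have hne : v'' ⬝ᵥ μ ≠ 0 := fun h => by
      have := hinj x hx (Pi.single i₀ 1) (by rw [e1, h, zero_smul])
      simp at this
    exact ⟨(v'' ⬝ᵥ μ') * (v'' ⬝ᵥ μ)⁻¹, fun c => by
      rw [e1, e2, smul_smul, mul_assoc, inv_mul_cancel₀ hne, mul_one]⟩
  have hb := O.a2
  obtain ⟨j₀⟩ : Nonempty κ := Fintype.card_pos_iff.1 (by omega)
  set x₀ : κ → F := Pi.single j₀ 1 with hx₀d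
  have hx₀ : x₀ ≠ 0 := by simp [hx₀d]
  have hall : ∀ y, y ≠ 0 → ∃ t : F, ∀ c, ψ y c = t • ψ x₀ c := by
    intro y hy
    by_cases hm : y ∈ F ∙ x₀
    · obtain ⟨z, hzn⟩ : ∃ z, z ∉ F ∙ x₀ := by
        obtain ⟨z, hz'⟩ := O.h2.exists_left hx₀
        exact ⟨z, fun hm => one_ne_zero (hz'.symm.trans (O.h2.perp_span hm))⟩
      have hz : z ≠ 0 := fun e => hzn (by rw [e]; exact zero_mem _)
      obtain ⟨t, ht⟩ := hprop x₀ z hx₀ hzn
      obtain ⟨t', ht'⟩ := hprop z y hz fun h => hzn (by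
        obtain ⟨r, rfl⟩ := Submodule.mem_span_singleton.1 h
        have hr : r ≠ 0 := fun e => hy (by rw [e, zero_smul])
        have := Submodule.smul_mem _ r⁻¹ hm
        rwa [smul_smul, inv_mul_cancel₀ hr, one_smul] at this)
      exact ⟨t' * t, fun c => by rw [ht', ht, smul_smul]⟩
    · exact hprop x₀ y hx₀ hm
  obtain ⟨η, hη⟩ := exists_dot_one
    (show ψ x₀ (Pi.single i₀ 1) ≠ 0 from fun h => by simpa using hinj x₀ hx₀ _ h)
  let L : (κ → F) →ₗ[F] (κ → F) :=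
    { toFun := fun z => η ᵥ* g (vecMulVec (Pi.single i₀ 1) z)
      map_add' := fun a b => by rw [vecMulVec_add, map_add, vecMul_add]
      map_smul' := fun t a => by rw [vmv_smul, map_smul, vecMul_smul, RingHom.id_apply] }
  refine hnot ⟨LinearMap.toMatrix' (ψ x₀), (LinearMap.toMatrix' L)ᵀ, fun X => ?_⟩
  refine ext_pure (A := g.toLinearMap) (B :=
    { toFun := fun X => LinearMap.toMatrix' (ψ x₀) * X * (LinearMap.toMatrix' L)ᵀ
      map_add' := fun a b => by rw [Matrix.mul_add, Matrix.add_mul]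
      map_smul' := fun t a => by rw [Matrix.mul_smul, Matrix.smul_mul, RingHom.id_apply] }) (fun c z => ?_) X
  show g (vecMulVec c z) = LinearMap.toMatrix' (ψ x₀) * vecMulVec c z * (LinearMap.toMatrix' L)ᵀ
  rw [mul_vecMulVec, vecMulVec_mul, LinearMap.toMatrix'_mulVec, Matrix.vecMul_transpose,
    LinearMap.toMatrix'_mulVec]
  rcases eq_or_ne z 0 with rfl | hz
  · rw [map_zero, vmv_zero, vmv_zero, map_zero]
  obtain ⟨t, ht⟩ := hall z hz
  show _ = vecMulVec (ψ x₀ c) (η ᵥ* g (vecMulVec (Pi.single i₀ 1) z))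
  rw [hψ z hz, hψ z hz, ht, ht, vecMul_vecMulVec, dotProduct_smul, dotProduct_comm, hη,
    smul_vecMulVec, vmv_smul, smul_eq_mul, mul_one]

end


variable {F : Type*} [Field F]

/-- The action on matrices, transposed. -/
noncomputable def conjT (a b : ℕ) :
    (Matrix (Fin a) (Fin b) F ≃ₗ[F] Matrix (Fin a) (Fin b) F) →*
      (Matrix (Fin b) (Fin a) F ≃ₗ[F] Matrix (Fin b) (Fin a) F) where
  toFun g := ((Matrix.transposeLinearEquiv (Fin b) (Fin a) F F).trans g).trans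
    (Matrix.transposeLinearEquiv (Fin a) (Fin b) F F)
  map_one' := LinearEquiv.ext fun X => rfl
  map_mul' g h := LinearEquiv.ext fun X => rfl

theorem conjT_apply {a b : ℕ} (g : Matrix (Fin a) (Fin b) F ≃ₗ[F] Matrix (Fin a) (Fin b) F)
    (X : Matrix (Fin b) (Fin a) F) : conjT a b g X = (g Xᵀ)ᵀ := rfl

/-- The matrix of an isometry. -/
theorem isom_matrix {k : ℕ} (h : (Fin k → F) → (Fin k → F) → F)
    (hnd : ∀ x, (∀ y, h x y = 0) → x = 0) (hz : ∀ y, h 0 y = 0)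
    (L : (Fin k → F) →ₗ[F] (Fin k → F)) (hL : ∀ c d, h (L c) (L d) = h c d) :
    ∃ A : GL (Fin k) F, ∀ x, (A : Matrix (Fin k) (Fin k) F) *ᵥ x = L x := by
  have hinj : Function.Injective fun x => LinearMap.toMatrix' L *ᵥ x := by
    intro x y e
    simp only [LinearMap.toMatrix'_mulVec] at e
    exact sub_eq_zero.1 (hnd _ fun z => by rw [← hL, map_sub, e, sub_self, hz])
  exact ⟨(Matrix.mulVec_injective_iff_isUnit.1 hinj).unit, fun x => LinearMap.toMatrix'_mulVec L x⟩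

/-- The stabiliser of a tensor product of a symplectic and an orthogonal space is maximal, in dimensions two and
four also for an orthogonal space without totally isotropic planes. -/
theorem sp_tensor_maximal_of [Fintype F] {a b m : ℕ} (hb : 3 ≤ b)
    (hq : Odd (Fintype.card F))
    (hsmall : 4 ≤ b ∨ 5 ≤ Fintype.card F) (e : (Fin m ⊕ Fin m) ≃ Fin a × Fin b)
    (P : GL (Fin m ⊕ Fin m) F) (f₁ : (Fin a → F) → (Fin a → F) → F)
    (f₂ : (Fin b → F) → (Fin b → F) → F) (hdims : (a = 2 ∧ (b = 3 ∨ 5 ≤ b ∨ (b = 4 ∧ NoPlane f₂))) ∨ 3 ≤ a)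
    (hf₁ : Cfsg.Geo.IsSymplecticForm f₁)
    (hf₂ : Cfsg.Geo.IsSymmetricForm f₂)
    (hT : Cfsg.Geo.IsTensorFormStructure id (Cfsg.sympForm m F) f₁ f₂ e P) :
    Cfsg.Geo.IsMaximalIn (Cfsg.spGL m F)
      (Cfsg.Geo.tensorProductSubgroup a b e P ⊓ Cfsg.spGL m F) := by
  have h2 : (2 : F) ≠ 0 := fun h => by
    haveI : CharP F 2 := CharTwo.of_one_ne_zero_of_two_eq_zero one_ne_zero h
    have := FiniteField.even_card_of_char_two (F := F) (ringChar.eq F 2)
    rw [Nat.odd_iff] at hq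
    omega
  have ha : 2 ≤ a := by rcases hdims with ⟨h, -⟩ | h <;> omega
  have hprop := CfsgLib.Aschbacher.spGL_not_le_tensorProductSubgroup ha (by omega) e P
  refine ⟨lt_of_le_of_ne inf_le_right fun h => hprop (h ▸ inf_le_left), fun K hK hKG => ?_⟩
  by_cases hin : K ≤ Cfsg.Geo.tensorProductSubgroup a b e P
  · exact Or.inl (le_antisymm (le_inf hin hKG) hK)
  refine Or.inr (le_antisymm hKG ?_)
  rw [Cfsg.Geo.tensorProductSubgroup, CfsgLib.Aschbacher.map_glReindex_conj] at hK hin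
  have H2 : AForm f₁ :=
    { add_left := hf₁.bilinear.add_left
      smul_left := hf₁.bilinear.smul_left
      self := hf₁.alternating
      swap := fun x y => hf₁.skew y x
      nondeg := fun x hx => by
        by_contra hc
        obtain ⟨y, hy⟩ := (hf₁.nondegenerate x hc).2
        exact hy (hx y) }
  have H1 : SForm f₂ :=
    { add_left := hf₂.bilinear.add_left
      smul_left := hf₂.bilinear.smul_left
      symm := fun x y => hf₂.symm y x
      nondeg := fun x hx => by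
        by_contra hc
        obtain ⟨y, hy⟩ := (hf₂.nondegenerate x hc).2
        exact hy (hx y)
      two := h2 }
  obtain ⟨c, hc0, hcT⟩ := hT
  let Φ : Matrix (Fin b) (Fin a) F →ₗ[F] (Fin m ⊕ Fin m → F) :=
    (Matrix.toLin' (P : Matrix (Fin m ⊕ Fin m) (Fin m ⊕ Fin m) F)).comp ((LinearMap.funLeft F F e).comp
      (flat.toLinearMap.comp (Matrix.transposeLinearEquiv (Fin b) (Fin a) F F).toLinearMap))
  have hΦ : ∀ X, Φ X = (P : Matrix (Fin m ⊕ Fin m) (Fin m ⊕ Fin m) F) *ᵥ (flat Xᵀ ∘ e) := fun X => rfl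
  let f : Matrix (Fin b) (Fin a) F → Matrix (Fin b) (Fin a) F → F :=
    fun X Y => c⁻¹ * Cfsg.sympForm m F (Φ X) (Φ Y)
  have hcf : ∀ X Y, Cfsg.sympForm m F (Φ X) (Φ Y) = c * f X Y := fun X Y => by
    show _ = c * (c⁻¹ * _)
    rw [mul_inv_cancel_left₀ hc0]
  have hg1 : ∀ u v, f₁ u v = ∑ i, ∑ j, u i * Cfsg.Geo.gramMatrix f₁ i j * v j := fun u v => by
    conv_lhs => rw [pi_eq_sum_univ' u, pi_eq_sum_univ' v, H2.sum_left]
    refine Finset.sum_congr rfl fun i _ => ?_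
    rw [H2.smul_left, H2.sum_right, Finset.mul_sum]
    refine Finset.sum_congr rfl fun j _ => ?_
    rw [H2.smul_right, mul_comm (v j), ← mul_assoc]
    rfl
  have hg2 : ∀ u v, f₂ u v = ∑ i, ∑ j, u i * Cfsg.Geo.gramMatrix f₂ i j * v j := fun u v => by
    conv_lhs => rw [pi_eq_sum_univ' u, pi_eq_sum_univ' v, H1.sum_left]
    refine Finset.sum_congr rfl fun i _ => ?_
    rw [H1.smul_left, H1.sum_right, Finset.mul_sum]
    refine Finset.sum_congr rfl fun j _ => ?_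
    rw [H1.smul_right, mul_comm (v j), ← mul_assoc]
    rfl
  have hfp : ∀ c' d v w, f (vecMulVec c' v) (vecMulVec d w) = f₂ c' d * f₁ v w := fun c' d v w => by
    have h := hcT (flat (vecMulVec c' v)ᵀ) (flat (vecMulVec d w)ᵀ)
    show c⁻¹ * _ = _
    rw [hΦ, hΦ, h, inv_mul_cancel_left₀ hc0, hg1, hg2, Cfsg.Geo.formOfGram, Fintype.sum_prod_type,
      mul_comm (∑ i, _), Finset.sum_mul_sum]
    refine Finset.sum_congr rfl fun i _ => Finset.sum_congr rfl fun k _ => ?_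
    rw [Fintype.sum_prod_type, Finset.sum_mul_sum]
    refine Finset.sum_congr rfl fun j _ => Finset.sum_congr rfl fun l _ => ?_
    show c' k * v i * (Cfsg.Geo.gramMatrix f₁ i j * Cfsg.Geo.gramMatrix f₂ k l) * (d l * w j) = _
    ring
  have hΦsurj : Function.Surjective Φ := fun u =>
    ⟨(flat.symm ((((P⁻¹ : GL (Fin m ⊕ Fin m) F) : Matrix (Fin m ⊕ Fin m) (Fin m ⊕ Fin m) F) *ᵥ u)
        ∘ e.symm))ᵀ, by
      rw [hΦ, Matrix.transpose_transpose, LinearEquiv.apply_symm_apply, Function.comp_assoc,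
        Equiv.symm_comp_self, Function.comp_id, mulVec_mulVec, Units.mul_inv, one_mulVec]⟩
  have hΦinj : ∀ X, Φ X = 0 → X = 0 := fun X hX => by
    have h1 := congrArg
      (((P⁻¹ : GL (Fin m ⊕ Fin m) F) : Matrix (Fin m ⊕ Fin m) (Fin m ⊕ Fin m) F) *ᵥ ·) hX
    simp only [hΦ, mulVec_mulVec, Units.inv_mul, one_mulVec, mulVec_zero] at h1
    refine Matrix.transpose_eq_zero.1 (flat.map_eq_zero_iff.1 (funext fun p => ?_))
    simpa using congrFun h1 (e.symm p)
  have hB := (CfsgLib.Aschbacher.isRefl_sympForm (F := F) m).sesq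
  have hfadd : ∀ X Y Z, f (X + Y) Z = f X Z + f Y Z := fun X Y Z => by
    show c⁻¹ * _ = c⁻¹ * _ + c⁻¹ * _
    rw [map_add, hB.add_left, mul_add]
  have hfsmul : ∀ (t : F) X Z, f (t • X) Z = t * f X Z := fun t X Z => by
    show c⁻¹ * _ = t * (c⁻¹ * _)
    rw [map_smul, hB.smul_left]
    ring
  have hfswap : ∀ X Y, f Y X = -f X Y := fun X Y => by
    show c⁻¹ * _ = -(c⁻¹ * _)
    have h := sympForm_alt (F := F) m (Φ X + Φ Y)
    rw [hB.add_left, hB.add_right, hB.add_right, sympForm_alt, sympForm_alt] at h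
    linear_combination c⁻¹ * h
  have HF : AForm f :=
    { add_left := hfadd
      smul_left := hfsmul
      self := fun X => by
        show c⁻¹ * _ = 0
        rw [sympForm_alt, mul_zero]
      swap := hfswap
      nondeg := fun X hX => hΦinj X (by
        by_contra hne
        obtain ⟨u, hu⟩ := (CfsgLib.Aschbacher.isRefl_sympForm (F := F) m |>.nondeg _ hne).2
        obtain ⟨Y, rfl⟩ := hΦsurj u
        exact hu (by rw [hcf, hX, mul_zero])) }
  -- the group
  let KK := K.comap (CfsgLib.Aschbacher.frU e P).toMonoidHom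
  let mm : GL (Fin a × Fin b) F →* _ := (conjT a b).comp mmap
  have hact : ∀ (M : GL (Fin a × Fin b) F) X,
      ((CfsgLib.Aschbacher.frU e P M : GL (Fin m ⊕ Fin m) F) :
        Matrix (Fin m ⊕ Fin m) (Fin m ⊕ Fin m) F) *ᵥ Φ X = Φ (mm M X) := fun M X => by
    show _ = Φ (mmap M Xᵀ)ᵀ
    rw [CfsgLib.Aschbacher.frU_val, CfsgLib.Aschbacher.frAlg_apply, hΦ, hΦ]
    rw [mulVec_mulVec, mul_assoc, Units.inv_mul, mul_one, ← mulVec_mulVec, submatrix_mulVec_equiv,
      Function.comp_assoc, Equiv.self_comp_symm, Function.comp_id, Matrix.transpose_transpose, mmap_apply,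
      LinearEquiv.apply_symm_apply]
  have hmemK : ∀ (A : GL (Fin a) F) (B : GL (Fin b) F),
      (∀ x y, f₁ ((A : Matrix (Fin a) (Fin a) F) *ᵥ x) ((A : Matrix (Fin a) (Fin a) F) *ᵥ y) = f₁ x y) →
      (∀ x y, f₂ ((B : Matrix (Fin b) (Fin b) F) *ᵥ x) ((B : Matrix (Fin b) (Fin b) F) *ᵥ y) = f₂ x y) →
      ∃ g ∈ KK.map mm, ∀ c' x, g (vecMulVec c' x) =
        vecMulVec ((B : Matrix (Fin b) (Fin b) F) *ᵥ c') ((A : Matrix (Fin a) (Fin a) F) *ᵥ x) := by
    intro A B hA hBi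
    obtain ⟨M, hM⟩ : ∃ M : GL (Fin a × Fin b) F, (M : Matrix (Fin a × Fin b) (Fin a × Fin b) F) =
        (A : Matrix (Fin a) (Fin a) F) ⊗ₖ (B : Matrix (Fin b) (Fin b) F) :=
      ⟨((Matrix.isUnit_iff_isUnit_det
        ((A : Matrix (Fin a) (Fin a) F) ⊗ₖ (B : Matrix (Fin b) (Fin b) F))).2 (by
          rw [Matrix.det_kronecker]
          exact ((Matrix.isUnit_iff_isUnit_det _).1 A.isUnit).pow _ |>.mul
            (((Matrix.isUnit_iff_isUnit_det _).1 B.isUnit).pow _))).unit, rfl⟩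
    have hmM : ∀ c' x, mm M (vecMulVec c' x) =
        vecMulVec ((B : Matrix (Fin b) (Fin b) F) *ᵥ c') ((A : Matrix (Fin a) (Fin a) F) *ᵥ x) := fun c' x => by
      show (mmap M (vecMulVec c' x)ᵀ)ᵀ = _
      rw [mmap_kron hM, Matrix.transpose_mul, Matrix.transpose_mul, Matrix.transpose_transpose,
        Matrix.transpose_transpose, vecMulVec_mul, mul_vecMulVec, vecMul_transpose]
    have hiso : ∀ X Y, f (mm M X) (mm M Y) = f X Y := fun X Y => by
      refine ext_pure (A := (HF.lin (mm M Y)).comp (mm M).toLinearMap) (B := HF.lin Y) (fun c' x => ?_) X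
      show f (mm M (vecMulVec c' x)) (mm M Y) = f (vecMulVec c' x) Y
      rw [HF.swap, HF.swap Y]
      congr 1
      refine ext_pure (A := (HF.lin (mm M (vecMulVec c' x))).comp (mm M).toLinearMap)
        (B := HF.lin (vecMulVec c' x)) (fun d y => ?_) Y
      show f (mm M (vecMulVec d y)) (mm M (vecMulVec c' x)) = f (vecMulVec d y) (vecMulVec c' x)
      rw [hmM, hmM, hfp, hfp, hA, hBi]
    refine ⟨_, ⟨M, hK ⟨⟨M, ⟨A, B, hM⟩, rfl⟩, fun u v => ?_⟩, rfl⟩, hmM⟩
    obtain ⟨X, rfl⟩ := hΦsurj u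
    obtain ⟨Y, rfl⟩ := hΦsurj v
    show Cfsg.sympForm m F (_ *ᵥ Φ X) (_ *ᵥ Φ Y) = _
    erw [hact, hact]
    rw [hcf, hcf, hiso]
  have O : SO f₂ f₁ f (KK.map mm) :=
    { h1 := H1
      h2 := H2
      h := HF
      f_pure := hfp
      isom := by
        rintro _ ⟨M, hM, rfl⟩ X Y
        show c⁻¹ * Cfsg.sympForm m F (Φ (mm M X)) (Φ (mm M Y)) = _
        rw [← hact, ← hact]
        erw [hKG hM (Φ X) (Φ Y)]
      left := fun L hL => by
        obtain ⟨B, hB'⟩ := isom_matrix f₂ H1.nondeg H1.zero_left L hL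
        obtain ⟨g, hg, hgX⟩ := hmemK 1 B (fun x y => by simp) (fun x y => by rw [hB', hB', hL])
        exact ⟨g, hg, fun c' x => by rw [hgX, hB', Units.val_one, one_mulVec]⟩
      right := fun v l => by
        let T : (Fin a → F) →ₗ[F] (Fin a → F) := LinearMap.id + (l • H2.lin v).smulRight v
        have hT' : ∀ x, T x = x + (l * f₁ x v) • v := fun x => rfl
        have hTi : ∀ x y, f₁ (T x) (T y) = f₁ x y := fun x y => by
          simp only [hT', H2.add_left, H2.add_right, H2.smul_left, H2.smul_right, H2.self, H2.swap y v]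
          ring
        obtain ⟨A, hA⟩ := isom_matrix f₁ H2.nondeg H2.zero_left T hTi
        obtain ⟨g, hg, hgX⟩ := hmemK A 1 (fun x y => by rw [hA, hA, hTi]) (fun x y => by simp)
        exact ⟨g, hg, fun c' x => by rw [hgX, hA, Units.val_one, one_mulVec, hT']⟩
      b3 := by rwa [Fintype.card_fin]
      a2 := by rwa [Fintype.card_fin]
      dims := by simpa only [Fintype.card_fin] using hdims
      small := by rwa [Fintype.card_fin, Nat.card_eq_fintype_card] }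
  obtain ⟨g₀, hg₀, hg₀n⟩ := SetLike.not_le_iff_exists.1 hin
  obtain ⟨M₀, rfl⟩ := (CfsgLib.Aschbacher.frU e P).surjective g₀
  obtain ⟨W, hW, hnp⟩ : ∃ W, Mem (KK.map mm) W ∧ NP W := by
    refine exists_np O (Subgroup.mem_map_of_mem _ (show M₀ ∈ KK from hg₀)) ?_
    rintro ⟨Ψ, Q', hform⟩
    have hform' : ∀ Z, mmap M₀ Z = Q'ᵀ * Z * Ψᵀ := fun Z => by
      have h : (mmap M₀ Zᵀᵀ)ᵀ = Ψ * Zᵀ * Q' := hform Zᵀ
      rw [Matrix.transpose_transpose] at h
      rw [← Matrix.transpose_transpose (mmap M₀ Z), h, Matrix.transpose_mul, Matrix.transpose_mul,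
        Matrix.transpose_transpose, Matrix.mul_assoc]
    have hMk : (M₀ : Matrix (Fin a × Fin b) (Fin a × Fin b) F) = Q'ᵀ ⊗ₖ Ψ := by
      refine Matrix.toLin'.injective (LinearMap.ext fun x => ?_)
      have h := hform' (flat.symm x)
      rw [mmap_apply, LinearEquiv.apply_symm_apply] at h
      rw [Matrix.toLin'_apply, Matrix.toLin'_apply, ← LinearEquiv.apply_symm_apply flat (_ *ᵥ x), h]
      funext ⟨i, j⟩
      show (Q'ᵀ * flat.symm x * Ψᵀ) i j = ((Q'ᵀ ⊗ₖ Ψ) *ᵥ x) (i, j)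
      simp only [Matrix.mulVec, dotProduct, Fintype.sum_prod_type, Matrix.mul_apply,
        Matrix.kroneckerMap_apply, Matrix.transpose_apply, Finset.sum_mul]
      rw [Finset.sum_comm]
      refine Finset.sum_congr rfl fun k _ => Finset.sum_congr rfl fun l _ => ?_
      show Q' k i * x (k, l) * Ψ j l = Q' k i * Ψ j l * x (k, l)
      ring
    have hdet : IsUnit (Q'ᵀ ⊗ₖ Ψ).det := hMk ▸ (Matrix.isUnit_iff_isUnit_det _).1 M₀.isUnit
    rw [Matrix.det_kronecker, IsUnit.mul_iff, Fintype.card_fin, Fintype.card_fin,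
      isUnit_pow_iff (by omega), isUnit_pow_iff (by omega)] at hdet
    exact hg₀n ⟨M₀, ⟨((Matrix.isUnit_iff_isUnit_det Q'ᵀ).2 hdet.1).unit,
      ((Matrix.isUnit_iff_isUnit_det Ψ).2 hdet.2).unit, hMk⟩, rfl⟩
  have hEx := ex_of_np O hW hnp
  refine CfsgLib.MaxSub.spGL_le_of_centre fun u l => ?_
  obtain ⟨Z, rfl⟩ := hΦsurj u
  obtain ⟨g, ⟨M, hM, rfl⟩, hgX⟩ := ctr_all O hEx Z (l * c)
  convert (show CfsgLib.Aschbacher.frU e P M ∈ K from hM) using 1
  refine Units.ext (Matrix.toLin'.injective (LinearMap.ext fun u => ?_))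
  obtain ⟨X, rfl⟩ := hΦsurj u
  rw [Matrix.toLin'_apply, Matrix.toLin'_apply, sT_mulVec, hact, hgX, map_add, map_smul, hcf, mul_assoc]

/-- The stabiliser of a tensor product of a symplectic and an orthogonal space is maximal. -/
theorem sp_tensor_maximal_of_dims [Fintype F] {a b m : ℕ} (hb : 3 ≤ b)
    (hdims : (a = 2 ∧ (b = 3 ∨ 5 ≤ b)) ∨ 3 ≤ a) (hq : Odd (Fintype.card F))
    (hsmall : 4 ≤ b ∨ 5 ≤ Fintype.card F) (e : (Fin m ⊕ Fin m) ≃ Fin a × Fin b)
    (P : GL (Fin m ⊕ Fin m) F) (f₁ : (Fin a → F) → (Fin a → F) → F)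
    (f₂ : (Fin b → F) → (Fin b → F) → F) (hf₁ : Cfsg.Geo.IsSymplecticForm f₁)
    (hf₂ : Cfsg.Geo.IsSymmetricForm f₂)
    (hT : Cfsg.Geo.IsTensorFormStructure id (Cfsg.sympForm m F) f₁ f₂ e P) :
    Cfsg.Geo.IsMaximalIn (Cfsg.spGL m F)
      (Cfsg.Geo.tensorProductSubgroup a b e P ⊓ Cfsg.spGL m F) :=
  sp_tensor_maximal_of hb hq hsmall e P f₁ f₂
    (hdims.imp_left fun h => ⟨h.1, h.2.imp_right Or.inl⟩) hf₁ hf₂ hT

/-- The stabiliser of a tensor product of a symplectic plane and an orthogonal space of dimension four of minus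
type is maximal. -/
theorem sp_tensor_maximal_minus [Fintype F] {m : ℕ} (hq : Odd (Fintype.card F))
    (e : (Fin m ⊕ Fin m) ≃ Fin 2 × Fin 4) (P : GL (Fin m ⊕ Fin m) F)
    (f₁ : (Fin 2 → F) → (Fin 2 → F) → F) (f₂ : (Fin 4 → F) → (Fin 4 → F) → F)
    (hf₁ : Cfsg.Geo.IsSymplecticForm f₁) (hf₂ : Cfsg.Geo.IsSymmetricForm f₂)
    (hmin : ¬ Cfsg.Geo.IsPlusTypeOn (fun v : Fin 4 → F => f₂ v v) ⊤)
    (hT : Cfsg.Geo.IsTensorFormStructure id (Cfsg.sympForm m F) f₁ f₂ e P) :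
    Cfsg.Geo.IsMaximalIn (Cfsg.spGL m F)
      (Cfsg.Geo.tensorProductSubgroup 2 4 e P ⊓ Cfsg.spGL m F) := by
  refine sp_tensor_maximal_of (by norm_num) hq (Or.inl le_rfl) e P f₁ f₂
    (Or.inl ⟨rfl, Or.inr (Or.inr ⟨rfl, fun U hU => ?_⟩)⟩) hf₁ hf₂ hT
  by_contra hc
  obtain ⟨x, hx⟩ := exists_linearIndependent_of_le_finrank (R := F) (M := U) (n := 2) (by omega)
  refine hmin ⟨Submodule.span F (Set.range fun i => ((x i : U) : Fin 4 → F)), le_top, fun u hu => ?_, ?_⟩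
  · exact hU u (Submodule.span_le.2 (by rintro _ ⟨i, rfl⟩; exact (x i).2) hu) u
      (Submodule.span_le.2 (by rintro _ ⟨i, rfl⟩; exact (x i).2) hu)
  · have h := finrank_span_eq_card (hx.map' U.subtype (Submodule.ker_subtype U))
    rw [Fintype.card_fin] at h
    rw [finrank_top, Module.finrank_fin_fun]
    exact congrArg (2 * ·) h

/-- The stabiliser of a tensor product of a symplectic and an orthogonal space is maximal, outside
dimensions two and three. -/
theorem sp_tensor_maximal [Fintype F] {a b m : ℕ} (hb : 3 ≤ b)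
    (hdims : (a = 2 ∧ 5 ≤ b) ∨ (b < a ∧ a < 2 * b ∧ Odd b)) (hq : Odd (Fintype.card F))
    (hsmall : 4 ≤ b ∨ 5 ≤ Fintype.card F) (e : (Fin m ⊕ Fin m) ≃ Fin a × Fin b)
    (P : GL (Fin m ⊕ Fin m) F) (f₁ : (Fin a → F) → (Fin a → F) → F)
    (f₂ : (Fin b → F) → (Fin b → F) → F) (hf₁ : Cfsg.Geo.IsSymplecticForm f₁)
    (hf₂ : Cfsg.Geo.IsSymmetricForm f₂)
    (hT : Cfsg.Geo.IsTensorFormStructure id (Cfsg.sympForm m F) f₁ f₂ e P) :
    Cfsg.Geo.IsMaximalIn (Cfsg.spGL m F)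
      (Cfsg.Geo.tensorProductSubgroup a b e P ⊓ Cfsg.spGL m F) :=
  sp_tensor_maximal_of_dims hb
    (hdims.imp (fun h => ⟨h.1, Or.inr h.2⟩) fun h => by omega) hq hsmall e P f₁ f₂ hf₁ hf₂ hT

end CfsgLib.MaxSub.TensorSympOrth
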